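import Mathlib
import Cfsg.Agent.H25.Co2
set_option autoImplicit false
set_option linter.all false
namespace Cfsg.Agent.L1Mon
open Cfsg.Agent.H25.Leech Cfsg.Spor
open Cfsg.Agent.H14 (GCode gC)
attribute [-simp] Fintype.sum_option Fintype.prod_option

/-- congruence modulo twice the lattice -/
def Cg (x y : L) : Prop := ∃ w : L, x = y + (w + w)

theorem Cg.refl (x : L) : Cg x x := ⟨0, by simp⟩
theorem Cg.symm {x y : L} (h : Cg x y) : Cg y x := by
  obtain ⟨w, rfl⟩ := h; exact ⟨-w, by abel⟩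
theorem Cg.trans {x y u : L} (h : Cg x y) (h' : Cg y u) : Cg x u := by
  obtain ⟨w, rfl⟩ := h; obtain ⟨w', rfl⟩ := h'; exact ⟨w' + w, by abel⟩
theorem Cg.smul {x y : L} (g : Co0) (h : Cg x y) : Cg (g • x) (g • y) := by
  obtain ⟨w, rfl⟩ := h; exact ⟨g • w, by simp only [g_add]⟩
theorem Cg.neg (x : L) : Cg (-x) x := ⟨-x, by abel⟩
theorem Cg.ex {x y : L} (h : Cg x y) : ∃ z ∈ L, x.1 - y.1 = 2 • z := by
  obtain ⟨w, rfl⟩ := h
  exact ⟨w.1, w.2, by simp [two_smul]⟩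

theorem cg_short {x y : L} (hx : sqNorm x.1 ≤ 64) (hy : sqNorm y.1 ≤ 64) (h : Cg x y) :
    x = y ∨ x = -y ∨ (sqNorm x.1 = 64 ∧ sqNorm y.1 = 64 ∧ dotInt x.1 y.1 = 0) := by
  rcases short x.2 y.2 hx hy h.ex with e | e | e
  · exact Or.inl (Subtype.ext e)
  · exact Or.inr (Or.inl (Subtype.ext e))
  · exact Or.inr (Or.inr e)

theorem cg32 {x y : L} (hx : sqNorm x.1 = 32) (hy : sqNorm y.1 = 32) (h : Cg x y) : x = y ∨ x = -y := by
  rcases cg_short (by omega) (by omega) h with e | e | e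
  · exact Or.inl e
  · exact Or.inr e
  · omega

theorem cg_norm {x y : L} (hx : sqNorm x.1 = 32) (hy : sqNorm y.1 = 64) : ¬ Cg x y := fun h => by
  rcases cg_short (by omega) (by omega) h with e | e | e
  · subst e; omega
  · subst e; rw [AddSubgroup.coe_neg, sq_neg] at hx; omega
  · omega

theorem not_dbl {x : L} (hx : sqNorm x.1 = 32 ∨ sqNorm x.1 = 48 ∨ sqNorm x.1 = 64) : ¬ ∃ w : L, x = w + w := by
  rintro ⟨w, rfl⟩
  have e : sqNorm (w + w).1 = 4 * sqNorm w.1 := by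
    rw [sq_add', show dt w w = _ from dot_self w.1]; ring
  by_cases h0 : w.1 = 0
  · rw [e, h0] at hx; simp [sqNorm] at hx
  · have := min_norm w.2 h0
    omega

theorem cg_e8 (i j : GolayPt) : Cg (e8 i) (e8 j) :=
  ⟨⟨_, four_e_mem i j (-1) (by simp)⟩, Subtype.ext (funext fun k => by simp [e8]; ring)⟩

theorem cross_of_cg {x : L} (hx : sqNorm x.1 = 64) (h : Cg x (e8 none)) : x.1 ∈ stdCross := by
  by_contra hc
  have : ∀ i, x.1 i = 0 := fun i => by
    rcases cg_short hx.le (sq_e8 i).le (h.trans (cg_e8 none i)) with e | e | e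
    · exact absurd (mem_cross.2 ⟨i, 1, by simp, by simp [e]⟩) hc
    · exact absurd (mem_cross.2 ⟨i, -1, by simp, by simp [e]⟩) hc
    · have := e.2.2
      rw [e8_eq, dot_single] at this
      omega
  rw [show x.1 = 0 from funext this] at hx
  simp [sqNorm] at hx

theorem NN_iff {k : Co0} : k ∈ NN ↔ Cg (k • e8 none) (e8 none) := by
  constructor
  · intro h
    obtain ⟨σ, c, rfl⟩ := mem_NN.1 h
    rw [mon_e8]
    split_ifs
    · exact (Cg.neg _).trans (cg_e8 _ _)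
    · exact cg_e8 _ _
  · intro h
    exact mem_NN_of fun i => cross_of_cg (by rw [g_sq, sq_e8]) (((cg_e8 i none).smul k).trans h)

theorem exists_pi (k : NN) : ∃ σ : M24, ∀ i, ∃ s : ℤ, s ≠ 0 ∧ k.1 • e8 i = s • e8 (σ.1 i) := by
  obtain ⟨σ, c, e⟩ := mem_NN.1 k.2
  exact ⟨σ, fun i => ⟨if σ.1 i ∈ c.1 then -1 else 1, by split_ifs <;> simp, by rw [e, mon_e8']⟩⟩

noncomputable def piF (k : NN) : M24 := (exists_pi k).choose

theorem piF_spec (k : NN) (i : GolayPt) : ∃ s : ℤ, s ≠ 0 ∧ k.1 • e8 i = s • e8 ((piF k).1 i) :=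
  (exists_pi k).choose_spec i

theorem piF_eq {k : NN} {σ : M24} (h : ∀ i, ∃ s : ℤ, s ≠ 0 ∧ k.1 • e8 i = s • e8 (σ.1 i)) : piF k = σ := by
  refine Subtype.ext (Equiv.ext fun i => ?_)
  obtain ⟨s, hs, e⟩ := piF_spec k i
  obtain ⟨t, _, e'⟩ := h i
  exact (e8_inj hs (e.symm.trans e')).1

/-- the permutation part of a monomial element -/
noncomputable def piN : NN →* M24 := MonoidHom.mk' piF fun a b => piF_eq fun i => by
  obtain ⟨s, hs, e⟩ := piF_spec b i
  obtain ⟨t, ht, e'⟩ := piF_spec a ((piF b).1 i)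
  refine ⟨s * t, mul_ne_zero hs ht, ?_⟩
  rw [Subgroup.coe_mul, mul_smul, e, g_zsmul, e', smul_smul]; rfl

theorem piN_mon (σ : M24) (c : GCode) : piN ⟨mon σ c, mon_mem σ c⟩ = σ :=
  piF_eq fun i => ⟨if σ.1 i ∈ c.1 then -1 else 1, by split_ifs <;> simp, mon_e8' σ c i⟩

noncomputable def secN : M24 →* NN := permHom.codRestrict NN fun σ => mon_mem σ _

theorem piN_sec (σ : M24) : piN (secN σ) = σ := piN_mon σ _

theorem piN_surj : Function.Surjective piN := fun σ => ⟨_, piN_sec σ⟩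

theorem neg1_NN : neg1 ∈ NN := NN_iff.2 (by rw [neg1_smul]; exact Cg.neg _)

theorem piN_neg1 : piN ⟨neg1, neg1_NN⟩ = 1 :=
  piF_eq fun i => ⟨-1, by simp, by simp [neg1_smul]⟩

theorem card_ker_piN : Nat.card piN.ker = 4096 := by
  have h := Subgroup.card_mul_index piN.ker
  rw [Subgroup.index_ker, MonoidHom.range_eq_top.2 piN_surj, Subgroup.card_top, H14.card_M24, card_NN] at h
  exact Nat.eq_of_mul_eq_mul_right (by norm_num) h

end Cfsg.Agent.L1Mon
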