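import Mathlib
import Cfsg.Prelude.Def_MonsterType
import Cfsg.Agent.L1.ES
import Cfsg.Agent.L1.MonL
import Cfsg.Agent.S5552
set_option autoImplicit false
set_option linter.all false
namespace Cfsg.Agent.L1Mon
open Cfsg.Agent.H25.Leech Cfsg.Spor Cfsg.Agent.L1ES Subgroup

variable {G : Type*} [Group G]

abbrev Cz (z : G) : Subgroup G := centralizer {z}

theorem mem_Cz {z x : G} : x ∈ Cz z ↔ x * z = z * x := mem_centralizer_singleton_iff

structure MT (z : G) (P : Subgroup G) {Y : Type*} [Group Y] (θ : Cz z →* Y) (f : Co0 →* Y)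
    (Rp : L → G → Prop) : Prop extends ES z P where
  card : Nat.card P = 2 ^ 25
  θs : Function.Surjective θ
  θk : ∀ h, θ h = 1 ↔ h.1 ∈ P
  fs : Function.Surjective f
  fk : ∀ k, f k = 1 ↔ k = 1 ∨ k = neg1
  rm : ∀ {v x}, Rp v x → x ∈ P
  rs : ∀ x ∈ P, ∃ v, Rp v x
  re : ∀ v, ∃ x, Rp v x
  ra : ∀ {v w x y}, Rp v x → Rp w y → Rp (v + w) (x * y)
  ru : ∀ {v x y}, Rp v x → (Rp v y ↔ y = x ∨ y = x * z)
  r1 : ∀ v, Rp v 1 ↔ ∃ w, v = w + w
  rg : ∀ {k h v x}, f k = θ h → Rp v x → Rp (k • v) (h.1 * x * h.1⁻¹)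

variable {z : G} {P : Subgroup G} {Y : Type*} [Group Y] {θ : Cz z →* Y} {f : Co0 →* Y} {Rp : L → G → Prop}

theorem MT.r_cg (h : MT z P θ f Rp) {v w : L} {x : G} (a : Rp v x) : Rp w x ↔ Cg w v := by
  constructor
  · intro b
    have c := h.ra b a
    have : Rp (w + v) 1 := (h.ru c).2 (by
      rcases h.sq x (h.rm a) with e | e
      · exact Or.inl e.symm
      · right; rw [e, h.zz])
    obtain ⟨u, hu⟩ := (h.r1 _).1 this
    exact ⟨u - v, by rw [eq_sub_of_add_eq hu]; abel⟩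
  · rintro ⟨u, rfl⟩
    simpa using h.ra a ((h.r1 _).2 ⟨u, rfl⟩)

theorem MT.lift (h : MT z P θ f Rp) (k : Co0) : ∃ c, f k = θ c := by
  obtain ⟨c, e⟩ := h.θs (f k); exact ⟨c, e.symm⟩

theorem MT.rz (h : MT z P θ f Rp) {v : L} : Rp v z ↔ ∃ w, v = w + w := by
  rw [← h.r1]
  exact ⟨fun a => (h.ru a).2 (Or.inr h.zz.symm), fun a => (h.ru a).2 (Or.inr (one_mul z).symm)⟩

theorem MT.ne (h : MT z P θ f Rp) {v : L} {x : G} (a : Rp v x)
    (hv : sqNorm v.1 = 32 ∨ sqNorm v.1 = 48 ∨ sqNorm v.1 = 64) : x ≠ 1 ∧ x ≠ z :=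
  ⟨fun e => not_dbl hv ((h.r1 v).1 (e ▸ a)), fun e => not_dbl hv (h.rz.1 (e ▸ a))⟩

open Classical in
noncomputable def qq (x : G) : ZMod 2 := if x * x = 1 then 0 else 1

def tt (u : ℤˣ) : ZMod 2 := if u = 1 then 0 else 1

theorem tt_mul (u v : ℤˣ) : tt (u * v) = tt u + tt v := by
  rcases Int.units_eq_one_or u with rfl | rfl <;> rcases Int.units_eq_one_or v with rfl | rfl <;> decide

theorem qq_mul (h : ES z P) {x y : G} (hx : x ∈ P) (hy : y ∈ P) :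
    qq (x * y) = qq x + qq y + tt (sg x y) := by
  have zx := h.cz x hx
  have zy := h.cz y hy
  have z1 := h.z1
  have e1 : x * y = y * x → x * y * (x * y) = x * x * (y * y) := fun e => by
    rw [mul_assoc, ← mul_assoc y, ← e]; group
  have e2 : x * y = y * x * z → x * y * (x * y) = x * x * (y * y) * z := fun e => by
    have : y * x = x * y * z := by rw [e, mul_assoc, h.zz, mul_one]
    rw [mul_assoc, ← mul_assoc y, this, mul_assoc (x * y), ← zy]; group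
  unfold qq sg tt
  rcases h.cm x hx y hy with e | e
  · rw [e1 e, if_pos e]
    rcases h.sq x hx with a | a <;> rcases h.sq y hy with b | b <;> simp [a, b, z1, h.zz] <;> decide
  · rw [e2 e, if_neg (fun e' : x * y = y * x => h.ne_mul _ (e'.symm.trans e))]
    rcases h.sq x hx with a | a <;> rcases h.sq y hy with b | b <;> simp [a, b, z1, h.zz] <;> decide

theorem qq_z (h : ES z P) {x : G} (hx : x ∈ P) : qq (x * z) = qq x := by
  have : x * z * (x * z) = x * x := by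
    rw [mul_assoc, ← mul_assoc z, ← h.cz x hx, mul_assoc x z z, h.zz, mul_one]
  unfold qq; rw [this]

theorem qq_conj (c x : G) : qq (c * x * c⁻¹) = qq x := by
  have : c * x * c⁻¹ * (c * x * c⁻¹) = 1 ↔ x * x = 1 := by
    rw [show c * x * c⁻¹ * (c * x * c⁻¹) = c * (x * x) * c⁻¹ by group]; simp
  unfold qq
  by_cases e : x * x = 1
  · rw [if_pos e, if_pos (this.2 e)]
  · rw [if_neg e, if_neg fun e' => e (this.1 e')]

theorem MT.qq_eq [Finite G] (h : MT z P θ f Rp) {v : L} {x : G} (a : Rp v x) :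
    qq x = ((sqNorm v.1 / 16 : ℤ) : ZMod 2) := by
  choose r hr using h.re
  have wd : ∀ {v x}, Rp v x → qq (r v) = qq x := fun {v x} a => by
    rcases (h.ru a).1 (hr v) with e | e
    · rw [e]
    · rw [e, qq_z h.toES (h.rm a)]
  rw [← wd a]
  refine S5552.result (fun v => qq (r v)) (fun v w => wd ((h.r_cg (hr (v + (w + w)))).2 (Cg.symm ⟨w, rfl⟩)) |>.symm)
    (fun u v w => ?_) (fun g v => ?_) ?_ v
  · have m := fun v => h.rm (hr v)
    beta_reduce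
    rw [wd (h.ra (h.ra (hr u) (hr v)) (hr w)), wd (h.ra (hr u) (hr v)), wd (h.ra (hr u) (hr w)),
      wd (h.ra (hr v) (hr w)), qq_mul h.toES (P.mul_mem (m u) (m v)) (m w), qq_mul h.toES (m u) (m v),
      qq_mul h.toES (m u) (m w), qq_mul h.toES (m v) (m w), sg_comm (r u * r v),
      h.toES.sg_mul (m w) (m u) (m v), tt_mul, sg_comm (r w), sg_comm (r w)]
    ring
  · obtain ⟨c, hc⟩ := h.lift g
    beta_reduce
    rw [wd (h.rg hc (hr v)), qq_conj]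
  · by_contra hc
    push Not at hc
    have s : ∀ x ∈ P, x * x = 1 := fun x hx => by
      obtain ⟨v, hv⟩ := h.rs x hx
      have := (wd hv).symm.trans (hc v)
      unfold qq at this
      by_contra n
      rw [if_neg n] at this
      exact absurd this (by decide)
    have := h.toES.ab_bound le_rfl fun x hx y hy => by
      have i : ∀ x ∈ P, x⁻¹ = x := fun x hx => inv_eq_of_mul_eq_one_right (s x hx)
      rw [← i _ (P.mul_mem hx hy), mul_inv_rev, i x hx, i y hy]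
    rw [h.card] at this
    norm_num at this

theorem MT.types [Finite G] (h : MT z P θ f Rp) {x : G} (hx : x ∈ P) (h1 : x ≠ 1) (h2 : x ≠ z) (h3 : x * x = 1) :
    ∃ y : L, Rp y x ∧ (sqNorm y.1 = 32 ∨ sqNorm y.1 = 64) := by
  obtain ⟨v, hv⟩ := h.rs x hx
  obtain ⟨y, w, rfl, hy⟩ := short_cases v
  have a : Rp y x := (h.r_cg hv).2 (Cg.symm ⟨w, rfl⟩)
  refine ⟨y, a, ?_⟩
  rcases hy with rfl | e | e | e
  · rcases (h.ru ((h.r1 0).2 ⟨0, by simp⟩)).1 a with e | e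
    · exact absurd e h1
    · exact absurd (e.trans (one_mul z)) h2
  · exact Or.inl e
  · have := h.qq_eq a
    unfold qq at this
    rw [if_pos h3, e] at this
    exact absurd this (by decide)
  · exact Or.inr e

theorem MT.conjC (h : MT z P θ f Rp) {y : L} {x x' : G} {k : Co0} (a : Rp y x) (b : Rp (k • y) x')
    (h1 : x ≠ 1) (h2 : x ≠ z) : ∃ c : Cz z, f k = θ c ∧ c.1 * x * c.1⁻¹ = x' := by
  obtain ⟨c, hc⟩ := h.lift k
  rcases (h.ru (h.rg hc a)).1 b with e | e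
  · exact ⟨c, hc, e.symm⟩
  · obtain ⟨u, hu, e'⟩ := h.toES.exists_conj (h.rm a) h1 h2
    refine ⟨c * ⟨u, mem_Cz.2 (h.cz u hu)⟩, by rw [map_mul, (h.θk ⟨u, _⟩).2 hu, mul_one, hc], ?_⟩
    have cz := mem_Cz.1 (inv_mem c.2)
    rw [e, Subgroup.coe_mul]
    calc c.1 * u * x * (c.1 * u)⁻¹ = c.1 * (u * x * u⁻¹) * c.1⁻¹ := by group
      _ = c.1 * x * (z * c.1⁻¹) := by rw [e']; group
      _ = _ := by rw [← cz]; group

/-- image in `Y` of a subgroup -/
abbrev im (θ : Cz z →* Y) (B : Subgroup G) : Subgroup Y := (B.subgroupOf (Cz z)).map θ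

theorem MT.stab (h : MT z P θ f Rp) {y : L} {s : G} (a : Rp y s) (h1 : s ≠ 1) (h2 : s ≠ z) (k : Co0) :
    f k ∈ im θ (Cz z ⊓ Cz s) ↔ Cg (k • y) y := by
  constructor
  · rintro ⟨c, hc, e⟩
    have := h.rg e.symm a
    rw [mem_Cz.1 (mem_subgroupOf.1 hc).2, mul_inv_cancel_right] at this
    exact (h.r_cg a).1 this
  · intro b
    obtain ⟨c, e, hc⟩ := h.conjC a ((h.r_cg a).2 b) h1 h2
    exact ⟨c, mem_subgroupOf.2 ⟨c.2, mem_Cz.2 (mul_inv_eq_iff_eq_mul.1 hc)⟩, e.symm⟩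

theorem MT.cardY (h : MT z P θ f Rp) : Nat.card Y = 4157776806543360000 := by
  have e := Subgroup.card_mul_index f.ker
  have k : f.ker = center Co0 := by ext k; rw [MonoidHom.mem_ker, h.fk, mem_center]
  rw [Subgroup.index_ker, MonoidHom.range_eq_top.2 h.fs, Subgroup.card_top, k, card_center, card_Co0] at e
  omega

theorem MT.cardθ (h : MT z P θ f Rp) {B : Subgroup G} (hB : B ≤ Cz z) :
    Nat.card (im θ B) * Nat.card ↥(B ⊓ P) = Nat.card B := by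
  have e := card_map_mul θ (B.subgroupOf (Cz z))
  have k : B.subgroupOf (Cz z) ⊓ θ.ker = (B ⊓ P).subgroupOf (Cz z) := by
    ext c; simp only [mem_inf, mem_subgroupOf, MonoidHom.mem_ker, h.θk]
  rw [k, Nat.card_congr (subgroupOfEquivOfLe hB).toEquiv,
    Nat.card_congr (subgroupOfEquivOfLe (inf_le_left.trans hB)).toEquiv] at e
  exact e

theorem MT.sym [Finite G] (h : MT z P θ f Rp) {t : G} {R : Subgroup G} (hR : ES t R) (cR : Nat.card R = 2 ^ 25)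
    (hz : z ∈ R) (hne : z ≠ t) : t ∈ P := by
  by_contra hn
  have c1 : 2 * Nat.card ↥(R ⊓ Cz z) = Nat.card R := hR.card_cent' hz h.z1 hne
  have c2 := h.cardθ (B := R ⊓ Cz z) inf_le_right
  have c3 : Nat.card ↥(R ⊓ Cz z ⊓ P) ≤ 4 := by
    have : ((R ⊓ Cz z ⊓ P : Subgroup G) : Set G) ⊆ {1, t, z, z * t} := by
      rintro x ⟨⟨a, b⟩, c⟩
      have := hR.cent4 hz a fun y hy e => by
        refine (hR.cm x a y hy).resolve_right fun e' => hn ?_
        have : t = x⁻¹ * (y⁻¹ * x * y⁻¹⁻¹) := by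
          rw [inv_inv, mul_assoc y⁻¹, e']; group
        rw [this]
        exact P.mul_mem (P.inv_mem c) (h.nm _ (mem_Cz.1 (inv_mem (mem_Cz.2 e.symm))) x c)
      simpa using this
    have := Set.ncard_le_ncard this
    rw [← Nat.card_coe_set_eq] at this
    refine this.trans ?_
    refine (Set.ncard_insert_le _ _).trans (Nat.succ_le_succ ((Set.ncard_insert_le _ _).trans
      (Nat.succ_le_succ ((Set.ncard_insert_le _ _).trans (by simp)))))
  have d1 : Nat.card (im θ (R ⊓ Cz z)) ∣ 4157776806543360000 := h.cardY ▸ Subgroup.card_subgroup_dvd_card _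
  have c4 : Nat.card ↥(R ⊓ Cz z) = 2 ^ 24 := by rw [cR] at c1; omega
  have d2 : Nat.card (im θ (R ⊓ Cz z)) ∣ 2 ^ 24 := c4 ▸ Dvd.intro _ c2
  have d3 := Nat.le_of_dvd (by norm_num) (Nat.dvd_gcd d1 d2)
  rw [show Nat.gcd 4157776806543360000 (2 ^ 24) = 2 ^ 21 by norm_num] at d3
  have := Nat.mul_le_mul d3 c3
  rw [c2, c4] at this
  norm_num at this

/-- a pair of extraspecial groups containing each other's centre -/
structure Pr (z : G) (P : Subgroup G) (s : G) (R : Subgroup G) : Prop where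
  es : ES s R
  card : Nat.card R = 2 ^ 25
  sP : s ∈ P
  zR : z ∈ R
  ne : s ≠ z

theorem MT.pr [Finite G] (h : MT z P θ f Rp) {g : G} (hs : g * z * g⁻¹ ∈ P) (hne : g * z * g⁻¹ ≠ z) :
    Pr z P (g * z * g⁻¹) (P.map (MulAut.conj g).toMonoidHom) := by
  refine ⟨h.toES.conj g, (card_cj P g).trans h.card, hs, mem_cj.2 ?_, hne⟩
  have := h.sym (h.toES.conj g⁻¹) ((card_cj P g⁻¹).trans h.card) (mem_cj.2 (by simpa using hs))
    (fun e => hne (by rw [inv_inv] at e; nth_rewrite 1 [e]; group))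
  simpa using this

variable {s : G} {R : Subgroup G}

theorem Pr.sq (h : ES z P) (p : Pr z P s R) {x : G} (a : x ∈ P ⊓ R) : x * x = 1 := by
  rcases h.sq x a.1 with e | e
  · exact e
  · rcases p.es.sq x a.2 with e' | e'
    · exact e'
    · exact absurd (e'.symm.trans e) p.ne

theorem Pr.cm (h : ES z P) (p : Pr z P s R) {x y : G} (a : x ∈ P ⊓ R) (b : y ∈ P ⊓ R) : x * y = y * x := by
  rcases h.cm x a.1 y b.1 with e | e
  · exact e
  · rcases p.es.cm x a.2 y b.2 with e' | e'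
    · exact e'
    · exact absurd (mul_left_cancel (e'.symm.trans e)) p.ne

theorem MT.cardE (h : MT z P θ f Rp) (p : Pr z P s R) :
    Nat.card (im θ (R ⊓ Cz z)) * Nat.card ↥(P ⊓ R) = 2 ^ 24 := by
  have c1 : 2 * Nat.card ↥(R ⊓ Cz z) = Nat.card R := p.es.card_cent' p.zR h.z1 p.ne.symm
  have c2 := h.cardθ (B := R ⊓ Cz z) inf_le_right
  have e : R ⊓ Cz z ⊓ P = P ⊓ R := le_antisymm (fun x hx => ⟨hx.2, hx.1.1⟩)
    fun x hx => ⟨⟨hx.2, mem_Cz.2 (h.cz x hx.1)⟩, hx.1⟩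
  rw [e] at c2
  rw [p.card] at c1
  omega

theorem MT.cardD_le [Finite G] (h : MT z P θ f Rp) (p : Pr z P s R) : Nat.card ↥(P ⊓ R) ≤ 2 ^ 13 := by
  have := h.toES.ab_bound (D := P ⊓ R) inf_le_left fun x a y b => p.cm h.toES a b
  rw [h.card] at this
  by_contra n
  nlinarith

theorem MT.cardE_ge [Finite G] (h : MT z P θ f Rp) (p : Pr z P s R) : 2 ^ 11 ≤ Nat.card (im θ (R ⊓ Cz z)) := by
  have a := h.cardE p
  have b := h.cardD_le p
  by_contra n
  nlinarith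

theorem MT.E_le (h : MT z P θ f Rp) (p : Pr z P s R) : im θ (R ⊓ Cz z) ≤ im θ (Cz z ⊓ Cz s) := by
  rintro _ ⟨c, hc, rfl⟩
  exact ⟨c, mem_subgroupOf.2 ⟨c.2, mem_Cz.2 (p.es.cz _ (mem_subgroupOf.1 hc).1)⟩, rfl⟩

theorem MT.E_nm (h : MT z P θ f Rp) (p : Pr z P s R) : ∀ x ∈ im θ (Cz z ⊓ Cz s), ∀ y ∈ im θ (R ⊓ Cz z),
    x * y * x⁻¹ ∈ im θ (R ⊓ Cz z) := by
  rintro _ ⟨c, hc, rfl⟩ _ ⟨d, hd, rfl⟩
  refine ⟨c * d * c⁻¹, mem_subgroupOf.2 ⟨?_, (c * d * c⁻¹).2⟩, by simp⟩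
  exact p.es.nm _ (mem_Cz.1 (mem_subgroupOf.1 hc).2) _ (mem_subgroupOf.1 hd).1

theorem MT.E_sq (h : MT z P θ f Rp) (p : Pr z P s R) : ∀ y ∈ im θ (R ⊓ Cz z), y * y = 1 := by
  rintro _ ⟨d, hd, rfl⟩
  rw [← map_mul, h.θk]
  rcases p.es.sq _ (mem_subgroupOf.1 hd).1 with e | e
  · exact (show (d * d).1 = 1 from e) ▸ one_mem _
  · exact (show (d * d).1 = s from e) ▸ p.sP

theorem MT.four (h : MT z P θ f Rp) {k : Co0} (e : f k * f k = 1) : k ^ 4 = 1 := by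
  rw [← map_mul, h.fk] at e
  rw [show k ^ 4 = k * k * (k * k) by rw [show 4 = 2 + 2 from rfl, pow_add, pow_two]]
  rcases e with e | e <;> rw [e]
  · exact one_mul 1
  · exact neg1_sq

theorem not_four {H : Type*} [Group H] [Finite H] (h3 : 3 ∣ Nat.card H) : ¬ ∀ x : H, x ^ 4 = 1 := fun h => by
  haveI : Fact (Nat.Prime 3) := ⟨by norm_num⟩
  obtain ⟨x, hx⟩ := exists_prime_orderOf_dvd_card' 3 h3
  have := orderOf_dvd_of_pow_eq_one (h x)
  rw [hx] at this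
  norm_num at this

theorem MT.type4 [Finite G] (h : MT z P θ f Rp) (p : Pr z P s R) : ∃ y : L, Rp y s ∧ sqNorm y.1 = 64 := by
  obtain ⟨y, a, hy⟩ := h.types p.sP p.es.z1 p.ne p.es.zz
  refine ⟨y, a, hy.resolve_left fun hy => ?_⟩
  have st := h.stab a p.es.z1 p.ne
  obtain ⟨g, rfl⟩ := trans32 sqU hy
  haveI := simple_C2
  haveI : IsSimpleGroup (St (g • U)) := (stEq1 g U).symm.isSimpleGroup
  have cd : Nat.card (St (g • U)) = 42305421312000 := (Nat.card_congr (stEq1 g U).toEquiv).symm.trans card_C2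
  generalize g • U = y at *
  let φ : St y →* Y := f.comp (St y).subtype
  have hφ : ∀ k, φ k ∈ im θ (Cz z ⊓ Cz s) := fun k => (st k.1).2 (by rw [show k.1 • y = y from k.2]; exact Cg.refl y)
  have nm : ((im θ (R ⊓ Cz z)).comap φ).Normal := ⟨fun n hn k => by
    rw [mem_comap, map_mul, map_mul, map_inv]; exact h.E_nm p _ (hφ k) _ hn⟩
  rcases nm.eq_bot_or_eq_top with e | e
  · have : im θ (R ⊓ Cz z) = ⊥ := by
      rw [eq_bot_iff]
      intro x hx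
      obtain ⟨k, rfl⟩ := h.fs x
      have fn : f (k * neg1) = f k := by rw [map_mul, (h.fk _).2 (Or.inr rfl), mul_one]
      rcases cg32 (by rw [g_sq, hy]) hy ((st k).1 (h.E_le p hx)) with b | b
      · have : (⟨k, b⟩ : St y) ∈ (⊥ : Subgroup (St y)) := e ▸ hx
        rw [show k = 1 from congrArg Subtype.val (mem_bot.1 this)]; simp
      · have b' : (k * neg1) • y = y := by rw [mul_smul, neg1_smul, g_neg, b, neg_neg]
        have : (⟨k * neg1, b'⟩ : St y) ∈ (⊥ : Subgroup (St y)) := e ▸ (show f (k * neg1) ∈ _ from fn ▸ hx)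
        rw [← fn, show k * neg1 = 1 from congrArg Subtype.val (mem_bot.1 this)]; simp
    have c := h.cardE_ge p
    rw [this, Subgroup.card_bot] at c
    norm_num at c
  · refine not_four (H := St y) (by rw [cd]; norm_num) fun k => Subtype.ext ?_
    have : k ∈ (im θ (R ⊓ Cz z)).comap φ := e ▸ mem_top k
    exact h.four (h.E_sq p _ this)

theorem MT.main [Finite G] (h : MT z P θ f Rp) (p : Pr z P s R) :
    Nat.card ↥(P ⊓ R) = 2 ^ 13 ∧ Nat.card (im θ (R ⊓ Cz z)) = 2 ^ 11 ∧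
    ∃ K : Subgroup Y, K ≤ im θ (Cz z ⊓ Cz s) ∧ im θ (R ⊓ Cz z) ⊓ K = ⊥ ∧
      im θ (R ⊓ Cz z) ⊔ K = im θ (Cz z ⊓ Cz s) ∧ Nonempty (K ≃* M24) := by
  obtain ⟨y, a, hy⟩ := h.type4 p
  have st := h.stab a p.es.z1 p.ne
  obtain ⟨g, rfl⟩ := trans64 (sq_e8 none) hy
  let φ : NN →* Y := f.comp ((MulAut.conj g).toMonoidHom.comp NN.subtype)
  have φe : ∀ k, φ k = f (g * k.1 * g⁻¹) := fun k => rfl
  have rg : φ.range = im θ (Cz z ⊓ Cz s) := by
    ext x
    obtain ⟨k, rfl⟩ := h.fs x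
    rw [st]
    constructor
    · rintro ⟨n, e⟩
      rw [← st, ← e, φe, st, mul_smul, mul_smul, inv_smul_smul]
      exact (NN_iff.1 n.2).smul g
    · intro b
      refine ⟨⟨g⁻¹ * k * g, NN_iff.2 ?_⟩, by rw [φe]; congr 1; group⟩
      have := b.smul g⁻¹
      rwa [inv_smul_smul, ← mul_smul, ← mul_smul] at this
  have hφ : ∀ k, φ k ∈ im θ (Cz z ⊓ Cz s) := fun k => rg ▸ ⟨k, rfl⟩
  have kφ : ∀ k, φ k = 1 ↔ k = 1 ∨ k = ⟨neg1, neg1_NN⟩ := fun k => by
    have c := (mem_center_iff.1 neg1_central g)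
    rw [φe, h.fk]
    refine or_congr (by simp) ?_
    rw [mul_inv_eq_iff_eq_mul, ← c, mul_left_cancel_iff]
    exact ⟨fun e => Subtype.ext e, fun e => congrArg Subtype.val e⟩
  have kπ : φ.ker ≤ piN.ker := fun k hk => by
    rcases (kφ k).1 hk with rfl | rfl
    · exact one_mem _
    · exact piN_neg1
  set E := im θ (R ⊓ Cz z) with hE
  have nm : (E.comap φ).Normal := ⟨fun n hn k => by
    rw [mem_comap, map_mul, map_mul, map_inv]; exact h.E_nm p _ (hφ k) _ hn⟩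
  haveI := H14.simple_M24
  have le : E.comap φ ≤ piN.ker := by
    rcases (nm.map piN piN_surj).eq_bot_or_eq_top with e | e
    · exact (Subgroup.map_eq_bot_iff _).1 e
    · refine (not_four (H := M24) (by rw [H14.card_M24]; norm_num) fun σ => ?_).elim
      obtain ⟨k, hk, rfl⟩ : σ ∈ (E.comap φ).map piN := e ▸ mem_top σ
      have : (g * k.1 * g⁻¹) ^ 4 = 1 := h.four (h.E_sq p _ hk)
      rw [conj_pow, mul_inv_eq_one, mul_eq_left] at this
      rw [← map_pow, show k ^ 4 = 1 from Subtype.ext this, map_one]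
  have me : (E.comap φ).map φ = E := map_comap_eq_self (rg ▸ h.E_le p)
  have c1 := card_map_mul φ (E.comap φ)
  have c2 : Nat.card φ.ker = 2 := by
    rw [Nat.card_eq_two_iff' (1 : φ.ker)]
    refine ⟨⟨⟨neg1, neg1_NN⟩, (kφ _).2 (Or.inr rfl)⟩, fun e => neg1_ne (congrArg (·.1.1) e), fun k hk => ?_⟩
    exact Subtype.ext (((kφ k.1).1 k.2).resolve_left fun e => hk (Subtype.ext e))
  rw [me, inf_eq_right.2 (ker_le_comap φ E), c2] at c1
  have c3 := card_le_of_le le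
  have c4 := h.cardE_ge p
  have c5 := h.cardE p
  rw [card_ker_piN] at c3
  rw [← hE] at c4 c5
  have cE : Nat.card E = 2 ^ 11 := by omega
  have eq : E.comap φ = piN.ker := eq_of_le_of_card_ge le (by rw [card_ker_piN]; omega)
  refine ⟨by rw [cE] at c5; omega, cE, (φ.comp secN).range, ?_, ?_, ?_, ?_⟩
  · rintro _ ⟨σ, rfl⟩; exact hφ _
  · rw [eq_bot_iff]
    rintro _ ⟨b, σ, rfl⟩
    have : secN σ ∈ piN.ker := eq ▸ b
    rw [MonoidHom.mem_ker, piN_sec] at this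
    rw [this, map_one]; exact one_mem _
  · refine le_antisymm (sup_le (h.E_le p) (by rintro _ ⟨σ, rfl⟩; exact hφ _)) ?_
    rw [← rg]
    rintro _ ⟨k, rfl⟩
    have : φ k = φ (k * (secN (piN k))⁻¹) * φ (secN (piN k)) := by rw [← map_mul]; simp
    rw [this]
    refine mul_mem (mem_sup_left ?_) (mem_sup_right ⟨piN k, rfl⟩)
    rw [← mem_comap, eq, MonoidHom.mem_ker, map_mul, map_inv, piN_sec, mul_inv_cancel]
  · refine ⟨(MonoidHom.ofInjective ((injective_iff_map_eq_one _).2 fun σ e => ?_)).symm⟩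
    exact (piN_sec σ).symm.trans (kπ e)

/-! ### bridge to the definitions -/

theorem setting_ES {z : G} {Q : Subgroup (Cz z)} [Q.Normal] {w : ℕ} (h : IsExtraspecialCentralizerSetting z Q w)
    (hq : ∀ a b : Q ⧸ center Q, a * b = b * a) (hs : ∀ a : Q ⧸ center Q, a * a = 1) :
    ES z (Q.map (Cz z).subtype) ∧ ∀ q : Q, q ∈ center Q ↔ q.1.1 = 1 ∨ q.1.1 = z := by
  obtain ⟨o2, hF, hE, -, -⟩ := h
  have z1 : z ≠ 1 := by rintro rfl; simp at o2
  have zz : z * z = 1 := by rw [← pow_two, ← o2, pow_orderOf_eq_one]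
  let z' : Cz z := ⟨z, mem_Cz.2 rfl⟩
  have zc : z' ∈ center (Cz z) := mem_center_iff.2 fun g => Subtype.ext (mem_Cz.1 g.2)
  have zQ : z' ∈ Q := by
    rw [← hF]
    refine mem_sup_right (le_sSup (a := center (Cz z)) ?_ zc)
    exact ⟨inferInstance, ⟨1, Subgroup.upperCentralSeries_one_eq_top_iff.2 inferInstance⟩⟩
  have zZ : (⟨z', zQ⟩ : Q) ∈ center Q := mem_center_iff.2 fun g => Subtype.ext (mem_center_iff.1 zc g.1)
  have ce : ∀ q : Q, q ∈ center Q ↔ q.1.1 = 1 ∨ q.1.1 = z := fun q => by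
    constructor
    · intro hq
      obtain ⟨y, -, hy⟩ := (Nat.card_eq_two_iff' (1 : center Q)).1 hE.2
      by_cases e : (⟨q, hq⟩ : center Q) = 1
      · exact Or.inl (congrArg (·.1.1.1) e)
      · have := (hy _ e).trans (hy ⟨_, zZ⟩ fun e => z1 (congrArg (·.1.1.1) e)).symm
        exact Or.inr (congrArg (·.1.1.1) this)
    · rintro (e | e)
      · rw [show q = 1 from Subtype.ext (Subtype.ext e)]; exact one_mem _
      · rw [show q = ⟨z', zQ⟩ from Subtype.ext (Subtype.ext e)]; exact zZ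
  refine ⟨⟨z1, zz, ⟨z', zQ, rfl⟩, ?_, ?_, ?_, ?_, ?_⟩, ce⟩
  · rintro _ ⟨x, -, rfl⟩; exact mem_Cz.1 x.2
  · rintro c hc _ ⟨x, hx, rfl⟩
    exact ⟨_, (inferInstance : Q.Normal).conj_mem x hx ⟨c, mem_Cz.2 hc⟩, rfl⟩
  · rintro _ ⟨x, hx, rfl⟩ hc
    exact (ce ⟨x, hx⟩).1 (mem_center_iff.2 fun y => Subtype.ext (Subtype.ext (hc _ ⟨y.1, y.2, rfl⟩).symm))
  · rintro _ ⟨x, hx, rfl⟩ _ ⟨y, hy, rfl⟩
    have := hq (QuotientGroup.mk ⟨y, hy⟩) (QuotientGroup.mk ⟨x, hx⟩)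
    rw [← QuotientGroup.mk_mul, ← QuotientGroup.mk_mul, QuotientGroup.eq, ce] at this
    rcases this with e | e
    · exact Or.inl (inv_mul_eq_one.1 e).symm
    · exact Or.inr (inv_mul_eq_iff_eq_mul.1 e)
  · rintro _ ⟨x, hx, rfl⟩
    have := hs (QuotientGroup.mk ⟨x, hx⟩)
    rwa [← QuotientGroup.mk_mul, QuotientGroup.eq_one_iff, ce] at this

def RpOf {z : G} {Q : Subgroup (Cz z)} (ψ : L → Q ⧸ center Q) (v : L) (x : G) : Prop :=
  ∃ q : Q, q.1.1 = x ∧ ψ v = QuotientGroup.mk q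

theorem bridge {z : G} {Q : Subgroup (Cz z)} [Q.Normal] (h : IsExtraspecialCentralizerSetting z Q 12)
    {e : Cz z ⧸ Q ≃* Co1} {ψ : L → Q ⧸ center Q} (hψ : IsLeechModTwoIso Q e ψ) :
    MT z (Q.map (Cz z).subtype) (QuotientGroup.mk' Q) (e.symm.toMonoidHom.comp mk1) (RpOf ψ) := by
  obtain ⟨ad, sj, kr, eq⟩ := hψ
  obtain ⟨es, ce⟩ := setting_ES h (fun a b => by
    obtain ⟨a, rfl⟩ := sj a; obtain ⟨b, rfl⟩ := sj b; rw [← ad, ← ad, add_comm]) (fun a => by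
    obtain ⟨a, rfl⟩ := sj a; rw [← ad, kr]; exact ⟨a, rfl⟩)
  refine ⟨es, (card_map_of_injective (Cz z).subtype_injective).trans h.2.2.2.1, QuotientGroup.mk'_surjective Q,
    fun c => ?_, e.symm.surjective.comp (QuotientGroup.mk'_surjective _), fun k => ?_, ?_, ?_, fun v => ?_, ?_, ?_,
    fun v => ?_, ?_⟩
  · rw [QuotientGroup.mk'_apply, QuotientGroup.eq_one_iff]
    exact ⟨fun a => ⟨c, a, rfl⟩, by rintro ⟨d, a, b⟩; rwa [← Subtype.ext b]⟩
  · show e.symm (QuotientGroup.mk k) = 1 ↔ _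
    rw [MulEquiv.map_eq_one_iff, QuotientGroup.eq_one_iff, mem_center]
  · rintro v _ ⟨q, rfl, -⟩; exact ⟨q.1, q.2, rfl⟩
  · rintro _ ⟨x, hx, rfl⟩
    obtain ⟨v, hv⟩ := sj (QuotientGroup.mk ⟨x, hx⟩)
    exact ⟨v, _, rfl, hv⟩
  · obtain ⟨q, hq⟩ := QuotientGroup.mk_surjective (ψ v)
    exact ⟨_, q, rfl, hq.symm⟩
  · rintro v w _ _ ⟨q, rfl, a⟩ ⟨r, rfl, b⟩
    exact ⟨q * r, rfl, by rw [ad, a, b]; rfl⟩
  · rintro v _ y ⟨q, rfl, a⟩
    constructor
    · rintro ⟨r, rfl, b⟩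
      rw [a, QuotientGroup.eq, ce] at b
      rcases b with b | b
      · exact Or.inl (inv_mul_eq_one.1 b).symm
      · exact Or.inr (inv_mul_eq_iff_eq_mul.1 b)
    · rintro (rfl | rfl)
      · exact ⟨q, rfl, a⟩
      · obtain ⟨z', zQ, e'⟩ := es.zm
        refine ⟨q * ⟨z', zQ⟩, congrArg (q.1.1 * ·) e', ?_⟩
        rw [a, QuotientGroup.eq, ce, inv_mul_cancel_left]
        exact Or.inr e'
  · rw [← kr]
    constructor
    · rintro ⟨q, a, b⟩
      rw [b, show q = 1 from Subtype.ext (Subtype.ext a)]; rfl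
    · exact fun a => ⟨1, rfl, a⟩
  · rintro k c v _ a ⟨q, rfl, b⟩
    exact ⟨_, rfl, eq c k (e.symm_apply_eq.1 a) v q b⟩

theorem MT.four_iff [Finite G] (h : MT z P θ f Rp) (h0 : ∃ g, g * z * g⁻¹ ∈ P ∧ g * z * g⁻¹ ≠ z) {x : G} :
    (IsConj z x ∧ x ≠ z ∧ x ∈ P) ↔ ∃ v : L, sqNorm v.1 = 64 ∧ Rp v x := by
  constructor
  · rintro ⟨a, b, c⟩
    obtain ⟨g, rfl⟩ := isConj_iff.1 a
    obtain ⟨y, d, e⟩ := h.type4 (h.pr c b)
    exact ⟨y, e, d⟩
  · rintro ⟨v, hv, a⟩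
    obtain ⟨g, b, c⟩ := h0
    have p := h.pr b c
    obtain ⟨y, d, e⟩ := h.type4 p
    obtain ⟨k, rfl⟩ := trans64 e hv
    obtain ⟨u, -, hu⟩ := h.conjC d a p.es.z1 c
    exact ⟨isConj_iff.2 ⟨u.1 * g, by rw [← hu]; group⟩, (h.ne a (by simp [hv])).2, h.rm a⟩

theorem mem_map_iff {z : G} {Q : Subgroup (Cz z)} {s : G} :
    s ∈ Q.map (Cz z).subtype ↔ ∃ hsc : s ∈ Cz z, (⟨s, hsc⟩ : Cz z) ∈ Q :=
  ⟨by rintro ⟨x, a, rfl⟩; exact ⟨x.2, a⟩, fun ⟨a, b⟩ => ⟨_, b, rfl⟩⟩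

theorem setting_ex {z : G} {Q : Subgroup (Cz z)} {w : ℕ} (h : IsExtraspecialCentralizerSetting z Q w) :
    ∃ g, g * z * g⁻¹ ∈ Q.map (Cz z).subtype ∧ g * z * g⁻¹ ≠ z := by
  obtain ⟨g, a, b⟩ := h.2.2.2.2
  exact ⟨g, mem_map_iff.2 a, b⟩

end Cfsg.Agent.L1Mon
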