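import Mathlib
import Cfsg.Agent.L1.Mon
import Cfsg.Agent.H29.ES
import Cfsg.Agent.H2.Components
set_option autoImplicit false
set_option linter.all false
namespace Cfsg.Agent.L1Mon
open Cfsg.Agent.H25.Leech Cfsg.Spor Cfsg.Agent.L1ES Subgroup
open Cfsg.Agent.H14 (GCode gC)

variable {G : Type*} [Group G]
variable {z : G} {P : Subgroup G} {Y : Type*} [Group Y] {θ : Cz z →* Y} {f : Co0 →* Y} {Rp : L → G → Prop}
variable {s : G} {R : Subgroup G}

theorem MT.twist (h : MT z P θ f Rp) (g : Co0) :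
    MT z P θ (f.comp (MulAut.conj g).toMonoidHom) fun v x => Rp (g • v) x where
  toES := h.toES
  card := h.card
  θs := h.θs
  θk := h.θk
  fs := h.fs.comp (MulAut.conj g).surjective
  fk := fun k => by
    have c := (mem_center_iff.1 neg1_central g)
    show f (g * k * g⁻¹) = 1 ↔ _
    rw [h.fk]
    refine or_congr (by simp) ?_
    rw [mul_inv_eq_iff_eq_mul, ← c, mul_left_cancel_iff]
  rm := h.rm
  rs := fun x hx => by
    obtain ⟨v, hv⟩ := h.rs x hx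
    exact ⟨g⁻¹ • v, by rwa [smul_inv_smul]⟩
  re := fun v => h.re _
  ra := fun a b => by rw [g_add]; exact h.ra a b
  ru := fun a => h.ru a
  r1 := fun v => by
    rw [h.r1]
    constructor
    · rintro ⟨w, e⟩
      exact ⟨g⁻¹ • w, by rw [← g_add, ← e, inv_smul_smul]⟩
    · rintro ⟨w, rfl⟩
      exact ⟨g • w, g_add _ _ _⟩
  rg := fun {k c v x} e a => by
    have := h.rg (k := g * k * g⁻¹) e a
    rwa [mul_smul, inv_smul_smul, mul_smul] at this

theorem MT.rinv (h : MT z P θ f Rp) {v : L} {x : G} (a : Rp v x) : Rp v x⁻¹ := by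
  refine (h.ru a).2 ?_
  rcases h.sq x (h.rm a) with e | e
  · exact Or.inl (inv_eq_of_mul_eq_one_right e)
  · exact Or.inr (inv_eq_of_mul_eq_one_right (by rw [← mul_assoc, e, h.zz]))

theorem MT.comm_iff [Finite G] (h : MT z P θ f Rp) {v w : L} {x y : G} (a : Rp v x) (b : Rp w y) :
    x * y = y * x ↔ (16 : ℤ) ∣ dotInt v.1 w.1 := by
  have e := qq_mul h.toES (h.rm a) (h.rm b)
  rw [h.qq_eq (h.ra a b), h.qq_eq a, h.qq_eq b, sq_add'] at e
  obtain ⟨i, hi⟩ := sixteen_dvd v.2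
  obtain ⟨j, hj⟩ := sixteen_dvd w.2
  obtain ⟨k, hk⟩ := eight_dvd v.2 w.2
  rw [show dt v w = _ from hk, hi, hj, show (16 * i + 16 * j + 2 * (8 * k)) / 16 = i + j + k by omega,
    show 16 * i / 16 = i by omega, show 16 * j / 16 = j by omega] at e
  push_cast at e
  have e' : (k : ZMod 2) = tt (sg x y) := by linear_combination e
  rw [hk, ← sg_eq_one, show (16 : ℤ) ∣ 8 * k ↔ ((2 : ℕ) : ℤ) ∣ k by omega, ← ZMod.intCast_zmod_eq_zero_iff_dvd, e']
  rcases Int.units_eq_one_or (sg x y) with u | u <;> rw [u] <;> decide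

theorem MT.signs [Finite G] (h : MT z P θ f Rp) (p : Pr z P s R) (a : Rp (e8 none) s) (k : NN) (hk : piN k = 1) :
    f k.1 ∈ im θ (R ⊓ Cz z) := by
  have st := h.stab a p.es.z1 p.ne
  let φ : NN →* Y := f.comp NN.subtype
  have rg : φ.range = im θ (Cz z ⊓ Cz s) := by
    ext x
    obtain ⟨k, rfl⟩ := h.fs x
    constructor
    · rintro ⟨n, e⟩
      rw [← e]
      exact (st _).2 (NN_iff.1 n.2)
    · intro b
      exact ⟨⟨k, NN_iff.2 ((st k).1 b)⟩, rfl⟩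
  have hφ : ∀ k, φ k ∈ im θ (Cz z ⊓ Cz s) := fun k => rg ▸ ⟨k, rfl⟩
  have kφ : ∀ k, φ k = 1 ↔ k = 1 ∨ k = ⟨neg1, neg1_NN⟩ := fun k => by
    show f k.1 = 1 ↔ _
    rw [h.fk]
    exact or_congr (by simp) ⟨fun e => Subtype.ext e, fun e => congrArg Subtype.val e⟩
  set E := im θ (R ⊓ Cz z) with hE
  have nm : (E.comap φ).Normal := ⟨fun n hn k => by
    rw [mem_comap, map_mul, map_mul, map_inv]; exact h.E_nm p _ (hφ k) _ hn⟩
  haveI := H14.simple_M24
  have le : E.comap φ ≤ piN.ker := by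
    rcases (nm.map piN piN_surj).eq_bot_or_eq_top with e | e
    · exact (Subgroup.map_eq_bot_iff _).1 e
    · refine (not_four (H := M24) (by rw [H14.card_M24]; norm_num) fun σ => ?_).elim
      obtain ⟨k, hk, rfl⟩ : σ ∈ (E.comap φ).map piN := e ▸ mem_top σ
      have : k.1 ^ 4 = 1 := h.four (h.E_sq p _ hk)
      rw [← map_pow, show k ^ 4 = 1 from Subtype.ext this, map_one]
  have me : (E.comap φ).map φ = E := map_comap_eq_self (rg ▸ h.E_le p)
  have c1 := card_map_mul φ (E.comap φ)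
  have c2 : Nat.card φ.ker = 2 := by
    rw [Nat.card_eq_two_iff' (1 : φ.ker)]
    refine ⟨⟨⟨neg1, neg1_NN⟩, (kφ _).2 (Or.inr rfl)⟩, fun e => neg1_ne (congrArg (·.1.1) e), fun k hk => ?_⟩
    exact Subtype.ext (((kφ k.1).1 k.2).resolve_left fun e => hk (Subtype.ext e))
  rw [me, inf_eq_right.2 (ker_le_comap φ E), c2] at c1
  have c4 := h.cardE_ge p
  rw [← hE] at c4
  have eq : E.comap φ = piN.ker := eq_of_le_of_card_ge le (by rw [card_ker_piN]; omega)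
  exact (eq.ge hk : φ k ∈ E)

def oc1 : GCode := ⟨gC.set 13062145, (H14.set_mem_gcode (by norm_num)).2 (by decide +kernel)⟩
def oc2 : GCode := ⟨gC.set 4038912, (H14.set_mem_gcode (by norm_num)).2 (by decide +kernel)⟩
def vo : L := ⟨_, two_ic_mem oc2.2⟩

theorem vo_sq : sqNorm (mon 1 oc1 • vo - vo).1 = 32 := by
  rw [AddSubgroup.coe_sub, mon_val]; decide +kernel

theorem vo_dot : (16 : ℤ) ∣ dotInt vo.1 (e8 none).1 := by decide +kernel

theorem MT.ex_two [Finite G] (h : MT z P θ f Rp) (p : Pr z P s R) : ∃ d ∈ R, ∃ y, Rp y d ∧ sqNorm y.1 = 32 := by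
  obtain ⟨y, a, hy⟩ := h.type4 p
  obtain ⟨g, rfl⟩ := trans64 (sq_e8 none) hy
  have h' := h.twist g
  obtain ⟨c, hc, e⟩ := h'.signs p a ⟨_, mon_mem 1 oc1⟩ (piN_mon _ _)
  obtain ⟨b, hb⟩ := h'.re vo
  have cb := (h'.comm_iff hb a).2 vo_dot
  have r := h'.ra (h'.rg e.symm hb) (h'.rinv hb)
  refine ⟨c.1 * b * c.1⁻¹ * b⁻¹, ?_, g • (mon 1 oc1 • vo - vo), (h'.r_cg r).2 ⟨-vo, by abel⟩, by rw [g_sq, vo_sq]⟩
  have m : c.1 ∈ R := (mem_subgroupOf.1 hc).1
  have := R.mul_mem m (p.es.nm b cb _ (R.inv_mem m))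
  rwa [← mul_assoc, ← mul_assoc] at this

theorem Pr.conj (h : ES z P) (p : Pr z P s R) (c : Cz z) :
    Pr z P (c.1 * s * c.1⁻¹) (R.map (MulAut.conj c.1).toMonoidHom) := by
  have cz := mem_Cz.1 c.2
  refine ⟨p.es.conj _, (card_cj _ _).trans p.card, h.nm _ cz _ p.sP, mem_cj.2 ?_, fun e => p.ne ?_⟩
  · rw [mul_assoc, ← cz, inv_mul_cancel_left]; exact p.zR
  · rw [mul_inv_eq_iff_eq_mul, ← cz] at e
    exact mul_left_cancel e

theorem MT.ex_pr [Finite G] (h : MT z P θ f Rp) (h0 : ∃ g, g * z * g⁻¹ ∈ P ∧ g * z * g⁻¹ ≠ z) {t : G} {y : L}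
    (a : Rp y t) (hy : sqNorm y.1 = 32) : ∃ s R, Pr z P s R ∧ t ∈ R := by
  obtain ⟨g, b, c⟩ := h0
  have p := h.pr b c
  obtain ⟨d, dR, w, e, hw⟩ := h.ex_two p
  obtain ⟨k, rfl⟩ := trans32 hw hy
  obtain ⟨u, -, rfl⟩ := h.conjC e a (h.ne e (by simp [hw])).1 (h.ne e (by simp [hw])).2
  exact ⟨_, _, p.conj h.toES u, mem_cj.2 (by simpa [mul_assoc] using dR)⟩

theorem MT.fuse [Finite G] (h : MT z P θ f Rp) (h0 : ∃ g, g * z * g⁻¹ ∈ P ∧ g * z * g⁻¹ ≠ z) {t : G} {y : L}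
    (a : Rp y t) (hy : sqNorm y.1 = 32) :
    ∃ u s, u * t = t * u ∧ u * z * u⁻¹ = z * s ∧ s ∈ P ∧ s * t = t * s ∧ s ≠ 1 ∧ s ≠ t := by
  obtain ⟨s, R, p, tR⟩ := h.ex_pr h0 a hy
  obtain ⟨w, b, hw⟩ := h.type4 p
  have n1 : ¬ Rp w t := fun c => cg_norm hy hw ((h.r_cg c).1 a)
  have : ¬ ∀ u ∈ R, t * u = u * t → z * u = u * z := fun c => by
    rcases p.es.cent4 tR p.zR c with e | e | e | e
    · exact h.z1 e
    · exact p.ne e.symm
    · exact (h.ne a (by simp [hy])).2 e.symm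
    · refine n1 ((h.ru b).2 (Or.inr ?_))
      rw [h.cz s p.sP, e, mul_assoc, p.es.zz, mul_one]
  push Not at this
  obtain ⟨u, uR, c, d⟩ := this
  refine ⟨u, s, c.symm, ?_, p.sP, (p.es.cz t tR).symm, p.es.z1, fun e => n1 (e ▸ b)⟩
  rw [(p.es.cm u uR z p.zR).resolve_left fun e => d e.symm, mul_assoc z u s, p.es.cz u uR]; group

theorem ex_move : ∃ k : C2, k.1 • U' ≠ U' ∧ k.1 • U' ≠ -U' := by
  by_contra hc
  push Not at hc
  have : MulAction.orbit C2 U' ⊆ {U', -U'} := by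
    rintro _ ⟨k, rfl⟩
    by_cases e : k.1 • U' = U'
    · exact Or.inl e
    · exact Or.inr (hc k e)
  have := Set.ncard_le_ncard this
  rw [n_C2] at this
  have := this.trans (Set.ncard_insert_le _ _)
  simp at this

/-- assembling the setting -/
theorem setting_of {K S : Type*} [Group K] [Finite K] [Group S] [Finite S] {x : K} (l : Cz x →* S)
    (hl : Function.Surjective l) (hS : pCore 2 S = ⊥) {w : ℕ} (es : H29.ES l.ker ⟨x, mem_Cz.2 rfl⟩)
    (hc : centralizer (l.ker : Set (Cz x)) ≤ l.ker) (card : Nat.card l.ker = 2 ^ (2 * w + 1))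
    (nw : ∃ g : K, (∃ hq : g * x * g⁻¹ ∈ Cz x, (⟨g * x * g⁻¹, hq⟩ : Cz x) ∈ l.ker) ∧ g * x * g⁻¹ ≠ x) :
    IsExtraspecialCentralizerSetting x l.ker w := by
  haveI : Fact (Nat.Prime 2) := ⟨Nat.prime_two⟩
  have e : pCore 2 (Cz x) = l.ker := by
    refine le_antisymm ?_ (H2.le_pCore es.pgrp)
    have := H2.pCore_map_le (p := 2) hl
    rwa [hS, le_bot_iff, Subgroup.map_eq_bot_iff] at this
  refine ⟨?_, ?_, es.isExtraspecial, card, nw⟩
  · have := es.ord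
    rwa [← Subgroup.orderOf_coe] at this
  · rw [← e, H2.generalizedFitting_eq_pCore_iff, e]; exact hc

theorem pCore_simple {S : Type*} [Group S] [Finite S] [IsSimpleGroup S] (h3 : 3 ∣ Nat.card S) : pCore 2 S = ⊥ := by
  haveI : Fact (Nat.Prime 2) := ⟨Nat.prime_two⟩
  haveI := H2.pCore_characteristic (p := 2) (G := S)
  refine (inferInstance : (pCore 2 S).Normal).eq_bot_or_eq_top.resolve_right fun e => ?_
  obtain ⟨n, hn⟩ := (H2.pCore_eq_top_iff.1 e).exists_card_eq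
  rw [hn] at h3
  exact absurd (Nat.Prime.dvd_of_dvd_pow (by norm_num) h3) (by norm_num)

end Cfsg.Agent.L1Mon
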