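import Cfsg.Agent.L1.O8I
import Cfsg.Agent.L1.AuQ2
import Cfsg.Agent.S0245
import Cfsg.Agent.S0246
set_option autoImplicit false
set_option maxRecDepth 100000

namespace Cfsg.Agent.L1AF
open Cfsg.Agent.H15 Cfsg.Agent.H14 Subgroup L1O8

def Ws : List (List ℕ) := [[0], [1], [2], [3], [4], [5], [6], [9, 1, 13, 12, 13, 1, 9], [8], [6, 4, 2, 9, 0, 9, 2, 4, 6], [4, 10, 1, 0, 1, 10, 4], [8, 11, 0, 11, 8], [12], [6, 13, 3, 2, 1, 2, 3, 13, 6]]
def pS : List ℕ := [0, 695, 1, 3, 11, 29, 45, 259, 33, 780, 1652, 1140, 3457, 2134]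
def uS : List (List ℕ) := [[], [], [], [], [], [], [], [9, 1, 13], [], [6, 4, 2, 9], [4, 10, 1], [8, 11], [], [6, 13, 3, 2]]
def lS : List ℕ := [0, 1, 2, 3, 4, 5, 6, 12, 8, 0, 0, 0, 12, 1]
def cc : List ℕ := [5, 6, 5, 4, 5, 6, 7, 9, 1, 13, 12, 13, 1, 9, 0, 2, 1, 0, 2, 1]
def I360 : PL := ⟨0xdb500db400db300db200db100db000daf00dae00dad00dab00daa00da900da700da500da400da200da100da000d9f00d9e00d9d00d9c00d9b00d9a00d9900d9800d9700d9600d9500d9400d9300d9200d9100d9000d8f00d8e00d8d00d8c00d8b00d8a00d8900d8800d8700d8600d8500d8400d8300d8200d8100d7d00d7c00d7a00d7900d7800d7700d7600d7100d7000d6f00d6d00d6b00d6800d6500d6400d5500d5400d5300d5200d5100d5000d4f00d4e00d4d00d4c00d4b00d4a00d4900d4800d4700d4600d4500d4400d4300d4200d4100d4000d3f00d3e00d3d00d3c00d3b00d3a00d3900d3800d3700d3600d2d00d2c00d2b00d2a00d2900d2800d2700d2600d2500d2100d2000d1f00d1e00d1d00d1c00d1b00d1a00d1900d1800d1700d1600d1500d1200d1100d1000d0e00d0b00d0900cf700ceb00cea00ce700ce100cba00cb900cb800cb700cb600cb500cb400cb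300cb200cb100cad00cac00cab00caa00ca900ca800ca700ca600ca500ca400ca300ca200ca100ca000c9e00c9c00c9b00c9900c9800c9600c9500c9300c8000c7f00c7e00c7d00c7c00c7b00c7a00c7900c6f00c6e00c6d00c6a00c6800c6600c6500c6400c6200c6000c5c00c2e00bd900bd800bd700bd600bd500bd400bd300bd100bcc00bcb00bc900bc800bc600bc500bc300bc200bc000bbf00bbc00bbb00bb800bb500bb200bb100baa00ba900b8c00b8b00b8a00b8800b7900b7200b6b00abc00abb00aba00ab800ab700ab400aab00aa800aa500aa400aa100a9d00a9900a9600a9500a9200a8e00a59009f1009f0009c700994009930098f009810097e0097a00977008e8008e7008df008c9008bc0089d00881007f3007de007d4007c5007bc0072200710007090067d0067800609003ee003d6003c1003c0003ab003aa003970039600383003820037200370003600035e003510034f003410033f00338003310032a003230031c00310002ca002c6002c3002c0002be002bc002bb002ba002b9002b8002b7002b60028b0028a0026c0024e0024d0024c00211002040020300201001c3001b7001b40018000172000e2000d2000bf000b7000a8000a70009500094000860008500084000830007d00075000740006700066000650005f0005c0005b0005500054000520004a00049000470004400042000400003f0003e0002d00027000210001e0001d0001500014000100000c0000b00008000060000400003000020000100000,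 360, 0⟩
def I64 : PL := ⟨0x28b0028a0026c0024e0024d0024c00211002040020300201001c3001b7001b40018000172000e2000d2000bf000b7000a8000a70009500094000860008500084000830007d00075000740006700066000650005f0005c0005b0005500054000520004a00049000470004400042000400003f0003e0002d00027000210001e0001d0001500014000100000c0000b00008000060000400003000020000100000, 64, 0⟩
def I72 : PL := ⟨0xc3600c3500c1900b7000b6f00b4b00b4800b4700b2600b1400b1300b1200ae800ae700a6a00a6900a6800a3800a3700a00009ff009fe009da009d9009c9009c8009a8009350093400905008cb008ca008ab0089e00819007c60041f00406003ef003d70028b0028a0026c0024e0024d0020300180000e2000bf000b7000a7000860008500084000830007d000650005f0005c0005b000490003f0003e0002d00027000210001e0001d000140000b0000100000, 72, 0⟩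

/-- the fixed points of an automorphism -/
def Fx {G : Type*} [Group G] (φ : MulAut G) : Subgroup G := φ.toMonoidHom.eqLocus (MonoidHom.id G)

theorem mem_Fx {G : Type*} [Group G] {φ : MulAut G} {g : G} : g ∈ Fx φ ↔ φ g = g := Iff.rfl

theorem Fx_card {G : Type*} [Group G] {φ ψ : MulAut G} (h : IsConj φ ψ) : Nat.card (Fx φ) = Nat.card (Fx ψ) := by
  obtain ⟨c, rfl⟩ := isConj_iff.1 h
  refine Nat.card_congr (Equiv.subtypeEquiv c.toEquiv fun g => ?_)
  simp [mem_Fx]

theorem Fx_conj {G : Type*} [Group G] {φ : MulAut G} {g t : G} (hg : g ∈ Fx φ) (ht : φ t = t) :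
    φ (g * t * g⁻¹) = g * t * g⁻¹ := mul_mem (mul_mem hg (mem_Fx.2 ht)) (inv_mem hg)

noncomputable def clS (k : ℕ → Bool) (fuel : ℕ) : ℕ → List ℕ → Bool :=
  Nat.rec (motive := fun _ => ℕ → List ℕ → Bool) (fun _ _ => false)
    (fun _ ih p acc => frc (X22.τ.par p) fun l => Bool.rec
      (frc (X22.τ.ap p l) fun p' => ih p' (appL (nthW Ws l) acc))
      (frc (Nat.sub l 14) fun l' => Bool.rec false (frc (tr X22.τ.ap acc (nth pS l')) k)
        (Bool.rec (Nat.beq (X22.τ.pt l') p) false (Nat.ble 14 l')))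
      (Nat.ble 14 l)) fuel

noncomputable def sc (u : List ℕ) (I : PL) : Bool :=
  (okW 14 u && X22.τ.eqW (xw Ws u) u && X22.τ.eqW (appL u u) []) && frc I.mask fun U =>
    rall (fun p => clS (fun r => Bool.rec true (tb U p) (Nat.beq r p)) 6 p u) 0 3510 512

theorem cS : allLt 14 (fun l => (Nat.blt (nth pS l) X22.τ.n && okW X22.τ.L (nthW uS l) && Nat.blt (nth lS l) X22.τ.L &&
    Nat.beq (tr X22.τ.ap (nthW uS l) (nth pS l)) (X22.τ.pt (nth lS l))) && okW 14 (nthW Ws l) &&
    X22.τ.eqW (nthW Ws l) (appL (nthW uS l) (nth lS l :: invW id (nthW uS l))) &&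
    X22.τ.eqW (appL cc (xw L1AQ.W [l])) (appL (nthW Ws l) cc)) = true := by decide +kernel
theorem sc0 : sc [] I360 = true := by decide +kernel
theorem sc1 : sc [0] I64 = true := by decide +kernel
theorem sc2 : sc [0, 2] I72 = true := by decide +kernel

variable {G : Type*} [Group G] (M : PMod X22.τ G) {s : MulAut G}

theorem hs_of {q : MulAut G} (hw : ∀ u, okW 14 u = true → q (M.w u) = M.w (xw L1AQ.W u)) :
    ∀ l < 14, (MulAut.conj (M.w cc) * q) (M.e l) = M.w (nthW Ws l) := fun l hl => by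
  have h := allLt_iff.1 cS l hl
  simp only [Bool.and_eq_true] at h
  rw [← lprod_single (E := M.e), MulAut.mul_apply, hw [l] (okW_iff.2 (by simpa)), MulAut.conj_apply]
  exact M.conjW h.2

variable (hs : ∀ l < 14, s (M.e l) = M.w (nthW Ws l))
include hs

theorem s_w {u : List ℕ} (hu : okW 14 u = true) : s (M.w u) = M.w (xw Ws u) := by
  rw [show M.w (xw Ws u) = lprod (fun l => M.w (nthW Ws l)) u from lprod_subst _ _]
  exact (map_lprod s.toMonoidHom u).trans (lprod_congr fun x hx => hs x (okW_iff.1 hu x hx))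

theorem clS_spec {k : ℕ → Bool} (fuel : ℕ) : ∀ {p : ℕ} {acc : List ℕ}, p < 3510 → okW 14 acc = true →
    clS k fuel p acc = true → ∃ r < 3510, k r = true ∧ (M.w acc)⁻¹ * s (M.T p) * M.w acc = M.T r := by
  induction fuel with
  | zero => intro p _ _ _ h; exact absurd h Bool.false_ne_true
  | succ f ih =>
    intro p acc hp ha h
    have h' : (Bool.rec (clS k f (X22.τ.ap p (X22.τ.par p)) (appL (nthW Ws (X22.τ.par p)) acc))
        (Bool.rec false (k (tr X22.τ.ap acc (nth pS (X22.τ.par p - 14))))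
          (Bool.rec (Nat.beq (X22.τ.pt (X22.τ.par p - 14)) p) false
          (Nat.ble 14 (X22.τ.par p - 14)))) (Nat.ble 14 (X22.τ.par p)) : Bool) = true := h
    clear h
    generalize X22.τ.par p = l at h'
    cases h1 : Nat.ble 14 l <;> rw [h1] at h'
    · have hl := nble_false.mp h1
      have c := allLt_iff.1 cS l hl
      simp only [Bool.and_eq_true] at c
      obtain ⟨r, hr, hk, e⟩ := ih (M.lt p hp _ hl) (by
        rw [okW_iff] at ha ⊢
        intro a h
        rw [appL_eq] at h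
        exact (List.mem_append.1 h).elim (okW_iff.1 c.1.1.2 a) (ha a)) h'
      refine ⟨r, hr, hk, ?_⟩
      rw [← e, ← M.act p hp _ hl, M.w_app, ← hs l hl, map_mul, map_mul, M.einv, mul_inv_rev, ← map_inv s, M.einv]
      have h2 : s (M.e l) * s (M.e l) = 1 := by
        rw [← map_mul]; nth_rewrite 1 [← M.einv]; rw [inv_mul_cancel, map_one]
      have h3 : ∀ x : G, s (M.e l) * (s (M.e l) * x) = x := fun x => by rw [← mul_assoc, h2, one_mul]
      simp only [mul_assoc, h3]
    · cases h2 : Nat.ble 14 (l - 14) <;> rw [h2] at h'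
      · cases h3 : Nat.beq (X22.τ.pt (l - 14)) p <;> rw [h3] at h'
        · exact absurd h' Bool.false_ne_true
        · have hl := nble_false.mp h2
          have c := allLt_iff.1 cS _ hl
          rw [Bool.and_eq_true, Bool.and_eq_true, Bool.and_eq_true] at c
          have e := M.T_eq c.1.1.1
          have hp' : nth pS (l - 14) < 3510 := by
            have := c.1.1.1
            simp only [Bool.and_eq_true, Nat.blt_eq] at this
            exact this.1.1.1
          obtain ⟨t1, t2⟩ := M.tr_spec ha hp'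
          refine ⟨_, t1, h', ?_⟩
          rw [← t2, e, ← M.eqW c.1.2, ← hs _ hl, ← nbeq_iff.mp h3, M.Tpt _ hl]
      · exact absurd h' Bool.false_ne_true

theorem phi {u : List ℕ} (h : (okW 14 u && X22.τ.eqW (xw Ws u) u && X22.τ.eqW (appL u u) []) = true) (t : G) :
    (s * MulAut.conj (M.w u)) t = (M.w u)⁻¹ * s t * M.w u := by
  simp only [Bool.and_eq_true] at h
  have h1 : s (M.w u) = M.w u := (s_w M hs h.1.1).trans (M.eqW h.1.2)
  have h2 : (M.w u)⁻¹ = M.w u := inv_eq_of_mul_eq_one_left ((M.w_app u u).symm.trans (M.eqW h.2))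
  rw [MulAut.mul_apply, MulAut.conj_apply, h2, map_mul, map_mul, h1]

theorem cov {u : List ℕ} {I : PL} (h : sc u I = true) : M.Cov (fun t => (s * MulAut.conj (M.w u)) t = t) [] I := by
  rw [sc, Bool.and_eq_true, frc_eq] at h
  intro p hp hQ _
  have ok : okW 14 u = true := by have := h.1; simp only [Bool.and_eq_true] at this; exact this.1.1
  obtain ⟨r, hr, hk, e⟩ := clS_spec M hs 6 hp ok (RAll.of h.2 p (Nat.zero_le _) hp)
  rw [← phi M hs h.1, hQ] at e
  rw [← M.inj _ hp _ hr e, nbeq_iff.2 rfl] at hk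
  exact PL.mem_of_mask hk

theorem le_Fx {u : List ℕ} {gs : List (List ℕ)} (h : ((okW 14 u && X22.τ.eqW (xw Ws u) u && X22.τ.eqW (appL u u) []) &&
    allL gs fun g => okW 14 g && X22.τ.eqW (appL (xw Ws g) u) (appL u g)) = true) :
    gp M.e gs ≤ Fx (s * MulAut.conj (M.w u)) := gp_le.2 fun g hg => by
  rw [Bool.and_eq_true] at h
  have c := allL_iff.1 h.2 g hg
  rw [Bool.and_eq_true] at c
  have e := M.eqW c.2
  rw [M.w_app, M.w_app] at e
  rw [mem_Fx, phi M hs h.1, s_w M hs c.1, mul_assoc, e, inv_mul_cancel_left]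

variable [Finite G] (hM : X22.Gd M)
include hM

theorem Fx0 : Fx s = gp M.e gI := by
  have e0 : s * MulAut.conj (M.w []) = s := by simp
  have h1 : gp M.e gI ≤ Fx s := e0 ▸ le_Fx M hs (u := []) (by decide +kernel)
  refine le_antisymm (fun g hg => ?_) h1
  have h2 : ∀ x ∈ gp M.e gI, g * x * g⁻¹ ∈ gp M.e gI := fun x hx =>
    (gp_le (K := (gp M.e gI).comap (MulAut.conj g).toMonoidHom)).2 (fun w hw => by
      have hD := (M.tw_mem (gs := gI) (ts := tI) (by decide +kernel)).1 w hw
      obtain ⟨r, hr, -, a, ha, e⟩ := (cov M hs sc0).trans (gs := gI) (fuel := 361) (reps := [0]) (by decide +kernel)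
        (M.conj_mem g hD) (by rw [e0]; exact Fx_conj hg (h1 (mem_gp hw))) (by simp [PMod.Ps])
      obtain rfl := List.mem_singleton.1 hr
      have : M.T 0 ∈ gp M.e gI := (M.tw_mem (gs := gI) (ts := tI) (by decide +kernel)).2 (0, [], 0) (by decide)
      rw [← e] at this
      exact (mul_mem_cancel_left ha).1 ((mul_mem_cancel_right (inv_mem ha)).1 this)) hx
  obtain ⟨-, a1, -, -⟩ := M.rank2_spec (by norm_num) A22.rk5
  have EI : gp M.e [A22.x5, A22.y5] ≤ gp M.e gI := (EN M).trans ((NJ M).trans (JI M))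
  have EI' : (gp M.e [A22.x5, A22.y5]).map (MulAut.conj g).toMonoidHom ≤ gp M.e gI := by
    rintro _ ⟨x, hx, rfl⟩; exact h2 x (EI hx)
  obtain ⟨a, ha⟩ := sylow_conj (p := 5) (k := 2) (by norm_num) (cardI M hM) (by norm_num)
    (((gp M.e [A22.x5, A22.y5]).map (MulAut.conj g).toMonoidHom).subgroupOf (gp M.e gI))
    ((gp M.e [A22.x5, A22.y5]).subgroupOf (gp M.e gI))
    (by rw [Nat.card_congr (subgroupOfEquivOfLe EI').toEquiv, card_map_of_injective (MulAut.conj g).injective, a1])
    (by rw [Nat.card_congr (subgroupOfEquivOfLe EI).toEquiv, a1])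
  have : (a : G) * g ∈ normalizer (gp M.e [A22.x5, A22.y5] : Set G) := mem_normalizer_fintype fun x hx => by
    have : MulAut.conj a ⟨g * x * g⁻¹, h2 x (EI hx)⟩ ∈ (gp M.e [A22.x5, A22.y5]).subgroupOf (gp M.e gI) :=
      ha ▸ ⟨_, ⟨x, hx, rfl⟩, rfl⟩
    simpa [mem_subgroupOf, mul_assoc] using this
  exact (mul_mem_cancel_left a.2).1 (NE_le M hM this)

def t7 : List (List ℕ) := [[2], [3], [4], [5], [6], [8], [12, 5, 3, 12, 0, 12, 3, 5, 12]]
def g7 : List (List ℕ) := [[0, 2], [0, 3], [0, 4], [0, 5], [0, 6], [0, 8], [0, 12, 5, 3, 12, 0, 12, 3, 5, 12]]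
def ts7 : List (ℕ × List ℕ × ℕ) := [(1, [], 2), (3, [], 3), (11, [], 4), (29, [], 5), (45, [], 6), (33, [], 8), (125, [12, 5, 3, 12], 0)]

omit hs hM [Finite G] in
theorem w0 : M.w [0] = M.T 0 := (lprod_single _).trans (M.Tpt 0 (by decide +kernel)).symm

theorem Fx1 : Fx (s * MulAut.conj (M.w [0])) = Fx s ⊓ centralizer {M.w [0]} := by
  have h0 := phi M hs (u := [0]) (by decide +kernel)
  ext g
  rw [mem_inf, mem_Fx, mem_Fx, mem_centralizer_singleton_iff]
  refine ⟨fun hg => ?_, fun ⟨h1, h2⟩ => by rw [h0, h1, mul_assoc, h2, inv_mul_cancel_left]⟩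
  suffices c : g * M.w [0] = M.w [0] * g by
    refine ⟨?_, c⟩
    rw [h0, mul_assoc, inv_mul_eq_iff_eq_mul, ← c, mul_left_inj] at hg
    exact hg
  have f := le_Fx M hs (u := [0]) (gs := [0] :: t7) (by decide +kernel)
  obtain ⟨p, hp, e⟩ := M.norm g 0 (by decide +kernel)
  have c : I64.all (fun p => Nat.blt p 694 && (Nat.beq p 0 ||
    anyL t7 fun w => okW 14 w && !(Nat.beq (tr X22.τ.ap w p) p))) = true := by decide +kernel
  have h1 := PL.all_spec c (cov M hs sc1 p hp (by
    rw [← e, ← w0]; exact Fx_conj hg (f (mem_gp List.mem_cons_self))) (by simp [PMod.Ps]))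
  simp only [Bool.and_eq_true, Bool.or_eq_true, nbeq_iff, anyL_iff, Bool.not_eq_true', nbeq_false] at h1
  rcases h1.2 with rfl | ⟨w, hw, ok, ne⟩
  · rw [w0, ← mul_inv_eq_iff_eq_mul, e]
  · refine absurd ((M.comm_iff ok hp).1 ?_) ne
    obtain ⟨r, hr, e2⟩ := M.conj_mem g⁻¹ ((M.tw_mem (gs := t7) (ts := ts7) (by decide +kernel)).1 w hw)
    have h2 := PL.all_spec c (cov M hs sc1 r hr (by
      rw [e2]; exact Fx_conj (inv_mem (mem_Fx.2 hg)) (f (mem_gp (List.mem_cons_of_mem _ hw)))) (by simp [PMod.Ps]))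
    simp only [Bool.and_eq_true, Nat.blt_eq] at h2
    have h3 := ((hM.adj0 r hr).2 h2.1).symm
    rw [e2, inv_inv] at h3
    rw [← e, ← PMod.commute_conj (g := g)]
    simpa [mul_assoc] using h3

end Cfsg.Agent.L1AF

namespace Cfsg.Agent.L1AF
open Cfsg.Agent.H15 Cfsg.Agent.H14 Subgroup L1O8 Matrix

noncomputable def spG (l K : Type) [Fintype l] [DecidableEq l] [Field K] : symplecticGroup l K →* GL (l ⊕ l) K :=
  (Units.map (symplecticGroup l K).subtype).comp toUnits.toMonoidHom

theorem spG_inj (l K : Type) [Fintype l] [DecidableEq l] [Field K] : Function.Injective (spG l K) :=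
  (Units.map_injective Subtype.val_injective).comp toUnits.injective

def sC : List (List ℕ) := [[1, 128, 16384, 2097153, 268435456, 34359738368], [270532609, 270532736, 16384, 2097152, 268435456, 34359738368], [1, 128, 16384, 2097152, 268435584, 34359738368], [1, 268435584, 16384, 2097152, 268435456, 34359738368], [1, 128, 16384, 2097281, 268435585, 34359738368], [1, 128, 16384, 2097152, 268435456, 34359754752], [1, 34628173952, 34628190208, 2097152, 268435456, 34359738368]]
def sI : List (List ℕ) := [[1, 2, 4, 9, 16, 32], [25, 26, 4, 8, 16, 32], [1, 2, 4, 8, 18, 32], [1, 18, 4, 8, 16, 32], [1, 2, 4, 11, 19, 32], [1, 2, 4, 8, 16, 36], [1, 50, 52, 8, 16, 32]]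
noncomputable def lo : ℕ → ℕ := fun j => Nat.land (Nat.shiftRight 0x28b28a26c24e24d24c2112042032011c31b71b41801720e20d20bf0b70a80a709509408608508408307d07507406706606505f05c05b05505405204a04904704404204003f03e02d02702101e01d01501401000c00b008006004003002001 (Nat.mul j 12)) 4095
noncomputable def lx : ℕ → ℕ := fun j => Nat.land (Nat.shiftRight 0xfbd00000000000000000000000000000000000000000003c00000000000000000000000000000000000000000003beb9000000000000000000000000000000000000000000000000000000000000000000000000000000000000000e00000000000000000037d80d40000000000000000000000000000000000000000000000000000000000000000000000000000000000000000000d00000000000000000cc003200000000000000000000000000000000000000000000000000000000000000000000000000003100000000000000000003000000000000000000000000000000000000000000000000000000000000000000000000000000000000000000000000000000000000000000000000000000000000000000000000000000000000000000000000000000000000000000000000000000000000000000000002f00000000000000000000002e000000000000000000000000000b40000000000b0000000000000000000002ba80000000000000000000000000a680000000000000000000279a59000000008c00000000008a100000000000000000081f78000000074001c6c00000006990180000000000175805400140130124500000000000000000000000003c000000038000000034000c2c0000000000289000008000007180005004003081000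 (Nat.mul j 6)) 63
noncomputable def lb : ℕ → ℕ := fun j => Nat.land (Nat.shiftRight 0x141875d679c7d539d3cd14c97c9b4f61fb8da2de3c3fe6eeb59f2cefeedab1b2ba688240d31114094882822da6d8641 (Nat.mul j 6)) 63
noncomputable abbrev cS6 : Crd (ZMod 2) (Fin 3 ⊕ Fin 3) := crd1 2 finSumFinEquiv (by decide)
theorem sok : all2 sC cS6.okM sI = true := by decide +kernel
noncomputable abbrev sA := cS6.tab sC sI sok
theorem slab : labChk X22.τ.n 64 63 lo lx lb = true := by decide +kernel
def lwS5 : List (List ℕ) := [[5]]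
def lwT5 : List (List ℕ) := lwS5 ++ []
theorem lw5 : sA.Lower (gp sA.e lwT5) [32] 2 :=
  TabAct.Lower.step (k := 2) (TabAct.lower_nil _ _)
    (show stepOk (apL 2 6 sC) 7 (2 ^ 6) id lwS5 [] 32 2 = true by decide +kernel)
def lwS4 : List (List ℕ) := [[0, 1, 0, 2, 1, 0, 3, 2, 1, 6, 2, 1, 0, 3, 2, 1, 6, 2, 4, 3, 6, 4], [0, 1, 0, 2, 1, 0, 3, 2, 1, 5, 6, 2, 1, 0, 3, 2, 1, 6, 2, 4, 3, 6, 4]]
def lwT4 : List (List ℕ) := lwS4 ++ lwT5
theorem lw4 : sA.Lower (gp sA.e lwT4) [4, 32] 6 :=
  TabAct.Lower.step (k := 3) lw5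
    (show stepOk (apL 2 6 sC) 7 (2 ^ 6) id lwS4 lwT5 4 3 = true by decide +kernel)
def lwS3 : List (List ℕ) := [[2], [3, 2, 6, 2, 3], [3, 2, 5, 6, 2, 3], [0, 1, 0, 2, 1, 3, 6, 2, 1, 0, 4, 3, 6, 2, 1, 4]]
def lwT3 : List (List ℕ) := lwS3 ++ lwT4
theorem lw3 : sA.Lower (gp sA.e lwT3) [16, 4, 32] 48 :=
  TabAct.Lower.step (k := 8) lw4
    (show stepOk (apL 2 6 sC) 7 (2 ^ 6) id lwS3 lwT4 16 8 = true by decide +kernel)
def lwS2 : List (List ℕ) := [[3], [6], [2, 3], [2, 5], [0, 1, 0, 2, 1, 3, 6, 2, 1, 0, 4, 3, 6, 2, 1, 4]]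
def lwT2 : List (List ℕ) := lwS2 ++ lwT3
theorem lw2 : sA.Lower (gp sA.e lwT2) [2, 16, 4, 32] 720 :=
  TabAct.Lower.step (k := 15) lw3
    (show stepOk (apL 2 6 sC) 7 (2 ^ 6) id lwS2 lwT3 2 15 = true by decide +kernel)
def lwS1 : List (List ℕ) := [[0], [4], [6], [0, 2], [0, 3], [0, 5]]
def lwT1 : List (List ℕ) := lwS1 ++ lwT2
theorem lw1 : sA.Lower (gp sA.e lwT1) [8, 2, 16, 4, 32] 23040 :=
  TabAct.Lower.step (k := 32) lw2
    (show stepOk (apL 2 6 sC) 7 (2 ^ 6) id lwS1 lwT2 8 32 = true by decide +kernel)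
def lwS0 : List (List ℕ) := [[1], [2], [3], [4], [6], [0, 1], [0, 5]]
def lwT0 : List (List ℕ) := lwS0 ++ lwT1
theorem lw0 : sA.Lower (gp sA.e lwT0) [1, 8, 2, 16, 4, 32] 1451520 :=
  TabAct.Lower.step (k := 63) lw1
    (show stepOk (apL 2 6 sC) 7 (2 ^ 6) id lwS0 lwT1 1 63 = true by decide +kernel)
theorem srk : allLt 7 (fun l => relChk (fun x l => tr X22.τ.ap (nthW g7 l) x) (apL 2 6 sC) 63 lo lx lb [l] [l] 0 63) = true := by decide +kernel
theorem sqk : allL [[0]] (fun u => okW X22.τ.L u && relChk X22.τ.ap (apL 2 6 sC) 63 lo lx lb u [] 0 63) = true := by decide +kernel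
theorem ssp : ∀ i < 7, cS6.mat (nthW sC i) * J (Fin 3) (ZMod 2) * (cS6.mat (nthW sC i))ᵀ = J (Fin 3) (ZMod 2) := by decide +kernel
theorem sle : cl sA.e 7 ≤ (spG (Fin 3) (ZMod 2)).range := cl_le.2 fun i hi =>
  let ⟨_, h⟩ := cS6.okM_nth sok (l := i) hi
  (Subgroup.inv_mem_iff _).mp ⟨⟨_, ssp i hi⟩, Units.ext (cS6.gl_inv h).symm⟩

theorem sp_iso (h : Nat.card (cl sA.e 7) = 1451520) : Nonempty (cl sA.e 7 ≃* PSp 3 (ZMod 2)) := by
  have e := eq_of_le_of_card_ge sle (by
    rw [← Nat.card_congr (MonoidHom.ofInjective (spG_inj _ _)).toEquiv, S0245.result (ZMod.card 2), h]; decide)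
  have hz : center (symplecticGroup (Fin 3) (ZMod 2)) = ⊥ := card_eq_one.1 (S0246.result (ZMod.card 2) 3 (by norm_num))
  exact ⟨((MulEquiv.subgroupCongr e).trans (MonoidHom.ofInjective (spG_inj _ _)).symm).trans
    ((QuotientGroup.quotientMulEquivOfEq hz).trans QuotientGroup.quotientBot).symm⟩

variable {G : Type*} [Group G] [Finite G] (M : PMod X22.τ G) (hM : X22.Gd M)
include hM

theorem aN : M.w [0] ∉ gp M.e gN := fun h => by
  obtain ⟨-, c, ⟨f⟩⟩ := isoN M hM
  have := (j_t M hM).le.trans (card_le_of_le (M.gp_app_le ((M.gp_le_app' _ _).trans (nle M hM))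
      (M.gp_app_le (M.gp_app_le (us := nS1) (vs := [[0]]) (((M.gp_le_app' _ _).trans (M.gp_le_app _ _)).trans (nle M hM))
        (gp_le.2 fun w hw => List.mem_singleton.1 hw ▸ h)) (((M.gp_le_app _ _).trans (M.gp_le_app _ _)).trans (nle M hM)))))
  rw [Nat.card_congr f.toEquiv, c] at this
  norm_num at this

theorem cenA : Nat.card ↥(gp M.e gI ⊓ centralizer {M.w [0]}) = 2903040 ∧
    Nonempty (↥(gp M.e gI ⊓ centralizer {M.w [0]}) ≃* Z2 × PSp 3 (ZMod 2)) := by
  have e : M.cen [] [0] = centralizer {M.w [0]} := by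
    ext g; rw [M.mem_cen, w0, mem_centralizer_singleton_iff]; simp [commute_iff_eq]
  have ub : M.UB (gp M.e gI) [0] (2 * 1451520) :=
    PMod.UB.downK (k := 360) (PMod.UB.of_le (cardI M hM).le inf_le_left) (by norm_num) gI le_rfl (by decide +kernel)
  rw [PMod.UB, e] at ub
  have o : orderOf (M.w [0]) = 2 := M.orderW (x := 695) (by norm_num) (by decide +kernel)
  have hc : gp M.e g7 ≤ centralizer {M.w [0]} := e ▸ M.gp_le_cen (by decide +kernel)
  have h1 := M.tab.rel_one' sA slab (cS6.base sok) [0, 6, 13, 8, 11, 17] (by decide +kernel)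
  have hg := (M.tab.comp g7 (show okS X22.τ.L g7 = true by decide +kernel)).rel_lab sA slab rfl srk
  obtain ⟨a1, a2, a3, a4⟩ := M.qr (gs := g7) sA h1 rfl hg (le_inf (leI M (by decide +kernel)) hc)
    (le_inf (leI M (by decide +kernel)) (e ▸ M.gp_le_cen (by decide +kernel))) (M.tab.preR_of sA slab sqk) ub
    (by rw [M.gp_one, Nat.card_zpowers, o]) lw0 (by decide +kernel)
  have e1 : cl (M.tab.comp g7 (show okS X22.τ.L g7 = true by decide +kernel)).e 7 = gp M.e g7 := cl_nth M.e g7
  obtain ⟨f⟩ := iso_of_rel h1 hg fun g hg' h => by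
    have k : g ∈ gp M.e g7 := e1 ▸ hg'
    have m := a4.mem (a1.le (mem_sup_left k)) h
    classical
    rw [M.gp_one, mem_zpowers_iff_mem_range_orderOf, o] at m
    obtain ⟨i, hi, rfl⟩ := Finset.mem_image.1 m
    have := Finset.mem_range.1 hi
    interval_cases i
    · exact pow_zero _
    · refine absurd (M.gp_le_gp (xs := gN) [[0, 1], [0, 1, 2], [0, 1, 2, 3], [0, 1, 2, 3, 4], [0, 1, 2, 3, 4, 5],
        [0, 1, 2, 3, 4, 5, 6, 7], [0, 1, 2, 3, 4, 5, 6]] (by decide +kernel) k) ?_
      rw [pow_one]; exact aN M hM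
  obtain ⟨f2⟩ := sp_iso a3
  have f3 := ((MulEquiv.subgroupCongr e1).symm.trans f)
  obtain ⟨f4⟩ := prod_z2 (Q := gp M.e gI ⊓ centralizer {M.w [0]}) o hc (by rw [← M.gp_one, sup_comm]; exact a1) (by rw [a2, Nat.card_congr f3.toEquiv]; exact (congrArg _ a3).le)
  exact ⟨a2, ⟨f4.trans ((MulEquiv.refl _).prodCongr (f3.trans f2))⟩⟩

end Cfsg.Agent.L1AF
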