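import Mathlib
import Cfsg.Agent.S0493
import Cfsg.Agent.S0723
set_option autoImplicit false
set_option linter.all false
namespace Cfsg.Agent.L1CL
open Subgroup MulAction Cfsg.Agent.H16 ArithmeticFunction

universe u
section
variable {G G' : Type*} [Group G] [Group G']

inductive Ch (A : Subgroup G) : Subgroup G → ℕ → Prop
  | refl : Ch A A 0
  | step {B C : Subgroup G} {n : ℕ} : Ch A B n → B < C → (∀ c ∈ C, ∀ b ∈ B, c * b * c⁻¹ ∈ B) → Ch A C (n + 1)

variable {A B C K : Subgroup G} {n m : ℕ}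

theorem Ch.le (h : Ch A B n) : A ≤ B := by
  induction h with
  | refl => rfl
  | step _ h _ ih => exact ih.trans h.le

theorem Ch.inv (h : Ch A C (n + 1)) : ∃ B, Ch A B n ∧ B < C ∧ ∀ c ∈ C, ∀ b ∈ B, c * b * c⁻¹ ∈ B := by
  cases h with
  | step a b c => exact ⟨_, a, b, c⟩

theorem Ch.trans (h : Ch A B n) (h' : Ch B C m) : Ch A C (n + m) := by
  induction h' with
  | refl => exact h
  | step _ a b ih => exact ih.step a b

def Gd (φ : Subgroup G → Subgroup G') : Prop :=
  Monotone φ ∧ ∀ B C, (∀ c ∈ C, ∀ b ∈ B, c * b * c⁻¹ ∈ B) → B ≤ C → ∀ c ∈ φ C, ∀ b ∈ φ B, c * b * c⁻¹ ∈ φ B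

theorem Ch.img {φ : Subgroup G → Subgroup G'} (g : Gd φ) (h : Ch A B n)
    (s : ∀ X Y, A ≤ X → X ≤ Y → Y ≤ B → φ Y ≤ φ X → Y ≤ X) : Ch (φ A) (φ B) n := by
  induction h with
  | refl => exact .refl
  | step h a b ih =>
    exact (ih fun X Y x y z => s X Y x y (z.trans a.le)).step
      ((g.1 a.le).lt_of_not_ge fun e => a.not_ge (s _ _ h.le a.le le_rfl e)) (g.2 _ _ b a.le)

theorem gd_inf (K : Subgroup G) : Gd (· ⊓ K) :=
  ⟨fun _ _ h => inf_le_inf_right _ h, fun _ _ h _ c hc b hb =>
    ⟨h c hc.1 b hb.1, K.mul_mem (K.mul_mem hc.2 hb.2) (K.inv_mem hc.2)⟩⟩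

theorem gd_sup (K : Subgroup G) [hK : K.Normal] : Gd (· ⊔ K) :=
  ⟨fun _ _ h => sup_le_sup_right h _, fun B C h _ c hc b hb => by
    obtain ⟨c, hc', k, hk, rfl⟩ := mem_sup_of_normal_right.1 hc
    obtain ⟨b, hb', j, hj, rfl⟩ := mem_sup_of_normal_right.1 hb
    have := mul_mem_sup (h c hc' b hb') (hK.conj_mem _ (mul_mem (mul_mem (hK.conj_mem' k hk b) hj) (inv_mem hk)) c)
    convert this using 1; group⟩

theorem gd_map (f : G →* G') : Gd (Subgroup.map f) :=
  ⟨fun _ _ h => map_mono h, by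
    rintro B C h - _ ⟨c, hc, rfl⟩ _ ⟨b, hb, rfl⟩; exact ⟨_, h c hc b hb, by simp⟩⟩

theorem gd_comap (f : G' →* G) : Gd (Subgroup.comap f) :=
  ⟨fun _ _ h => comap_mono h, fun B C h _ c hc b hb => by simpa using h _ hc _ hb⟩

theorem ded [K.Normal] {X Y : Subgroup G} (h : X ≤ Y) (a : Y ⊓ K ≤ X) (b : Y ≤ X ⊔ K) : Y ≤ X := fun y hy => by
  obtain ⟨x, hx, k, hk, rfl⟩ := mem_sup_of_normal_right.1 (b hy)
  exact mul_mem hx (a ⟨(mul_mem_cancel_left (h hx)).1 hy, hk⟩)

theorem Ch.split (K : Subgroup G) [K.Normal] (h : Ch A B n) :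
    ∃ a b, n ≤ a + b ∧ Ch (A ⊓ K) (B ⊓ K) a ∧ Ch (A ⊔ K) (B ⊔ K) b := by
  induction h with
  | refl => exact ⟨0, 0, le_rfl, .refl, .refl⟩
  | @step B C n h x y ih =>
    obtain ⟨a, b, l, p, q⟩ := ih
    have u := (gd_inf K).2 _ _ y x.le
    have v := (gd_sup K).2 _ _ y x.le
    rcases (inf_le_inf_right K x.le).eq_or_lt with e | e <;> rcases (sup_le_sup_right x.le K).eq_or_lt with f | f
    · exact absurd (ded x.le (e.ge.trans inf_le_left) (le_sup_left.trans f.ge)) x.not_ge
    · exact ⟨a, b + 1, by omega, e ▸ p, q.step f v⟩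
    · exact ⟨a + 1, b, by omega, p.step e u, f ▸ q⟩
    · exact ⟨a + 1, b + 1, by omega, p.step e u, q.step f v⟩

theorem Ch.ext (h : Ch A B n) (hC : B ≤ C) (hB : ∀ c ∈ C, ∀ b ∈ B, c * b * c⁻¹ ∈ B) : ∃ m, n ≤ m ∧ Ch A C m := by
  rcases hC.eq_or_lt with rfl | e
  · exact ⟨n, le_rfl, h⟩
  · exact ⟨_, n.le_succ, h.step e hB⟩

theorem bd_iInf {ι : Type*} (K : ι → Subgroup G) (hK : ∀ i, (K i).Normal) (c : ℕ) (g : ι → ℕ)
    (h : ∀ i n, Ch (K i) ⊤ n → c * n ≤ g i) (s : Finset ι) : ∀ n, Ch (⨅ i ∈ s, K i) ⊤ n → c * n ≤ ∑ i ∈ s, g i := by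
  classical
  induction s using Finset.induction_on with
  | empty =>
    intro n hn
    rcases n with _ | n
    · simp
    · obtain ⟨B, a, b, -⟩ := hn.inv
      exact absurd ((by simp : ⊤ ≤ _).trans a.le) b.not_ge
  | insert i s hi ih =>
    intro n hn
    haveI := hK i
    haveI : (⨅ i ∈ s, K i).Normal := ⟨fun x hx g => by
      simp only [mem_iInf] at hx ⊢; exact fun j hj => (hK j).conj_mem _ (hx j hj) g⟩
    rw [Finset.iInf_insert] at hn
    obtain ⟨a, b, l, p, q⟩ := hn.split (K i)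
    rw [sup_eq_right.2 inf_le_left, top_sup_eq] at q
    have := p.img (gd_sup (⨅ i ∈ s, K i)) fun X Y x y z e =>
      ded y (le_trans (le_inf (le_inf (inf_le_left.trans (z.trans inf_le_right)) inf_le_right)
        (inf_le_left.trans (z.trans inf_le_right))) x) (le_sup_left.trans e)
    simp only [top_inf_eq] at this
    rw [sup_eq_right.2 (inf_le_left.trans inf_le_right)] at this
    obtain ⟨a', l', p'⟩ := this.ext le_top fun c _ b hb => (inferInstance : Normal _).conj_mem b hb c
    rw [Finset.sum_insert hi]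
    have := h i b q; have := ih _ p'
    nlinarith [Nat.mul_le_mul_left c (l.trans (Nat.add_le_add_right l' b))]

theorem Ch.omega [Finite G] (h : Ch A B n) : n ≤ cardFactors (A.relIndex B) := by
  induction h with
  | refl => simp
  | @step B C n h x y ih =>
    rw [← relIndex_mul_relIndex _ _ _ h.le x.le, cardFactors_mul (m := A.relIndex B) (n := B.relIndex C) index_ne_zero_of_finite index_ne_zero_of_finite]
    have : cardFactors (B.relIndex C) ≠ 0 := fun e => by
      rcases cardFactors_eq_zero_iff_eq_zero_or_one.1 e with e | e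
      · exact index_ne_zero_of_finite e
      · exact x.not_ge (relIndex_eq_one.1 e)
    omega

theorem two_pow_le {k : ℕ} (hk : k ≠ 0) : 2 ^ cardFactors k ≤ k := by
  conv_rhs => rw [← Nat.prod_primeFactorsList hk]
  exact List.pow_card_le_prod _ _ fun p hp => (Nat.prime_of_mem_primeFactorsList hp).two_le

theorem gen_bd [Finite G] {S X : Subgroup G} (hS : ∀ s ∈ S, ∀ x ∈ X, s * x * s⁻¹ ∈ X) (p : ℕ)
    (hp : ∀ Y Z : Subgroup G, Y < Z → Z ≤ X → p * Nat.card Y ≤ Nat.card Z) (j : ℕ) :
    ∀ Y ≤ X, Nat.card X < p ^ (j + 1) * Nat.card Y →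
      Nat.card ↥(S ⊓ centralizer Y) ≤ Nat.card ↥(S ⊓ centralizer X) * Nat.card X ^ j := by
  induction j with
  | zero =>
    intro Y hY h
    rcases hY.eq_or_lt with rfl | e
    · simp
    · have := hp _ _ e le_rfl; simp at h; omega
  | succ j ih =>
    intro Y hY h
    rcases hY.eq_or_lt with rfl | e
    · exact Nat.le_mul_of_pos_right _ (pow_pos Nat.card_pos _)
    obtain ⟨x, hx, hx'⟩ := SetLike.exists_of_lt e
    have l : Y < Y ⊔ zpowers x := left_lt_sup.2 (by simpa using hx')
    have l' : Y ⊔ zpowers x ≤ X := sup_le hY (by simpa using hx)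
    have := ih _ l' (h.trans_le (by rw [pow_succ, mul_assoc]; exact Nat.mul_le_mul_left _ (hp _ _ l l')))
    rw [pow_succ, ← mul_assoc]
    refine le_trans ?_ (Nat.mul_le_mul_right _ this)
    let U := S ⊓ centralizer (Y : Set G)
    letI := MulAction.compHom G (MulAut.conj.comp U.subtype)
    rw [← (stabilizer U x).card_mul_index, index_stabilizer]
    refine Nat.mul_le_mul (Nat.card_le_card_of_injective (fun u => ⟨u.1.1, u.1.2.1, ?_⟩) fun a b h => ?_)
      (Set.ncard_le_ncard (s := orbit U x) (t := X) (by rintro _ ⟨u, rfl⟩; exact hS _ u.2.1 _ hx) (Set.toFinite _))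
    · exact le_centralizer_iff.1 (sup_le (le_centralizer_iff.1 ((zpowers_le_of_mem u.1.2.2)))
        (zpowers_le_of_mem (mem_centralizer_iff.2 fun g hg => by
          obtain ⟨k, rfl⟩ := hg
          exact ((show Commute u.1.1 x from mul_inv_eq_iff_eq_mul.1 u.2).zpow_left k).eq))) (mem_zpowers _)
    · exact Subtype.ext (Subtype.ext (Subtype.mk.inj h))

/-- transitive statement -/
def TS (G : Type*) [Group G] : Prop := ∀ (S : Subgroup G) l, Ch S.normalCore ⊤ l → 3 * l + 4 ≤ 4 * S.index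

theorem TS.orb [Finite G] (h : TS G) (Ω : Type*) [Finite Ω] [MulAction G Ω] {l : ℕ} (hl : Ch (toPermHom G Ω).ker ⊤ l) :
    3 * l + 4 * Nat.card (orbitRel.Quotient G Ω) ≤ 4 * Nat.card Ω := by
  classical
  haveI := Fintype.ofFinite (orbitRel.Quotient G Ω)
  have := bd_iInf (fun ω : orbitRel.Quotient G Ω => (stabilizer G ω.out).normalCore) (fun _ => inferInstance) 3
    (fun ω => 4 * (stabilizer G ω.out).index - 4) (fun ω n hn => by have := h _ _ hn; omega) Finset.univ l (by
      convert hl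
      refine le_antisymm (fun g hg => Equiv.ext fun x => ?_) (le_iInf₂ fun ω _ => normal_le_normalCore.2 fun g hg =>
        DFunLike.congr_fun (MonoidHom.mem_ker.1 hg) _)
      obtain ⟨k, hk⟩ : x ∈ orbit G (Quotient.out (Quotient.mk'' x : orbitRel.Quotient G Ω)) :=
        (orbitRel G Ω).symm (Quotient.mk_out' x)
      have := mem_iInf.1 (mem_iInf.1 hg (Quotient.mk'' x)) (Finset.mem_univ _) k⁻¹
      simp only [mem_stabilizer_iff, inv_inv, mul_smul, inv_smul_eq_iff] at this hk
      rwa [hk] at this)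
  rw [Nat.card_congr (selfEquivSigmaOrbitsQuotientStabilizer G Ω), Nat.card_sigma, Finset.mul_sum,
    Nat.card_eq_fintype_card, ← Finset.card_univ, mul_comm 4, ← smul_eq_mul (Finset.card _), ← Finset.sum_const]
  refine (Nat.add_le_add_right this _).trans (le_of_eq ?_)
  rw [← Finset.sum_add_distrib]
  exact Finset.sum_congr rfl fun ω _ => Nat.sub_add_cancel (Nat.le_mul_of_pos_right _ (Nat.pos_of_ne_zero index_ne_zero_of_finite))

theorem num1 {n y k l : ℕ} (h : 32 ≤ n) (hy : n < 2 ^ (y + 1)) (hy' : 2 ^ y ≤ n) (hk : 5 * k < 2 * y + 2)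
    (hl : 2 ^ l ≤ n ^ (y + 1) * 2 ^ (k * k)) : 3 * l + 4 ≤ 4 * n := by
  have y5 : 5 ≤ y := by
    by_contra c
    have := Nat.pow_le_pow_right two_pos (show y + 1 ≤ 5 by omega); omega
  have : l < (y + 1) * (y + 1) + k * k := (Nat.pow_lt_pow_iff_right one_lt_two).1 (hl.trans_lt (by
    rw [pow_add 2 (_ * _), pow_mul 2 (y + 1)]
    exact Nat.mul_lt_mul_of_pos_right (Nat.pow_lt_pow_left hy (by omega)) (by positivity)))
  have b : ∀ y, 5 ≤ y → 75 * (y + 1) ^ 2 + 25 + 3 * (2 * y + 1) ^ 2 ≤ 100 * 2 ^ y := fun y hy => by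
    induction y, hy using Nat.le_induction with
    | base => norm_num
    | succ y hy ih => rw [pow_succ 2 y]; nlinarith
  have := b y y5
  have := Nat.pow_le_pow_left (show 5 * k ≤ 2 * y + 1 by omega) 2
  nlinarith

theorem num2 {p d g : ℕ} (hp : p.Prime) (hd : 0 < d) (h1 : g ∣ (p ^ d).factorial) (h2 : g ≤ (p ^ d) ^ (d + 1)) :
    3 * cardFactors g + 4 ≤ 4 * p ^ d := by
  have g0 : g ≠ 0 := fun e => (Nat.factorial_ne_zero _) (Nat.eq_zero_of_zero_dvd (e ▸ h1))
  have t := (two_pow_le g0).trans h2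
  by_cases h : 32 ≤ p ^ d
  · have : d ≤ Nat.log 2 (p ^ d) := Nat.le_log_of_pow_le one_lt_two (Nat.pow_le_pow_left hp.two_le _)
    exact num1 (k := 0) h (Nat.lt_pow_succ_log_self one_lt_two _) (Nat.pow_log_le_self 2 (by omega)) (by omega)
      (by simpa using t.trans (Nat.pow_le_pow_right (by omega) (by omega)))
  obtain ⟨k, hk⟩ := h1
  have e : cardFactors (p ^ d).factorial = cardFactors g + cardFactors k := by
    rw [hk, cardFactors_mul g0 (by rintro rfl; exact Nat.factorial_ne_zero _ hk)]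
  have : d < 5 := (Nat.pow_lt_pow_iff_right one_lt_two).1 ((Nat.pow_le_pow_left hp.two_le _).trans_lt (by omega))
  have : p < 32 := (Nat.le_self_pow hd.ne' p).trans_lt (by omega)
  have p2 := hp.two_le
  have ub : ∀ c, (p ^ d) ^ (d + 1) < 2 ^ (c + 1) → cardFactors g ≤ c := fun c hc =>
    Nat.lt_succ_iff.1 ((Nat.pow_lt_pow_iff_right one_lt_two).1 (t.trans_lt hc))
  by_cases h8 : p ^ d = 8
  · have : d ≤ 3 := (Nat.pow_le_pow_iff_right one_lt_two).1 ((Nat.pow_le_pow_left p2 _).trans h8.le)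
    rw [h8] at hk h2 e ⊢
    have := h2.trans (Nat.pow_le_pow_right (by omega) (Nat.add_le_add_right this 1))
    have k2 : 2 ≤ cardFactors k := by
      by_contra c
      have k10 : 9 < k := by norm_num [Nat.factorial] at hk this; nlinarith
      have : k.Prime := cardFactors_eq_one_iff_prime.1 (by
        have := cardFactors_eq_zero_iff_eq_zero_or_one (n := k); omega)
      have := (this.dvd_factorial (n := 8)).1 ⟨g, by rw [hk, mul_comm]⟩
      omega
    rw [show cardFactors (Nat.factorial 8) = 11 by simp [Nat.factorial, cardFactors_apply, Nat.primeFactorsList_ofNat]] at e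
    omega
  have u := ub (Nat.log 2 ((p ^ d) ^ (d + 1))) (Nat.lt_pow_succ_log_self one_lt_two _)
  clear ub t h2 hk
  generalize cardFactors g = a at *
  generalize cardFactors k = b at *
  interval_cases d <;> interval_cases p <;>
    first | omega | (norm_num at hp; done) | (norm_num at u; omega) | (simp [Nat.factorial, cardFactors_apply, Nat.primeFactorsList_ofNat] at e; omega)

theorem pi_le {T : Type*} [Group T] [IsSimpleGroup T] {m : ℕ} (h : Ch (⊥ : Subgroup (Fin m → T)) ⊤ n) : n ≤ m := by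
  simpa using bd_iInf (fun i : Fin m => (Pi.evalMonoidHom (fun _ => T) i).ker) (fun _ => inferInstance) 1 (fun _ => 1)
    (fun i n hn => by
      have := hn.img (gd_map (Pi.evalMonoidHom (fun _ => T) i)) fun X Y x y _ e => by
        rw [← comap_map_eq_self x, ← map_le_iff_le_comap]; exact e
      rw [map_top_of_surjective _ (Function.surjective_eval i)] at this
      obtain _ | _ | n := n
      · simp
      · simp
      obtain ⟨B, a, b, c⟩ := this.inv
      obtain ⟨C, -, d, -⟩ := a.inv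
      rcases (⟨fun x hx g => c g trivial x hx⟩ : B.Normal).eq_bot_or_eq_top with rfl | rfl
      · simp at d
      · simp at b) Finset.univ n (by
      convert h
      exact eq_bot_iff.2 fun x hx => funext fun i => mem_iInf.1 (mem_iInf.1 hx i) (Finset.mem_univ _))

theorem ch_pi {T : Type*} [Group T] {m : ℕ} (K : Fin m → Subgroup T) (hK : ∀ i, K i ≠ ⊥) :
    Ch ⊥ (Subgroup.pi Set.univ K) m := by
  have : ∀ j ≤ m, Ch ⊥ (Subgroup.pi Set.univ fun i : Fin m => if i.1 < j then K i else ⊥) j := fun j => by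
    induction j with
    | zero => intro _; convert Ch.refl; simpa using Subgroup.pi_bot
    | succ j ih =>
      intro h
      refine (ih (by omega)).step (lt_of_le_of_ne (fun x hx => ?_) fun e => ?_) fun c hc b hb => ?_
      · simp only [mem_pi] at hx ⊢
        intro i _
        have := hx i trivial
        split_ifs at this ⊢ <;> first | omega | exact this | exact bot_le (a := K i) this
      · obtain ⟨x, hx, x1⟩ := (K ⟨j, h⟩).bot_or_exists_ne_one.resolve_left (hK _)
        have := (mem_pi _).1 ((SetLike.ext_iff.1 e (Pi.mulSingle ⟨j, h⟩ x)).2 ((mem_pi _).2 fun i _ => by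
          by_cases e : i = ⟨j, h⟩
          · simpa [e] using hx
          · simp [e])) ⟨j, h⟩ trivial
        exact x1 (by simpa using this)
      · simp only [mem_pi] at hc hb ⊢
        intro i _
        have h1 := hc i trivial
        have h2 := hb i trivial
        by_cases e : i.1 < j
        · simp only [e, e.trans j.lt_succ_self, if_true] at h1 h2 ⊢
          exact mul_mem (mul_mem h1 h2) (inv_mem h1)
        · simp_all
  simpa using this m le_rfl

theorem card_lt_of_lt [Finite G] (h : A < B) : Nat.card A < Nat.card B :=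
  (card_le_of_le h.le).lt_of_ne fun e => h.ne (eq_of_le_of_card_ge h.le e.ge)

theorem prim {α : Type*} [Finite α] (H : Subgroup (Equiv.Perm α)) [IsPreprimitive H α] (a : α)
    (hS : ∀ l, Ch ⊥ (stabilizer H a) l → 3 * l + 4 ≤ 4 * Nat.card α) {l : ℕ} (hl : Ch (⊥ : Subgroup H) ⊤ l) :
    3 * l + 4 ≤ 4 * Nat.card α := by
  classical
  haveI : Nonempty α := ⟨a⟩
  by_cases h0 : (⊤ : Subgroup H) = ⊥
  · exact hS l (by rwa [show stabilizer H a = ⊤ from eq_top_iff.2 (h0.le.trans bot_le)])
  obtain ⟨N, nN, hN, -, hmin⟩ := exists_minNormal_le ⊤ h0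
  haveI := normal_trans (α := α) N hN
  set S := stabilizer H a
  set n := Nat.card α
  have om := hl.omega
  rw [relIndex_top_right, index_bot] at om
  have cH : Nat.card H = n * Nat.card S := card_eq_card_mul_stabilizer a
  have p2 := (Nat.pow_le_pow_right two_pos om).trans (two_pow_le Nat.card_pos.ne')
  have cN : Nat.card N = n * Nat.card ↥(S ⊓ N) := by rw [← card_stabilizer_subgroup]; exact card_eq_card_mul_stabilizer a
  have cen : S ⊓ centralizer N = ⊥ := eq_bot_iff.2 fun x hx => eq_one_of_centralizes_trans N hx.2 hx.1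
  have sz : ∀ (X : Subgroup H) (p j : ℕ), (∀ s ∈ S, ∀ x ∈ X, s * x * s⁻¹ ∈ X) →
      (∀ Y Z : Subgroup H, Y < Z → Z ≤ X → p * Nat.card Y ≤ Nat.card Z) → Nat.card X < p ^ (j + 1) → Nat.card X ≤ n →
      Nat.card H ≤ n ^ (j + 1) * Nat.card ↥(S ⊓ centralizer X) := fun X p j h1 h2 h3 h4 => by
    have := gen_bd h1 p h2 j ⊥ bot_le (by simpa using h3)
    rw [show S ⊓ centralizer ((⊥ : Subgroup H) : Set H) = S from inf_eq_left.2 fun x _ y hy => by simp [mem_bot.1 hy]] at this
    rw [cH, pow_succ', mul_assoc, mul_comm (n ^ j)]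
    exact Nat.mul_le_mul_left _ (this.trans (Nat.mul_le_mul_left _ (Nat.pow_le_pow_left h4 _)))
  have two : ∀ X Y Z : Subgroup H, Y < Z → Z ≤ X → 2 * Nat.card Y ≤ Nat.card Z := fun X Y Z h _ => by
    obtain ⟨k, hk⟩ := card_dvd_of_le h.le
    have := card_lt_of_lt h
    obtain _ | _ | k := k <;> nlinarith [Nat.card_pos (α := Z)]
  have lg := Nat.lt_pow_succ_log_self one_lt_two n
  have lg' := Nat.pow_log_le_self 2 (Nat.card_pos (α := α)).ne'
  have t60 : ∀ (T : Type) [Group T] [Finite T] [IsSimpleGroup T], ¬ IsMulCommutative T → 32 ≤ Nat.card T := fun T _ _ _ h => by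
    by_contra c
    have := S0493.result (G := T) (fun _ => h inferInstance) (by omega)
    omega
  by_cases ab : IsMulCommutative N
  · obtain ⟨p, hp, he⟩ := minNormal_comm_exponent N hN hmin ab
    haveI := Fact.mk hp
    obtain ⟨d, hd⟩ := IsPGroup.iff_card.1 (show IsPGroup p N from fun g => ⟨1, Subtype.ext (by simpa using he g g.2)⟩)
    have e : Nat.card N = n := card_eq_of_regular a (stabilizer_eq_bot_of_comm N ab a)
    have := sz N p d (fun s _ x hx => nN.conj_mem x hx s) (fun Y Z h z => by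
      obtain ⟨i, -, hi⟩ := (Nat.dvd_prime_pow hp).1 (hd ▸ card_dvd_of_le z)
      obtain ⟨j, -, hj⟩ := (Nat.dvd_prime_pow hp).1 (hd ▸ card_dvd_of_le (h.le.trans z))
      have := card_lt_of_lt h
      rw [hi, hj] at this ⊢
      rw [← pow_succ']
      exact Nat.pow_le_pow_right hp.pos ((Nat.pow_lt_pow_iff_right hp.one_lt).1 this))
      (hd ▸ Nat.pow_lt_pow_right hp.one_lt d.lt_succ_self) e.le
    rw [cen, card_bot, mul_one, ← e, hd] at this
    have := num2 hp (Nat.pos_of_ne_zero fun e => hN (card_eq_one.1 (by simpa [e] using hd))) (by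
      rw [← hd, e, ← Nat.card_perm]; exact card_subgroup_dvd_card H) this
    rw [← e, hd]; omega
  by_cases hD : S ⊓ N = ⊥
  · obtain ⟨T, _, m, hT, hm, ⟨e⟩⟩ := S0721.result N hN hmin
    haveI : Finite T := .of_injective (fun t => e.symm fun _ => t) fun s t h => congrFun (e.symm.injective h) ⟨0, hm⟩
    rw [hD, card_bot, mul_one] at cN
    have := sz N 2 _ (fun s _ x hx => nN.conj_mem x hx s) (two N) (cN.trans_lt lg) cN.le
    refine num1 (k := 0) ?_ lg lg' (by omega) (by simpa [cen] using p2.trans this)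
    rw [← cN, Nat.card_congr e.toEquiv, Nat.card_fun, Nat.card_fin]
    exact (t60 T fun h => ab ⟨⟨fun a b => e.injective (by
      rw [map_mul, map_mul]; exact funext fun i => h.is_comm.comm _ _)⟩⟩).trans (Nat.le_self_pow hm.ne' _)
  obtain ⟨T, _, m, e, hT, nab, hm, h⟩ := S0723.result H N hN hmin (fun L nL hL mL => by
    by_contra c
    haveI := normal_trans (α := α) L hL
    exact hD (eq_bot_iff.2 fun x hx => eq_one_of_centralizes_trans L
      (fun y hy => comm_of_inf_eq_bot (minNormal_inf_eq_bot mL hmin c) hy hx.2) hx.1)) ab a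
  let ι : (Fin m → T) →* H := N.subtype.comp e.symm.toMonoidHom
  have inj : Function.Injective ι := N.subtype_injective.comp e.symm.injective
  have rg : ι.range = N := by ext x; exact ⟨by rintro ⟨y, rfl⟩; exact (e.symm y).2, fun h => ⟨e ⟨x, h⟩, by simp [ι]⟩⟩
  obtain ⟨u, hu⟩ := exists_ne (1 : T)
  rcases h with ⟨K, -, hK⟩ | ⟨k, c, k2, hc, hK⟩
  · obtain ⟨a', b', l1, q1, q2⟩ := hl.split N
    simp only [bot_inf_eq, top_inf_eq, bot_sup_eq, top_sup_eq] at q1 q2
    have q3 := q1.img (gd_comap ι) fun X Y _ _ z e => (comap_le_comap_of_le_range (rg ▸ z)).1 e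
    rw [MonoidHom.comap_bot, (MonoidHom.ker_eq_bot_iff _).2 inj, show comap ι N = ⊤ from eq_top_iff.2 fun x _ => (e.symm x).2] at q3
    have q4 := q2.img (gd_inf S) fun X Y x y _ e g hg => by
      obtain ⟨v, hv, s, hs, rfl⟩ := exists_mul_stabilizer N a g
      exact mul_mem (x hv) (e ⟨(mul_mem_cancel_left (y (x hv))).1 hg, hs⟩).1
    have q5 := (ch_pi K fun i hi => by
      have : normalClosure (S ⊓ N : Subgroup H) ≤ (Pi.evalMonoidHom (fun _ => T) i).ker.map ι := by
        refine (closure_le _).2 fun x hx => ?_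
        obtain ⟨y, hy, gg⟩ := Group.mem_conjugatesOfSet_iff.1 hx
        obtain ⟨g, rfl⟩ := isConj_iff.1 gg
        obtain ⟨v, hv, s, hs, rfl⟩ := exists_mul_stabilizer N a g
        have := (hK ⟨_, nN.conj_mem _ hy.2 s⟩).1 (mul_mem (mul_mem hs hy.1) (inv_mem hs)) i
        rw [hi, mem_bot] at this
        exact ⟨e ⟨v, hv⟩ * e ⟨_, nN.conj_mem _ hy.2 s⟩ * (e ⟨v, hv⟩)⁻¹, by simp [this], by simp [ι, mul_assoc]⟩
      rcases hmin _ normalClosure_normal (normalClosure_le_normal (inf_le_right (a := S))) with h | h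
      · exact hD (eq_bot_iff.2 (h ▸ le_normalClosure))
      · obtain ⟨y, hy, e'⟩ := this (h.ge (e.symm fun _ => u).2)
        rw [inj e'] at hy
        exact hu hy).img (gd_map ι) fun X Y _ _ _ e => (map_le_map_iff_of_injective inj).1 e
    rw [Subgroup.map_bot, show (Subgroup.pi Set.univ K).map ι = N ⊓ S by
      ext x
      exact ⟨by rintro ⟨y, hy, rfl⟩; exact ⟨(e.symm y).2, (hK _).2 fun i => by simpa using hy i trivial⟩,
        fun h => ⟨e ⟨x, h.1⟩, fun i _ => (hK _).1 h.2 i, by simp [ι]⟩⟩] at q5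
    have := hS _ (by simpa using q5.trans q4)
    have := pi_le q3
    omega
  haveI : Finite T := .of_injective (fun t => e.symm fun _ => t) fun s t h => congrFun (e.symm.injective h) ⟨0, hm⟩
  have t := t60 T nab
  let I := Finset.univ.image c
  have r2 : 2 * I.card ≤ m := by
    have := Finset.card_eq_sum_card_image c Finset.univ
    rw [Finset.card_fin] at this
    rw [mul_comm, ← smul_eq_mul]
    refine (Finset.card_nsmul_le_sum _ _ _ fun j hj => ?_).trans this.ge
    obtain ⟨i, -, rfl⟩ := Finset.mem_image.1 hj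
    have := hc (c i)
    rw [Nat.card_eq_fintype_card, Fintype.card_subtype] at this
    have := Finset.card_pos.2 ⟨i, show i ∈ Finset.univ.filter (c · = c i) by simp⟩
    omega
  have ch : ∀ j : I, ∃ i, c i = j := fun j => by obtain ⟨i, -, h⟩ := Finset.mem_image.1 j.2; exact ⟨i, h⟩
  choose w hw using ch
  have cD : Nat.card ↥(S ⊓ N) ≤ Nat.card T ^ I.card := by
    rw [show I.card = Nat.card I by simp, ← Nat.card_fun]
    refine Nat.card_le_card_of_injective (fun x j => e ⟨x, x.2.2⟩ (w j)) fun x y h => Subtype.ext ?_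
    refine Subtype.mk.inj (e.injective (funext fun i => ?_) : (⟨x, x.2.2⟩ : N) = ⟨y, y.2.2⟩)
    have := hw ⟨c i, by simp [I]⟩
    rw [(hK _).1 x.2.1 i _ this.symm, (hK ⟨y, y.2.2⟩).1 y.2.1 i _ this.symm]
    exact congrFun h _
  rw [Nat.card_congr e.toEquiv, Nat.card_fun, Nat.card_fin] at cN
  have n1 : Nat.card T ^ (m - I.card) ≤ n := Nat.le_of_mul_le_mul_right (by
    rw [← pow_add, Nat.sub_add_cancel (by omega), cN]; exact Nat.mul_le_mul_left _ cD) (pow_pos Nat.card_pos _)
  have n2 := cD.trans ((Nat.pow_le_pow_right Nat.card_pos (by omega)).trans n1)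
  have : ∀ (h : H) (j : Fin m), ∃ i, ∃ ψ : T ≃* T, ∀ n : N, e (MulAut.conjNormal h n) j = ψ (e n i) := fun h j => by
    obtain ⟨i, ψ, hψ⟩ := S0723.coord nab ((Pi.evalMonoidHom (fun _ => T) j).comp
      ((e.symm.trans (MulAut.conjNormal h)).trans e).toMonoidHom)
      ((Function.surjective_eval j).comp ((e.symm.trans (MulAut.conjNormal h)).trans e).surjective)
    exact ⟨i, ψ, fun n => by simpa using hψ (e n)⟩
  choose σ ψ hψ using this
  have cc : Nat.card ↥(S ⊓ centralizer (S ⊓ N : Subgroup H)) ≤ 2 ^ (m * m) := by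
    have id : ∀ s ∈ centralizer (S ⊓ N : Subgroup H), ∀ j n, e (MulAut.conjNormal s n) j = e n (σ s j) := fun s hs j n => by
      have := hψ s j (e.symm fun _ => e n (σ s j))
      rw [show MulAut.conjNormal s (e.symm fun _ => e n (σ s j)) = e.symm fun _ => e n (σ s j) from Subtype.ext
        (mul_inv_eq_iff_eq_mul.2 (hs _ ⟨(hK _).2 (by simp), Subtype.prop _⟩).symm)] at this
      rw [hψ]; simpa using this.symm
    refine (Nat.card_le_card_of_injective (fun s => σ s.1) fun x y h => Subtype.ext ?_).trans ?_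
    · refine (inv_mul_eq_one.1 (cen.le ⟨S.mul_mem (S.inv_mem x.2.1) y.2.1, fun v hv => ?_⟩))
      have := congrArg Subtype.val (e.injective (funext fun j => by rw [id _ x.2.2, id _ y.2.2]; exact congrArg _ (congrFun h j)) :
        MulAut.conjNormal x.1 ⟨v, hv⟩ = MulAut.conjNormal y.1 ⟨v, hv⟩)
      simp only [MulAut.conjNormal_apply] at this
      calc v * (x.1⁻¹ * y.1) = x.1⁻¹ * (x.1 * v * x.1⁻¹) * y.1 := by group
        _ = _ := by rw [this]; group
    · rw [Nat.card_fun, Nat.card_fin, pow_mul]; exact Nat.pow_le_pow_left m.lt_two_pow_self.le _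
  refine num1 (t.trans ((Nat.le_self_pow (by omega) _).trans n1)) lg lg' ?_ (p2.trans ((sz (S ⊓ N) 2 _ (fun s hs x hx =>
    ⟨S.mul_mem (S.mul_mem hs hx.1) (S.inv_mem hs), nN.conj_mem _ hx.2 s⟩) (two _) (n2.trans_lt lg) n2).trans (Nat.mul_le_mul_left _ cc)))
  refine (Nat.pow_lt_pow_iff_right one_lt_two).1 ?_
  calc 2 ^ (5 * m) ≤ Nat.card T ^ m := by rw [pow_mul]; exact Nat.pow_le_pow_left t _
    _ ≤ n * n := cN ▸ Nat.mul_le_mul_left _ n2
    _ < _ := by rw [show 2 * Nat.log 2 n + 2 = (Nat.log 2 n + 1) + (Nat.log 2 n + 1) by ring, pow_add]; exact Nat.mul_lt_mul'' lg lg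

theorem Ch.sub (h : Ch A B n) : Ch (A.subgroupOf B) ⊤ n := by
  simpa using h.img (gd_comap B.subtype) fun X Y _ _ z e => (comap_le_comap_of_le_range (by simpa using z)).1 e
end

theorem ts (k : ℕ) : ∀ (G : Type u) [Group G] [Finite G], Nat.card G ≤ k → TS G := by
  induction k with
  | zero => intro G _ _ h; exact absurd h Nat.card_pos.not_ge
  | succ k ih =>
  intro G _ _ hG S
  induction hn : S.index using Nat.strong_induction_on generalizing S with | _ n ih2 =>
  subst hn
  intro l hl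
  have lt : ∀ {X : Type u} [Group X] [Finite X] (K : Subgroup X), Nat.card X ≤ k + 1 → K ≠ ⊤ → TS K := fun K h e => ih K (by
    have := card_lt_of_lt (lt_top_iff_ne_top.2 e); rw [card_top] at this; omega)
  by_cases h0 : S = ⊤
  · subst h0
    have := hl.omega
    rw [(normalCore_eq_self ⊤), relIndex_self] at this
    simp at this; simp [this]
  by_cases hc : IsCoatom S
  · haveI : Nontrivial (G ⧸ S) := QuotientGroup.nontrivial_iff.2 h0
    haveI : IsPreprimitive G (G ⧸ S) := (isCoatom_stabilizer_iff_preprimitive G ((1 : G) : G ⧸ S)).1 (by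
      rwa [stabilizer_quotient])
    let f := (toPermHom G (G ⧸ S)).rangeRestrict
    have sf := (toPermHom G (G ⧸ S)).rangeRestrict_surjective
    haveI : IsPreprimitive (toPermHom G (G ⧸ S)).range (G ⧸ S) :=
      IsPreprimitive.of_surjective (φ := f) (f := ⟨id, fun _ _ => rfl⟩) Function.surjective_id
    have kf : f.ker = S.normalCore := by rw [MonoidHom.ker_rangeRestrict, normalCore_eq_ker]
    have := hl.img (gd_map f) fun X Y x y _ e => by
      rw [← comap_map_eq_self (kf.le.trans x), ← map_le_iff_le_comap]; exact e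
    rw [map_top_of_surjective _ sf, ← kf, (Subgroup.map_eq_bot_iff _).2 le_rfl] at this
    refine prim _ ((1 : G) : G ⧸ S) (fun l hl => ?_) this
    have := (lt (stabilizer _ ((1 : G) : G ⧸ S)) ((Nat.card_le_card_of_surjective _ sf).trans hG) fun e => h0 (eq_top_iff.2 fun g _ => by
      have : f g ∈ stabilizer _ ((1 : G) : G ⧸ S) := e ▸ trivial
      rw [← stabilizer_quotient S]; exact this)).orb (G ⧸ S) (l := l) (by
        convert hl.sub
        rw [bot_subgroupOf]; exact (MonoidHom.ker_eq_bot_iff _).2 toPerm_injective)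
    have : 0 < Nat.card (orbitRel.Quotient (stabilizer (toPermHom G (G ⧸ S)).range ((1 : G) : G ⧸ S)) (G ⧸ S)) :=
      Nat.card_pos_iff.2 ⟨⟨Quotient.mk'' ((1 : G) : G ⧸ S)⟩, inferInstance⟩
    omega
  obtain ⟨T, hT, h1⟩ : ∃ T, S < T ∧ T ≠ ⊤ := by simpa [IsCoatom, h0] using hc
  obtain ⟨a, b, l1, q1, q2⟩ := hl.split T.normalCore
  rw [inf_eq_left.2 (normalCore_mono hT.le), top_inf_eq] at q1
  rw [sup_eq_right.2 (normalCore_mono hT.le), top_sup_eq] at q2
  have := ih2 _ (index_strictAnti hT) T rfl b q2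
  have := (lt T.normalCore hG fun e => h1 (eq_top_iff.2 (e ▸ T.normalCore_le))).orb (G ⧸ S) (l := a) (by
    convert q1.sub
    rw [normalCore_eq_ker S]; rfl)
  have : T.index ≤ Nat.card (orbitRel.Quotient T.normalCore (G ⧸ S)) :=
    Nat.card_le_card_of_surjective (Quotient.lift (quotientMapOfLE hT.le) (by
      rintro _ y ⟨g, rfl⟩
      induction y using QuotientGroup.induction_on with | H y =>
      exact QuotientGroup.eq.2 (by simpa [mul_assoc] using g.2 y⁻¹ |> T.inv_mem))) fun y => by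
      induction y using QuotientGroup.induction_on with | H y => exact ⟨Quotient.mk'' (y : G ⧸ S), rfl⟩
  rw [← index_eq_card] at *
  omega

end Cfsg.Agent.L1CL
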