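import Mathlib
import Cfsg.Prelude.Def_LieTwisted
import Cfsg.Agent.H15.Fi22
import Cfsg.Agent.H15.Fis
set_option autoImplicit false
set_option maxRecDepth 100000

namespace Cfsg.Agent.L1E6
open Matrix Cfsg.Lie Cfsg.Agent.H14 Cfsg.Agent.H15

noncomputable def app' (C : List ℕ) : ℕ → ℕ → ℕ :=
  List.rec (motive := fun _ => ℕ → ℕ → ℕ) (fun _ acc => acc) (fun c _ ih x acc => frcN (Nat.shiftRight x 1) fun x' =>
    Bool.rec (ih x' acc) (frcN (Nat.xor c acc) (ih x')) (Nat.beq (Nat.land x 1) 1)) C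

noncomputable def app (C : List ℕ) (x : ℕ) : ℕ := app' C x 0

noncomputable def apw (Cs : List (List ℕ)) (w : List ℕ) (x : ℕ) : ℕ :=
  List.rec (motive := fun _ => ℕ) x (fun a _ ih => frcN ih (app (nthW Cs a))) w

noncomputable def eqB (f g : ℕ → ℕ) : Bool := allLt 78 fun k => frc (Nat.shiftLeft 1 k) fun x => Nat.beq (f x) (g x)

abbrev I := chevE6.Idx
def σ : I ≃ Fin 78 := finSumFinEquiv

variable (K : Type*) [Field K]

def bt (x i : ℕ) : K := if x.testBit i then 1 else 0
def d (x : ℕ) : I → K := fun i => bt K x (σ i)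
noncomputable def m (C : List ℕ) : Matrix I I K := Matrix.of fun i j => bt K (nth C (σ j)) (σ i)
def Ac (A : Matrix I I K) (f : ℕ → ℕ) : Prop := ∀ x, A *ᵥ d K x = d K (f x)

variable {K}

theorem d_pow (j : I) : d K (Nat.shiftLeft 1 (σ j)) = Pi.single j 1 := funext fun i => by
  have : Nat.shiftLeft 1 (σ j) = 2 ^ (σ j : ℕ) := Nat.one_shiftLeft _
  rw [d, bt, this, Nat.testBit_two_pow, Pi.single_apply]
  simp only [decide_eq_true_eq, Fin.val_inj, EmbeddingLike.apply_eq_iff_eq, @eq_comm _ j i]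

theorem Ac.eq {A B : Matrix I I K} {f g : ℕ → ℕ} (hA : Ac K A f) (hB : Ac K B g) (h : eqB f g = true) : A = B := by
  ext i j
  have := nbeq_iff.1 (allLt_iff.1 h _ (σ j).2)
  have e := (hA _).trans ((congrArg (d K) this).trans (hB _).symm)
  rw [d_pow, mulVec_single_one, mulVec_single_one] at e
  exact congrFun e i

theorem Ac.one : Ac K 1 id := fun _ => one_mulVec _

theorem Ac.mul {A B : Matrix I I K} {f g : ℕ → ℕ} (hA : Ac K A f) (hB : Ac K B g) :
    Ac K (A * B) fun x => frcN (g x) f := fun x => by rw [← mulVec_mulVec, hB, hA]; rfl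

theorem Ac.zero : Ac K 0 fun _ => 0 := fun _ => by rw [zero_mulVec]; ext i; simp [d, bt]

theorem Ac.w {π : ℕ → GL I K} {Cs : List (List ℕ)} {L : ℕ} (h : ∀ l < L, Ac K (π l) (app (nthW Cs l))) {w : List ℕ}
    (hw : okW L w = true) : Ac K (lprod π w : GL I K) (apw Cs w) := by
  rw [okW_iff] at hw
  induction w with
  | nil => exact Ac.one
  | cons a w ih =>
    rw [lprod_cons, Units.val_mul]
    exact (h a (hw a (by simp))).mul (ih fun b hb => hw b (by simp [hb]))

variable [CharP K 2]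

theorem bt_xor (x y i : ℕ) : bt K (Nat.xor x y) i = bt K x i + bt K y i := by
  have : Nat.xor x y = x ^^^ y := rfl
  rw [bt, bt, bt, this, Nat.testBit_xor]
  cases x.testBit i <;> cases y.testBit i <;> simp [CharTwo.add_self_eq_zero]

theorem Ac.add {A B : Matrix I I K} {f g : ℕ → ℕ} (hA : Ac K A f) (hB : Ac K B g) :
    Ac K (A + B) fun x => Nat.xor (f x) (g x) := fun x => by
  rw [add_mulVec, hA, hB]; exact funext fun i => (bt_xor _ _ _).symm

theorem app'_spec (C : List ℕ) (i : ℕ) : ∀ x acc, bt K (app' C x acc) i =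
    bt K acc i + ∑ j ∈ Finset.range C.length, bt K (nth C j) i * bt K x j := by
  induction C with
  | nil => intro x acc; simp [app']
  | cons c C ih =>
    intro x acc
    have e : app' (c :: C) x acc = Bool.rec (app' C (x >>> 1) acc) (app' C (x >>> 1) (Nat.xor c acc)) (Nat.beq (x &&& 1) 1) := rfl
    have e1 : ∀ j, bt K (x >>> 1) j = bt K x (j + 1) := fun j => by rw [bt, bt, Nat.testBit_shiftRight, add_comm]
    have e2 : bt K x 0 = if Nat.beq (x &&& 1) 1 then 1 else 0 := by
      rw [bt, Nat.and_one_is_mod, Nat.testBit_zero]; simp only [decide_eq_true_eq, nbeq_iff]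
    rw [e, List.length_cons, Finset.sum_range_succ', e2]
    cases Nat.beq (x &&& 1) 1
    · simp only [ih, e1]; simp [nth]
    · simp only [ih, e1, bt_xor]; simp [nth]; ring

theorem ac_m {C : List ℕ} (h : C.length = 78) : Ac K (m K C) (app C) := fun x => funext fun i => by
  rw [d, app, app'_spec, h, ← Fin.sum_univ_eq_sum_range (fun j => bt K (nth C j) (σ i) * bt K x j), ← σ.sum_comp]
  simp [bt, mulVec, dotProduct, m, d]

/-- coefficient of `t` -/
noncomputable def c1 (r i j : ℕ) : ℤ :=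
  if j < 6 then (if i = 6 + r then (chevE6.cartanSR.getD j #[]).getD r 0 else 0)
  else if j = 6 + r then 0 else if j = 6 + chevE6.negIdx.getD r 0 then (if i < 6 then (chevE6.coroot.getD r #[]).getD i 0 else 0)
  else if i < 6 then 0 else ((chevE6.chainCoeff r (j - 6) (i - 6)).map Prod.snd).sum

/-- coefficient of `t ^ 2` -/
noncomputable def c2 (r i j : ℕ) : ℤ := if j = 6 + chevE6.negIdx.getD r 0 ∧ i = 6 + r then 1 else 0

noncomputable def xchk (r : ℕ) (A B : List ℕ) : Bool :=
  allL (chevE6.chain.getD r #[]).toList (fun e => Nat.beq e.2.size 1) && !(Nat.beq r (chevE6.negIdx.getD r 0)) &&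
    allLt 78 fun j => frc (nth A j) fun a => frc (nth B j) fun b => allLt 78 fun i =>
      beqB (tb a i) (decide (c1 r i j % 2 = 1)) && beqB (tb b i) (decide (c2 r i j % 2 = 1))

theorem bt_int {x i : ℕ} {z : ℤ} (h : beqB (tb x i) (decide (z % 2 = 1)) = true) : bt K x i = z := by
  rw [beqB_iff, tb_eq] at h
  have : (z : K) = (z % 2 : ℤ) := by
    conv_lhs => rw [← Int.emod_add_mul_ediv z 2, Int.cast_add, Int.cast_mul, Int.cast_ofNat, CharTwo.two_eq_zero (R := K),
      zero_mul, add_zero]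
  rw [bt, h, this]
  rcases Int.emod_two_eq_zero_or_one z with e | e <;> simp [e]

theorem x_eq (r : Fin chevE6.nroots) {A B : List ℕ} (h : xchk r A B = true) (t : K) :
    chevE6.xMat K r t = 1 + t • m K A + t ^ 2 • m K B := by
  simp only [xchk, Bool.and_eq_true, allLt_iff, frc_eq, allL_iff, nbeq_iff, Bool.not_eq_true', nbeq_false] at h
  obtain ⟨⟨h1, h2⟩, h3⟩ := h
  have hs : ∀ s u, ((chevE6.chainCoeff r s u).map fun km => ((km.2 : ℤ) : K) * t ^ km.1).sum =
      t * (((chevE6.chainCoeff r s u).map Prod.snd).sum : ℤ) := fun s u => by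
    rw [Int.cast_list_sum, List.map_map, ← List.sum_map_mul_left]
    refine congrArg _ (List.map_congr_left fun km hk => ?_)
    simp only [ChevalleyDatum.chainCoeff, List.mem_flatMap, List.mem_filter, List.mem_map] at hk
    obtain ⟨e, ⟨he, -⟩, q, ⟨hq, -⟩, rfl⟩ := hk
    have := List.snd_lt_of_mem_zipIdx hq
    rw [Array.length_toList, h1 e he] at this
    rw [show q.2 = 0 by omega]
    simp [mul_comm]
  ext i j
  have h4 := h3 _ (σ j).2 _ (σ i).2
  rw [Matrix.add_apply, Matrix.add_apply, Matrix.smul_apply, Matrix.smul_apply, m, m, of_apply, of_apply, bt_int h4.1, bt_int h4.2, smul_eq_mul, smul_eq_mul]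
  have l : ∀ a : Fin chevE6.rank, ((σ (Sum.inl a) : Fin 78) : ℕ) = a := fun _ => rfl
  have l' : ∀ a : Fin chevE6.rank, (a : ℕ) < 6 := fun a => a.2
  have rr : ∀ a : Fin chevE6.nroots, ((σ (Sum.inr a) : Fin 78) : ℕ) = 6 + a := fun _ => rfl
  clear h4 h3 h1
  rcases i with i | i <;> rcases j with j | j <;>
    simp only [l, rr, c1, c2, ChevalleyDatum.xMat, of_apply, Matrix.one_apply, hs] <;>
    generalize chevE6.negIdx.getD r 0 = n at h2 ⊢
  · have := l' i; have := l' j
    simp [show ¬ (i : ℕ) = 6 + r by omega, this]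
  · have := l' i
    by_cases a : j = r
    · simp [a, show ¬ (i : ℕ) = 6 + r by omega]
    · by_cases b : (j : ℕ) = n <;> simp [a, b, this, Fin.val_inj, show ¬ (i : ℕ) = 6 + r by omega, mul_comm, h2.symm]
  · have := l' j
    simp [this, Fin.val_inj, show ¬ (j : ℕ) = 6 + n by omega, CharTwo.neg_eq, mul_comm]
  · by_cases a : j = r
    · simp [a, h2]
    · by_cases b : (j : ℕ) = n
      · by_cases c : i = j
        · simp [a, b, c, Fin.val_inj, h2.symm]
        · simp [a, b, c, Fin.val_inj, CharTwo.neg_eq, h2.symm]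
      · simp [a, b, Fin.val_inj]

end Cfsg.Agent.L1E6
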