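import Cfsg.Agent.L1.EF4
import Cfsg.Agent.L1.EF2a
import Cfsg.Agent.L1.EF2b
import Cfsg.Agent.L1.EF2c
set_option autoImplicit false
set_option maxRecDepth 100000

namespace Cfsg.Agent.L1E6
open Matrix Cfsg.Lie Cfsg.Agent.H14 Cfsg.Agent.H15
def P0 : List ℕ := [0x21, 0x20, 0x2, 0x14, 0x10, 0x8, 0x40, 0x80, 0x100, 0xa00, 0x800, 0x400400, 0x400000, 0x1000, 0x802000, 0x800000, 0x4000, 0x2008000, 0x2000000, 0x10010000, 0x10000000, 0x20000, 0x100040000, 0x100000000, 0x1000080000, 0x1000000000, 0x8000100000, 0x8000000000, 0x20000200000, 0x20000000000, 0x1000000, 0x4000000, 0x28000000, 0x20000000, 0x40000000, 0x80000000, 0x200000000, 0x2400000000, 0x2000000000, 0x10800000000, 0x10000000000, 0x4000000000, 0x4000040000000000, 0x4000000000000000, 0x1080000000000, 0x1000000000000, 0x8000100000000000, 0x8000000000000000, 0x200000000000, 0x2400000000000, 0x2000000000000, 0x10000800000000000, 0x10000000000000000, 0x4000000000000, 0x20008000000000000,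 0x20000000000000000, 0x10000000000000, 0x20000000000000, 0x140000000000000, 0x100000000000000, 0x80080000000000000, 0x80000000000000000, 0x200000000000000, 0x100400000000000000, 0x100000000000000000, 0x800000000000000, 0x401000000000000000, 0x400000000000000000, 0x2002000000000000000, 0x2000000000000000000, 0x40000000000000000, 0x200000000000000000, 0x800000000000000000, 0x5000000000000000000, 0x4000000000000000000, 0x8000000000000000000, 0x10000000000000000000, 0x20000000000000000000]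
def P1 : List ℕ := [0x0, 0x21, 0x0, 0x0, 0x14, 0x0, 0x0, 0x0, 0x0, 0x0, 0xa00, 0x0, 0x400400, 0x0, 0x0, 0x802000, 0x0, 0x0, 0x2008000, 0x0, 0x10010000, 0x0, 0x0, 0x100040000, 0x0, 0x1000080000, 0x0, 0x8000100000, 0x0, 0x20000200000, 0x0, 0x0, 0x0, 0x28000000, 0x0, 0x0, 0x0, 0x0, 0x2400000000, 0x0, 0x10800000000, 0x0, 0x0, 0x4000040000000000, 0x0, 0x1080000000000, 0x0, 0x8000100000000000, 0x0, 0x0, 0x2400000000000, 0x0, 0x10000800000000000, 0x0, 0x0, 0x20008000000000000, 0x0, 0x0, 0x0, 0x140000000000000, 0x0, 0x80080000000000000, 0x0, 0x0, 0x100400000000000000, 0x0, 0x0, 0x401000000000000000, 0x0, 0x2002000000000000000, 0x0, 0x0, 0x0, 0x0, 0x5000000000000000000, 0x0, 0x0, 0x0]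
def R0 : List ℕ := [0x3, 0x4, 0x18, 0x20, 0x10, 0x2, 0x40, 0x80, 0x100, 0x600, 0x1800, 0x400, 0x2000, 0xc000, 0x10000, 0x60000, 0x180000, 0x200000, 0xc00000, 0x3000000, 0xc000000, 0x30000000, 0x1000, 0x8000, 0x40000000, 0x40000, 0x80000000, 0x300000000, 0x100000, 0x200000000, 0x400000000, 0x800000000, 0x800000, 0x1000000000, 0x6000000000, 0x18000000000, 0x2000000, 0x4000000000, 0x20000000000, 0x8000000, 0x10000000000, 0x20000000, 0xc0000000000, 0x300000000000, 0xc00000000000, 0x1000000000000, 0x6000000000000, 0x18000000000000, 0x200000000000, 0x4000000000000, 0x20000000000000, 0xc0000000000000, 0x100000000000000, 0x200000000000000, 0xc00000000000000, 0x3000000000000000, 0x800000000000000, 0x4000000000000000, 0x18000000000000000, 0x20000000000000000, 0xc0000000000000000, 0x300000000000000000, 0x80000000000, 0x800000000000, 0x10000000000000, 0x80000000000000, 0x400000000000000000, 0x2000000000000000, 0x10000000000000000, 0x800000000000000000,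 0x80000000000000000, 0x1000000000000000000, 0x6000000000000000000, 0x200000000000000000, 0x4000000000000000000, 0x8000000000000000000, 0x10000000000000000000, 0x20000000000000000000]
def R1 : List ℕ := [0x1, 0x0, 0x8, 0x0, 0x8, 0x1, 0x0, 0x0, 0x0, 0x200, 0x800, 0x200, 0x0, 0x4000, 0x0, 0x20000, 0x80000, 0x0, 0x400000, 0x1000000, 0x4000000, 0x10000000, 0x800, 0x4000, 0x0, 0x20000, 0x0, 0x100000000, 0x80000, 0x100000000, 0x0, 0x0, 0x400000, 0x0, 0x2000000000, 0x8000000000, 0x1000000, 0x2000000000, 0x0, 0x4000000, 0x8000000000, 0x10000000, 0x40000000000, 0x100000000000, 0x400000000000, 0x0, 0x2000000000000, 0x8000000000000, 0x100000000000, 0x2000000000000, 0x0, 0x40000000000000, 0x0, 0x0, 0x400000000000000, 0x1000000000000000, 0x400000000000000, 0x0, 0x8000000000000000, 0x0, 0x40000000000000000, 0x100000000000000000, 0x40000000000, 0x400000000000, 0x8000000000000, 0x40000000000000, 0x0, 0x1000000000000000, 0x8000000000000000, 0x0, 0x40000000000000000,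 0x0, 0x2000000000000000000, 0x100000000000000000, 0x2000000000000000000, 0x0, 0x0, 0x0]

variable {K : Type*} [Field K] [CharP K 2] {ω : K}

def Ac2 (ω : K) (A : Matrix I I K) (f g : ℕ → ℕ) : Prop := ∃ A0 A1, A = A0 + ω • A1 ∧ Ac K A0 f ∧ Ac K A1 g

omit [CharP K 2] in
theorem Ac.two {A : Matrix I I K} {f : ℕ → ℕ} (h : Ac K A f) : Ac2 ω A f fun _ => 0 := ⟨A, 0, by simp, h, Ac.zero⟩

omit [CharP K 2] in
theorem Ac2.eq {A B : Matrix I I K} {f g f' g' : ℕ → ℕ} (hA : Ac2 ω A f g) (hB : Ac2 ω B f' g')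
    (h : (eqB f f' && eqB g g') = true) : A = B := by
  obtain ⟨_, _, rfl, a, b⟩ := hA
  obtain ⟨_, _, rfl, c, e⟩ := hB
  rw [Bool.and_eq_true] at h
  rw [a.eq c h.1, b.eq e h.2]

theorem Ac2.mul (hω : ω * ω = ω + 1) {A B : Matrix I I K} {f g f' g' : ℕ → ℕ} (hA : Ac2 ω A f g) (hB : Ac2 ω B f' g') :
    Ac2 ω (A * B) (fun x => Nat.xor (frcN (f' x) f) (frcN (g' x) g))
      fun x => Nat.xor (Nat.xor (frcN (g' x) f) (frcN (f' x) g)) (frcN (g' x) g) := by
  obtain ⟨A0, A1, rfl, a, b⟩ := hA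
  obtain ⟨B0, B1, rfl, c, e⟩ := hB
  refine ⟨_, _, ?_, (a.mul c).add (b.mul e), ((a.mul e).add (b.mul c)).add (b.mul e)⟩
  simp only [mul_add, add_mul, smul_mul_assoc, mul_smul_comm, smul_smul, hω, smul_add, add_smul, one_smul]
  abel

theorem ax1 (r : Fin chevE6.nroots) {A B : List ℕ} (h : xchk r A B = true) (l : (Nat.beq A.length 78 && Nat.beq B.length 78) = true) :
    Ac K (chevE6.x K r 1) fun x => Nat.xor (Nat.xor x (app A x)) (app B x) := by
  rw [Bool.and_eq_true, nbeq_iff, nbeq_iff] at l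
  rw [ChevalleyDatum.x, dif_pos r.2, x_eq r h, one_pow, one_smul, one_smul]
  exact (Ac.one.add (ac_m l.1)).add (ac_m l.2)

theorem ax2 (hω : ω * ω = ω + 1) (r : Fin chevE6.nroots) {A B : List ℕ} (h : xchk r A B = true)
    (l : (Nat.beq A.length 78 && Nat.beq B.length 78) = true) :
    Ac2 ω (chevE6.x K r ω) (fun x => Nat.xor x (app B x)) fun x => Nat.xor (app A x) (app B x) := by
  rw [Bool.and_eq_true, nbeq_iff, nbeq_iff] at l
  refine ⟨_, _, ?_, Ac.one.add (ac_m l.2), (ac_m l.1).add (ac_m l.2)⟩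
  rw [ChevalleyDatum.x, dif_pos r.2, x_eq r h, sq, hω, add_smul, one_smul, smul_add]
  abel

theorem ax3 (hω : ω * ω = ω + 1) (r : Fin chevE6.nroots) {A B : List ℕ} (h : xchk r A B = true)
    (l : (Nat.beq A.length 78 && Nat.beq B.length 78) = true) :
    Ac2 ω (chevE6.x K r (ω ^ 2)) (fun x => Nat.xor x (app A x)) fun x => Nat.xor (app A x) (app B x) := by
  rw [Bool.and_eq_true, nbeq_iff, nbeq_iff] at l
  refine ⟨_, _, ?_, Ac.one.add (ac_m l.1), (ac_m l.1).add (ac_m l.2)⟩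
  have : (ω + 1) ^ 2 = ω := by rw [CharTwo.add_sq, sq, hω, one_pow, add_assoc, CharTwo.add_self_eq_zero, add_zero]
  rw [ChevalleyDatum.x, dif_pos r.2, x_eq r h, sq ω, hω, this, add_smul, one_smul, smul_add]
  abel

theorem acP : Ac2 ω (m K P0 + ω • m K P1) (app P0) (app P1) :=
  ⟨_, _, rfl, ac_m (by decide +kernel), ac_m (by decide +kernel)⟩
theorem acR : Ac2 ω (m K R0 + ω • m K R1) (app R0) (app R1) :=
  ⟨_, _, rfl, ac_m (by decide +kernel), ac_m (by decide +kernel)⟩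

noncomputable def PU (hω : ω * ω = ω + 1) : GL I K :=
  ⟨_, _, (acP.mul hω acR).eq Ac.one.two (by decide +kernel), (acR.mul hω acP).eq Ac.one.two (by decide +kernel)⟩

theorem mem_of (hω : ω * ω = ω + 1) {l : ℕ} (hl : l < 18) {w : List (ℕ × K)} (hw : w ∈ e6Words K 2) {f g : ℕ → ℕ}
    (h : Ac2 ω (chevE6.wordMat K w) f g)
    (H : (eqB (fun x => Nat.xor (frcN (app (nthW Cs l) x) (app P0)) (frcN 0 (app P1)))
        (fun x => Nat.xor (frcN (app P0 x) f) (frcN (app P1 x) g)) &&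
      eqB (fun x => Nat.xor (Nat.xor (frcN 0 (app P0)) (frcN (app (nthW Cs l) x) (app P1))) (frcN 0 (app P1)))
        fun x => Nat.xor (Nat.xor (frcN (app P1 x) f) (frcN (app P0 x) g)) (frcN (app P1 x) g)) = true) :
    PU hω * π K l * (PU hω)⁻¹ ∈ twistedE6 K 2 := by
  refine Subgroup.subset_closure ⟨w, hw, ?_⟩
  have e : (PU hω).1 * (π K l).1 = _ * (PU hω).1 := (acP.mul hω (π_ac l hl).two).eq (h.mul hω acP) H
  rw [Units.val_mul, Units.val_mul, e, Units.mul_inv_cancel_right]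

omit [CharP K 2] in
theorem w1 (r : ℕ) (t : K) : chevE6.wordMat K [(r, t)] = chevE6.x K r t := by simp [ChevalleyDatum.wordMat]
omit [CharP K 2] in
theorem w2 (r s : ℕ) (t u : K) : chevE6.wordMat K [(r, t), (s, u)] = chevE6.x K r t * chevE6.x K s u := by
  simp [ChevalleyDatum.wordMat]

theorem memG (hω : ω * ω = ω + 1) : ∀ l, 9 ≤ l → l < 18 → PU hω * π K l * (PU hω)⁻¹ ∈ twistedE6 K 2 := fun l h1 h2 => by
  interval_cases l
  · exact mem_of hω h2 (w := [(46, 1)]) (Or.inl ⟨1, one_pow _, 46, by decide, rfl⟩)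
      (w1 46 (1 : K) ▸ (ax1 ⟨46, by decide⟩ k46 (by decide +kernel)).two) (by decide +kernel)
  · exact mem_of hω h2 (w := [(25, 1)]) (Or.inl ⟨1, one_pow _, 25, by decide, rfl⟩)
      (w1 25 (1 : K) ▸ (ax1 ⟨25, by decide⟩ k25 (by decide +kernel)).two) (by decide +kernel)
  · exact mem_of hω h2 (w := [(39, 1)]) (Or.inl ⟨1, one_pow _, 39, by decide, rfl⟩)
      (w1 39 (1 : K) ▸ (ax1 ⟨39, by decide⟩ k39 (by decide +kernel)).two) (by decide +kernel)
  · exact mem_of hω h2 (w := [(32, 1)]) (Or.inl ⟨1, one_pow _, 32, by decide, rfl⟩)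
      (w1 32 (1 : K) ▸ (ax1 ⟨32, by decide⟩ k32 (by decide +kernel)).two) (by decide +kernel)
  · exact mem_of hω h2 (w := [(56, 1), (36, 1)]) (Or.inr ⟨1, (56, 36), by decide, by rw [one_pow]⟩)
      (w2 56 36 (1 : K) 1 ▸ ((ax1 ⟨56, by decide⟩ k56 (by decide +kernel)).mul (ax1 ⟨36, by decide⟩ k36 (by decide +kernel))).two) (by decide +kernel)
  · exact mem_of hω h2 (w := [(15, 1), (35, 1)]) (Or.inr ⟨1, (15, 35), by decide, by rw [one_pow]⟩)
      (w2 15 35 (1 : K) 1 ▸ ((ax1 ⟨15, by decide⟩ k15 (by decide +kernel)).mul (ax1 ⟨35, by decide⟩ k35 (by decide +kernel))).two) (by decide +kernel)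
  · exact mem_of hω h2 (w := [(42, 1), (37, 1)]) (Or.inr ⟨1, (42, 37), by decide, by rw [one_pow]⟩)
      (w2 42 37 (1 : K) 1 ▸ ((ax1 ⟨42, by decide⟩ k42 (by decide +kernel)).mul (ax1 ⟨37, by decide⟩ k37 (by decide +kernel))).two) (by decide +kernel)
  · exact mem_of hω h2 (w := [(29, 1), (34, 1)]) (Or.inr ⟨1, (29, 34), by decide, by rw [one_pow]⟩)
      (w2 29 34 (1 : K) 1 ▸ ((ax1 ⟨29, by decide⟩ k29 (by decide +kernel)).mul (ax1 ⟨34, by decide⟩ k34 (by decide +kernel))).two) (by decide +kernel)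
  · exact mem_of hω h2 (w := [(56, ω), (36, ω ^ 2)]) (Or.inr ⟨ω, (56, 36), by decide, rfl⟩)
      (w2 56 36 ω (ω ^ 2) ▸ (ax2 hω ⟨56, by decide⟩ k56 (by decide +kernel)).mul hω (ax3 hω ⟨36, by decide⟩ k36 (by decide +kernel))) (by decide +kernel)

end Cfsg.Agent.L1E6
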