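import Cfsg.Agent.L1.EF5
import Cfsg.Agent.H12.E6F4
import Cfsg.Agent.H19.Aut
set_option autoImplicit false
set_option maxRecDepth 100000

namespace Cfsg.Agent.L1E6
open Matrix Cfsg.Lie Cfsg.Agent.H14 Cfsg.Agent.H15

section
variable {K : Type*} [Field K] [CharP K 2] {ω : K}

theorem exists_fi (hω : ω * ω = ω + 1) : ∃ e : Spor.Fi22 →* GL I K, Function.Injective e ∧ (∀ x, e x ∈ twistedE6 K 2) ∧
    ∀ z : GL I K, (∀ x, Commute z (e x)) → ∀ y, Commute z y := by
  obtain ⟨φ, h1, h2⟩ := exists_hom (K := K)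
  refine ⟨(MulAut.conj (PU hω)).toMonoidHom.comp φ, (MulAut.conj _).injective.comp h1, fun x => ?_, fun z hz y => ?_⟩
  · have : gp Fi22.E Fi22.all ≤ (twistedE6 K 2).comap ((MulAut.conj (PU hω)).toMonoidHom.comp φ) := gp_le.2 fun w hw => ?_
    · exact this (Fi22.top.ge (Subgroup.mem_top x))
    · refine lprod_mem fun a ha => ?_
      have hl : a < 9 := by revert a w; decide
      have h := allLt_iff.1 kgw a hl
      simp only [Bool.and_eq_true, allL_iff, nble_iff] at h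
      have e : π K a = lprod (π K) (nthW GW a) :=
        (lprod_single a).symm.trans (Units.ext ((Ac.w π_ac (okW_iff.2 (by simp; omega))).eq (Ac.w π_ac h.1.2) h.2))
      show PU hω * φ _ * (PU hω)⁻¹ ∈ twistedE6 K 2
      rw [h2 a hl, e]
      exact lprod_mem (K := (twistedE6 K 2).comap (MulAut.conj (PU hω)).toMonoidHom) fun b hb =>
        memG hω b (h.1.1 b hb) (okW_iff.1 h.1.2 b hb)
  · obtain ⟨c, hc⟩ := scalar (K := K) (z := ((PU hω)⁻¹ * z * PU hω : GL I K).1) fun l hl => by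
      have := (hz (Fi22.E l)).map (MulAut.conj (PU hω)⁻¹)
      simp only [MonoidHom.comp_apply, h2 l hl, MulEquiv.coe_toMonoidHom, MulAut.conj_apply, inv_inv, mul_assoc,
        inv_mul_cancel_left, inv_mul_cancel, mul_one] at this
      rw [mul_assoc]
      exact this.map (Units.coeHom _)
    have e : (z : Matrix I I K) = c • 1 := by
      rw [show z = PU hω * ((PU hω)⁻¹ * z * PU hω) * (PU hω)⁻¹ by group, Units.val_mul, Units.val_mul, hc]
      simp
    exact Units.ext (by rw [Units.val_mul, Units.val_mul, e]; simp)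

end

open Cfsg.Agent.H12 Cfsg.Agent.H13

theorem out_sq (x : Out Spor.Fi22) : x ^ 2 = 1 := by
  have : Finite Spor.Fi22 := Nat.finite_of_card_ne_zero (by rw [Fi22.card]; norm_num)
  have := Fi22.simple
  have hi : Function.Injective (MulAut.conj : Spor.Fi22 →* MulAut Spor.Fi22) := by
    rw [injective_iff_map_eq_one]
    intro g hg
    have hz : Subgroup.center Spor.Fi22 = ⊥ := center_eq_bot_of_simple (by rw [Fi22.card]; norm_num)
    exact Subgroup.mem_bot.1 (hz ▸ Subgroup.mem_center_iff.2 fun y =>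
      (mul_inv_eq_iff_eq_mul.1 (DFunLike.congr_fun hg y)).symm)
  have h1 := (Inn Spor.Fi22).card_eq_card_quotient_mul_card_subgroup
  rw [← Nat.card_congr (MonoidHom.ofInjective hi).toEquiv] at h1
  have h2 : Nat.card (Out Spor.Fi22) ≤ 2 := Nat.le_of_mul_le_mul_right (h1.ge.trans H19.card_aut_fi22) Nat.card_pos
  have h3 : 0 < Nat.card (Out Spor.Fi22) := Nat.card_pos
  refine orderOf_dvd_iff_pow_eq_one.1 ((orderOf_dvd_natCard x).trans ?_)
  interval_cases Nat.card (Out Spor.Fi22) <;> norm_num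

theorem sq_conj {H G : Type*} [Group H] [Finite H] [Group G] (h : ∀ x : Out H, x ^ 2 = 1)
    {e : H →* G} (he : Function.Injective e) {y : G} (hy : ∀ x, y * e x * y⁻¹ ∈ e.range) :
    ∃ z, ∀ x, Commute ((e z)⁻¹ * (y * y)) (e x) := by
  choose a ha using hy
  let a' : H →* H := MonoidHom.mk' a fun u v => he (by simp [ha])
  let α : MulAut H := MulEquiv.ofBijective a' (Finite.injective_iff_bijective.1 fun u v e' =>
    he ((MulAut.conj y).injective ((ha u).symm.trans ((congrArg e e').trans (ha v)))))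
  have := h (QuotientGroup.mk' (Inn H) α)
  rw [← map_pow, QuotientGroup.mk'_apply, QuotientGroup.eq_one_iff] at this
  obtain ⟨z, hz⟩ := this
  refine ⟨z, fun x => ?_⟩
  have h1 : e (z * x * z⁻¹) = e (a (a x)) := congrArg e (DFunLike.congr_fun hz x)
  rw [ha, ha, map_mul, map_mul, map_inv] at h1
  calc _ = (e z)⁻¹ * (y * (y * e x * y⁻¹) * y⁻¹) * (y * y) := by group
    _ = _ := by rw [← h1]; group

theorem three {K : Type*} [Field K] [Fintype K] (hK : Fintype.card K = 4) :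
    ∃ H : Fin 3 → Subgroup (twistedE6 K 2), (∀ i, Spor.IsoFi22 (H i)) ∧
      ∀ i j, i ≠ j → ∀ g : twistedE6 K 2, (H i).map (MulAut.conj g).toMonoidHom ≠ H j := by
  obtain ⟨S, h1, h2, h3⟩ := exists_ED (K := K) (q := 2) Nat.prime_two.isPrimePow hK
  have : CharP K 2 := charP_of_card_pow (n := 2) hK
  have : Finite Spor.Fi22 := Nat.finite_of_card_ne_zero (by rw [Fi22.card]; norm_num)
  have hG : S.G = (S.A.twist S.nontriv).Fix := rfl
  obtain ⟨ω, hω⟩ : ∃ ω : K, ω * ω = ω + 1 := by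
    classical
    obtain ⟨ω, hω⟩ : ∃ ω : K, ω ∉ ({0, 1} : Finset K) :=
      Finset.exists_mem_notMem_of_card_lt_card (s := {0, 1}) (t := Finset.univ)
        (Finset.card_le_two.trans_lt (by rw [Finset.card_univ, hK]; norm_num)) |>.imp fun _ h => h.2
    simp only [Finset.mem_insert, Finset.mem_singleton, not_or] at hω
    have h := FiniteField.pow_card_sub_one_eq_one ω hω.1
    rw [hK] at h
    refine ⟨ω, ?_⟩
    have : (ω - 1) * (ω * ω + ω + 1) = 0 := by linear_combination h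
    have := (mul_eq_zero.1 this).resolve_left (sub_ne_zero.2 hω.2)
    rw [← CharTwo.neg_eq (ω + 1)]; linear_combination this
  obtain ⟨e, e1, e2, e3⟩ := exists_fi hω
  rw [h2] at e2
  obtain ⟨χ, hχ, hχ'⟩ : ∃ χ ∈ TI S.A, dgU chevE6 K χ ∉ S.G := by
    by_contra hc
    push Not at hc
    have h4 := card_TI_le hG hc
    rw [card_TI E6.τ_τ E6.τ_τ, ← card_tw_T S.A E6.τ_τ E6.τ_τ S.nontriv S.lang,
      ED_card_ker S le_rfl h3 h1] at h4
    have := Nat.card_pos (α := (S.A.twist S.nontriv).rgd.T)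
    simp at h4
  have h5 : ∀ ψ : Chr chevE6 K, ψ ^ 3 = 1 := fun ψ => MonoidHom.ext fun v => by
    have := pow_card_eq_one' (x := ψ v)
    rwa [Nat.card_units, h3] at this
  have key : ∀ ψ ∈ TI S.A, ∀ g ∈ S.G, (∀ x, g * dgU chevE6 K ψ * e x * (g * dgU chevE6 K ψ)⁻¹ ∈
      e.range) → dgU chevE6 K ψ ∈ S.G := fun ψ hψ g hg h => by
    obtain ⟨z, hz⟩ := sq_conj out_sq e1 h
    have h6 := mul_mem (mul_mem (inv_mem (e2 z)) hg) (dg_conj_mem hG hψ hg)
    have h7 := mul_dg_eq_one (G1_le hG h6) (χ := ψ * ψ) fun i => by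
      obtain ⟨b, a1, a2⟩ : ∃ b : Fin chevE6.nroots, (rsOf chevE6).Pos b ∧ b ≠ (rsOf chevE6).simple i := by
        rcases E6.rank_cases i with rfl | rfl | rfl | rfl | rfl | rfl
        iterate 5 exact ⟨36, by decide +kernel, by decide⟩
        exact ⟨56, by decide +kernel, by decide⟩
      rw [show (e z)⁻¹ * g * (dgU chevE6 K ψ * g * (dgU chevE6 K ψ)⁻¹) * dgU chevE6 K (ψ * ψ) =
        (e z)⁻¹ * (g * dgU chevE6 K ψ * (g * dgU chevE6 K ψ)) by rw [map_mul]; group]
      exact ⟨b, 0, a1, a2, e3 _ hz _, e3 _ hz _⟩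
    have h8 := pow_mem (eq_inv_of_mul_eq_one_right h7 ▸ inv_mem h6) 2
    rwa [← map_pow, sq_sq_of_cube (h5 ψ)] at h8
  rw [h2]
  let f : Fin 3 → (Spor.Fi22 →* S.G) := fun i =>
    ((MulAut.conj (dgU chevE6 K (χ ^ i.1))).toMonoidHom.comp e).codRestrict _ fun x =>
      dg_conj_mem hG (pow_mem hχ _) (e2 x)
  refine ⟨fun i => (f i).range, fun i => ⟨(MonoidHom.ofInjective fun a b h =>
    e1 ((MulAut.conj _).injective (congrArg Subtype.val h))).symm⟩, fun i j hij g h => ?_⟩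
  have h6 := key ((χ ^ j.1)⁻¹ * χ ^ i.1) (mul_mem (inv_mem (pow_mem hχ _)) (pow_mem hχ _)) _
    (dg_conj_mem hG (inv_mem (pow_mem hχ j.1)) g.2) fun x => by
      obtain ⟨y, hy⟩ := h.le ⟨_, ⟨x, rfl⟩, rfl⟩
      refine ⟨y, (MulAut.conj (dgU chevE6 K (χ ^ j.1))).injective ((congrArg Subtype.val hy).trans ?_)⟩
      change g.1 * (dgU chevE6 K (χ ^ i.1) * e x * (dgU chevE6 K (χ ^ i.1))⁻¹) * g.1⁻¹ = _
      rw [MulAut.conj_apply, map_mul (dgU chevE6 K), map_inv (dgU chevE6 K)]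
      generalize dgU chevE6 K (χ ^ i.1) = a, dgU chevE6 K (χ ^ j.1) = b
      group
  have h8 := zpow_mem h6 (-(j.1 : ℤ) + i.1)
  rw [← map_zpow, zpow_of_cube (h5 χ) hij] at h8
  exact hχ' h8

end Cfsg.Agent.L1E6
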