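import Cfsg.Agent.L1.EF6
import Cfsg.Agent.L1.EF7
import Cfsg.Agent.S0816
import Cfsg.Agent.S0292
import Cfsg.Agent.S0295
set_option autoImplicit false
set_option maxRecDepth 100000

namespace Cfsg.Agent.L1E6
open Matrix Cfsg.Lie Cfsg.Agent.H14 Cfsg.Agent.H15

/-- the subgroup generated by `b, …, i` -/
noncomputable abbrev O7 : Subgroup Spor.Fi22 := gp Fi22.E [[1], [2], [3], [4], [5], [6], [7], [8]]

section
variable {K : Type*} [Field K] [CharP K 2] {ω : K}

theorem exists_o7 (hω : ω * ω = ω + 1) : ∃ e : O7 →* GL I K, Function.Injective e ∧ (∀ x, e x ∈ twistedE6 K 2) ∧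
    ∀ z : GL I K, (∀ x, Commute z (e x)) → ∀ y, Commute z y := by
  obtain ⟨φ, h1, h2⟩ := exists_hom (K := K)
  refine ⟨((MulAut.conj (PU hω)).toMonoidHom.comp φ).comp O7.subtype,
    ((MulAut.conj _).injective.comp h1).comp Subtype.val_injective, fun x => ?_, fun z hz y => ?_⟩
  · have : gp Fi22.E Fi22.all ≤ (twistedE6 K 2).comap ((MulAut.conj (PU hω)).toMonoidHom.comp φ) := gp_le.2 fun w hw => ?_
    · exact this (Fi22.top.ge (Subgroup.mem_top x.1))
    · refine lprod_mem fun a ha => ?_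
      have hl : a < 9 := by revert a w; decide
      have h := allLt_iff.1 kgw a hl
      simp only [Bool.and_eq_true, allL_iff, nble_iff] at h
      have e : π K a = lprod (π K) (nthW GW a) :=
        (lprod_single a).symm.trans (Units.ext ((Ac.w π_ac (okW_iff.2 (by simp; omega))).eq (Ac.w π_ac h.1.2) h.2))
      show PU hω * φ _ * (PU hω)⁻¹ ∈ twistedE6 K 2
      rw [h2 a hl, e]
      exact lprod_mem (K := (twistedE6 K 2).comap (MulAut.conj (PU hω)).toMonoidHom) fun b hb =>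
        memG hω b (h.1.1 b hb) (okW_iff.1 h.1.2 b hb)
  · obtain ⟨c, hc⟩ := scalar7 (K := K) (z := ((PU hω)⁻¹ * z * PU hω : GL I K).1) fun l h0 hl => by
      have hm : Fi22.E l ∈ O7 := Subgroup.subset_closure ⟨[l], by interval_cases l <;> simp, (lprod_single l).symm⟩
      have := (hz ⟨Fi22.E l, hm⟩).map (MulAut.conj (PU hω)⁻¹)
      simp only [MonoidHom.comp_apply, Subgroup.subtype_apply, h2 l hl, MulEquiv.coe_toMonoidHom, MulAut.conj_apply,
        inv_inv, mul_assoc, inv_mul_cancel_left, inv_mul_cancel, mul_one] at this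
      rw [mul_assoc]
      exact this.map (Units.coeHom _)
    have e : (z : Matrix I I K) = c • 1 := by
      rw [show z = PU hω * ((PU hω)⁻¹ * z * PU hω) * (PU hω)⁻¹ by group, Units.val_mul, Units.val_mul, hc]
      simp
    exact Units.ext (by rw [Units.val_mul, Units.val_mul, e]; simp)

end

open Cfsg.Agent.H12 Cfsg.Agent.H13

theorem card_po7 : Nat.card (POmega (ZMod 3) (quadFormOdd 3 (ZMod 3))) = 4585351680 := by
  have := S0292.result (F := ZMod 3) (ZMod.card 3) (by decide) 3 le_rfl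
  simp only [Finset.prod_range_succ, Finset.prod_range_zero] at this
  omega

theorem po7_equiv : Nonempty (POmega (ZMod 3) (quadFormOdd 3 (ZMod 3)) ≃* Omega (ZMod 3) (quadFormOdd 3 (ZMod 3))) := by
  have two : (2 : ZMod 3) ≠ 0 := by decide
  have c1 := H11.IsQuad.card_isom_odd 3 (H11.isQuad_odd 3 (ZMod 3)) (H11.bOdd_sep 3 two)
    (H11.wittIdx_odd 3 two) (by simp)
  have c2 := (commutator _).index_mul_card.symm.trans (congrArg (· * _)
    ((H11.isQuad_odd 3 (ZMod 3)).index_commutator_of_odd (H11.bOdd_sep 3 two) two (by simp)))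
  have c3 := (Subgroup.center (Omega (ZMod 3) (quadFormOdd 3 (ZMod 3)))).card_eq_card_quotient_mul_card_subgroup
  have c4 := Nat.card_congr (H11.omegaEquiv (H11.isQuad_odd 3 (ZMod 3))).toEquiv
  simp only [Nat.card_zmod, Finset.prod_range_succ, Finset.prod_range_zero] at c1
  rw [card_po7] at c3
  have c5 : Nat.card (Subgroup.center (Omega (ZMod 3) (quadFormOdd 3 (ZMod 3)))) = 1 := by omega
  have : Finite (Subgroup.center (Omega (ZMod 3) (quadFormOdd 3 (ZMod 3)))) := Nat.finite_of_card_ne_zero (by omega)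
  exact ⟨(QuotientGroup.quotientMulEquivOfEq (Subgroup.card_eq_one.1 c5)).trans QuotientGroup.quotientBot⟩

theorem out_sq' {H : Type*} [Group H] [Finite H] (hz : Subgroup.center H = ⊥)
    (h : Nat.card (MulAut H) ≤ 2 * Nat.card H) (x : Out H) : x ^ 2 = 1 := by
  have hi : Function.Injective (MulAut.conj : H →* MulAut H) := by
    rw [injective_iff_map_eq_one]
    intro g hg
    exact Subgroup.mem_bot.1 (hz ▸ Subgroup.mem_center_iff.2 fun y =>
      (mul_inv_eq_iff_eq_mul.1 (DFunLike.congr_fun hg y)).symm)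
  have h1 := (Inn H).card_eq_card_quotient_mul_card_subgroup
  rw [← Nat.card_congr (MonoidHom.ofInjective hi).toEquiv] at h1
  have h2 : Nat.card (Out H) ≤ 2 := Nat.le_of_mul_le_mul_right (h1.ge.trans h) Nat.card_pos
  have h3 : 0 < Nat.card (Out H) := Nat.card_pos
  refine orderOf_dvd_iff_pow_eq_one.1 ((orderOf_dvd_natCard x).trans ?_)
  interval_cases Nat.card (Out H) <;> norm_num

theorem out_sq7 (x : Out (POmega (ZMod 3) (quadFormOdd 3 (ZMod 3)))) : x ^ 2 = 1 := by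
  have h0 := S0816.result (F := ZMod 3) 3 1 le_rfl (ZMod.card 3) (by decide) 3 le_rfl
  have := S0295.result (F := ZMod 3) (by rw [ZMod.card]; decide) 3 le_rfl
  have : Finite (POmega (ZMod 3) (quadFormOdd 3 (ZMod 3))) := Nat.finite_of_card_ne_zero (by rw [card_po7]; norm_num)
  exact out_sq' (center_eq_bot_of_simple (by rw [card_po7]; norm_num)) h0.le x

theorem three' {H : Type*} [Group H] [Finite H] (ho : ∀ x : Out H, x ^ 2 = 1) {K : Type*} [Field K] [Fintype K]
    (hK : Fintype.card K = 4) (he : ∀ [CharP K 2] {ω : K}, ω * ω = ω + 1 → ∃ e : H →* GL I K, Function.Injective e ∧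
      (∀ x, e x ∈ twistedE6 K 2) ∧ ∀ z : GL I K, (∀ x, Commute z (e x)) → ∀ y, Commute z y) :
    ∃ L : Fin 3 → Subgroup (twistedE6 K 2), (∀ i, Nonempty (L i ≃* H)) ∧
      ∀ i j, i ≠ j → ∀ g : twistedE6 K 2, (L i).map (MulAut.conj g).toMonoidHom ≠ L j := by
  obtain ⟨S, h1, h2, h3⟩ := exists_ED (K := K) (q := 2) Nat.prime_two.isPrimePow hK
  have : CharP K 2 := charP_of_card_pow (n := 2) hK
  have hG : S.G = (S.A.twist S.nontriv).Fix := rfl
  obtain ⟨ω, hω⟩ : ∃ ω : K, ω * ω = ω + 1 := by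
    classical
    obtain ⟨ω, hω⟩ : ∃ ω : K, ω ∉ ({0, 1} : Finset K) :=
      Finset.exists_mem_notMem_of_card_lt_card (s := {0, 1}) (t := Finset.univ)
        (Finset.card_le_two.trans_lt (by rw [Finset.card_univ, hK]; norm_num)) |>.imp fun _ h => h.2
    simp only [Finset.mem_insert, Finset.mem_singleton, not_or] at hω
    have h := FiniteField.pow_card_sub_one_eq_one ω hω.1
    rw [hK] at h
    refine ⟨ω, ?_⟩
    have : (ω - 1) * (ω * ω + ω + 1) = 0 := by linear_combination h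
    have := (mul_eq_zero.1 this).resolve_left (sub_ne_zero.2 hω.2)
    rw [← CharTwo.neg_eq (ω + 1)]; linear_combination this
  obtain ⟨e, e1, e2, e3⟩ := he hω
  rw [h2] at e2
  obtain ⟨χ, hχ, hχ'⟩ : ∃ χ ∈ TI S.A, dgU chevE6 K χ ∉ S.G := by
    by_contra hc
    push Not at hc
    have h4 := card_TI_le hG hc
    rw [card_TI E6.τ_τ E6.τ_τ, ← card_tw_T S.A E6.τ_τ E6.τ_τ S.nontriv S.lang,
      ED_card_ker S le_rfl h3 h1] at h4
    have := Nat.card_pos (α := (S.A.twist S.nontriv).rgd.T)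
    simp at h4
  have h5 : ∀ ψ : Chr chevE6 K, ψ ^ 3 = 1 := fun ψ => MonoidHom.ext fun v => by
    have := pow_card_eq_one' (x := ψ v)
    rwa [Nat.card_units, h3] at this
  have key : ∀ ψ ∈ TI S.A, ∀ g ∈ S.G, (∀ x, g * dgU chevE6 K ψ * e x * (g * dgU chevE6 K ψ)⁻¹ ∈
      e.range) → dgU chevE6 K ψ ∈ S.G := fun ψ hψ g hg h => by
    obtain ⟨z, hz⟩ := sq_conj ho e1 h
    have h6 := mul_mem (mul_mem (inv_mem (e2 z)) hg) (dg_conj_mem hG hψ hg)
    have h7 := mul_dg_eq_one (G1_le hG h6) (χ := ψ * ψ) fun i => by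
      obtain ⟨b, a1, a2⟩ : ∃ b : Fin chevE6.nroots, (rsOf chevE6).Pos b ∧ b ≠ (rsOf chevE6).simple i := by
        rcases E6.rank_cases i with rfl | rfl | rfl | rfl | rfl | rfl
        iterate 5 exact ⟨36, by decide +kernel, by decide⟩
        exact ⟨56, by decide +kernel, by decide⟩
      rw [show (e z)⁻¹ * g * (dgU chevE6 K ψ * g * (dgU chevE6 K ψ)⁻¹) * dgU chevE6 K (ψ * ψ) =
        (e z)⁻¹ * (g * dgU chevE6 K ψ * (g * dgU chevE6 K ψ)) by rw [map_mul]; group]
      exact ⟨b, 0, a1, a2, e3 _ hz _, e3 _ hz _⟩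
    have h8 := pow_mem (eq_inv_of_mul_eq_one_right h7 ▸ inv_mem h6) 2
    rwa [← map_pow, sq_sq_of_cube (h5 ψ)] at h8
  rw [h2]
  let f : Fin 3 → (H →* S.G) := fun i =>
    ((MulAut.conj (dgU chevE6 K (χ ^ i.1))).toMonoidHom.comp e).codRestrict _ fun x =>
      dg_conj_mem hG (pow_mem hχ _) (e2 x)
  refine ⟨fun i => (f i).range, fun i => ⟨(MonoidHom.ofInjective fun a b h =>
    e1 ((MulAut.conj _).injective (congrArg Subtype.val h))).symm⟩, fun i j hij g h => ?_⟩
  have h6 := key ((χ ^ j.1)⁻¹ * χ ^ i.1) (mul_mem (inv_mem (pow_mem hχ _)) (pow_mem hχ _)) _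
    (dg_conj_mem hG (inv_mem (pow_mem hχ j.1)) g.2) fun x => by
      obtain ⟨y, hy⟩ := h.le ⟨_, ⟨x, rfl⟩, rfl⟩
      refine ⟨y, (MulAut.conj (dgU chevE6 K (χ ^ j.1))).injective ((congrArg Subtype.val hy).trans ?_)⟩
      change g.1 * (dgU chevE6 K (χ ^ i.1) * e x * (dgU chevE6 K (χ ^ i.1))⁻¹) * g.1⁻¹ = _
      rw [MulAut.conj_apply, map_mul (dgU chevE6 K), map_inv (dgU chevE6 K)]
      generalize dgU chevE6 K (χ ^ i.1) = a, dgU chevE6 K (χ ^ j.1) = b
      group
  have h8 := zpow_mem h6 (-(j.1 : ℤ) + i.1)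
  rw [← map_zpow, zpow_of_cube (h5 χ) hij] at h8
  exact hχ' h8

theorem three7 (f : Nonempty (O7 ≃* POmega (ZMod 3) (quadFormOdd 3 (ZMod 3)))) {K : Type*} [Field K] [Fintype K]
    (hK : Fintype.card K = 4) : ∃ L : Fin 3 → Subgroup (twistedE6 K 2),
      (∀ i, Nonempty (L i ≃* Omega (ZMod 3) (quadFormOdd 3 (ZMod 3)))) ∧
      ∀ i j, i ≠ j → ∀ g : twistedE6 K 2, (L i).map (MulAut.conj g).toMonoidHom ≠ L j := by
  obtain ⟨f⟩ := f
  obtain ⟨f'⟩ := po7_equiv
  have : Finite (POmega (ZMod 3) (quadFormOdd 3 (ZMod 3))) := Nat.finite_of_card_ne_zero (by rw [card_po7]; norm_num)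
  obtain ⟨L, h1, h2⟩ := three' out_sq7 hK fun hω => by
    obtain ⟨e, e1, e2, e3⟩ := exists_o7 hω
    exact ⟨e.comp f.symm.toMonoidHom, e1.comp f.symm.injective, fun x => e2 _, fun z hz =>
      e3 z fun x => by simpa using hz (f x)⟩
  exact ⟨L, fun i => (h1 i).map (·.trans f'), h2⟩

end Cfsg.Agent.L1E6
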