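import Cfsg.Agent.H15.Fi22
set_option autoImplicit false
set_option maxRecDepth 100000

namespace Cfsg.Agent.L1F78
open Matrix Cfsg.Spor

def ma : List (List (ℕ × ℤ)) := [[(nat_lit 0, .ofNat (nat_lit 4))],
  [(nat_lit 1, .ofNat (nat_lit 4))],
  [(nat_lit 2, .ofNat (nat_lit 4))],
  [(nat_lit 3, .ofNat (nat_lit 4))],
  [(nat_lit 4, .ofNat (nat_lit 4))],
  [(nat_lit 5, .ofNat (nat_lit 4))],
  [(nat_lit 6, .ofNat (nat_lit 4))],
  [(nat_lit 7, .ofNat (nat_lit 4))],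
  [(nat_lit 8, .ofNat (nat_lit 4))],
  [(nat_lit 9, .ofNat (nat_lit 4))],
  [(nat_lit 10, .ofNat (nat_lit 4))],
  [(nat_lit 11, .ofNat (nat_lit 4))],
  [(nat_lit 12, .ofNat (nat_lit 4))],
  [(nat_lit 13, .ofNat (nat_lit 4))],
  [(nat_lit 14, .ofNat (nat_lit 4))],
  [(nat_lit 15, .ofNat (nat_lit 4))],
  [(nat_lit 16, .ofNat (nat_lit 4))],
  [(nat_lit 17, .ofNat (nat_lit 4))],
  [(nat_lit 18, .ofNat (nat_lit 4))],
  [(nat_lit 19, .ofNat (nat_lit 4))],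
  [(nat_lit 20, .ofNat (nat_lit 4))],
  [(nat_lit 21, .ofNat (nat_lit 4))],
  [(nat_lit 22, .negSucc (nat_lit 3))],
  [(nat_lit 23, .negSucc (nat_lit 3))],
  [(nat_lit 24, .negSucc (nat_lit 3))],
  [(nat_lit 25, .negSucc (nat_lit 3))],
  [(nat_lit 26, .negSucc (nat_lit 3))],
  [(nat_lit 27, .negSucc (nat_lit 3))],
  [(nat_lit 28, .negSucc (nat_lit 3))],
  [(nat_lit 29, .negSucc (nat_lit 3))],
  [(nat_lit 30, .negSucc (nat_lit 3))],
  [(nat_lit 31, .negSucc (nat_lit 3))],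
  [(nat_lit 32, .negSucc (nat_lit 3))],
  [(nat_lit 33, .negSucc (nat_lit 3))],
  [(nat_lit 34, .negSucc (nat_lit 3))],
  [(nat_lit 35, .negSucc (nat_lit 3))],
  [(nat_lit 36, .negSucc (nat_lit 3))],
  [(nat_lit 37, .negSucc (nat_lit 3))],
  [(nat_lit 38, .negSucc (nat_lit 3))],
  [(nat_lit 39, .negSucc (nat_lit 3))],
  [(nat_lit 40, .negSucc (nat_lit 3))],
  [(nat_lit 41, .negSucc (nat_lit 3))],
  [(nat_lit 42, .negSucc (nat_lit 3))],
  [(nat_lit 43, .negSucc (nat_lit 3))],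
  [(nat_lit 44, .negSucc (nat_lit 3))],
  [(nat_lit 45, .negSucc (nat_lit 3))],
  [(nat_lit 46, .negSucc (nat_lit 3))],
  [(nat_lit 47, .negSucc (nat_lit 3))],
  [(nat_lit 48, .negSucc (nat_lit 3))],
  [(nat_lit 49, .negSucc (nat_lit 3))],
  [(nat_lit 50, .negSucc (nat_lit 3))],
  [(nat_lit 51, .negSucc (nat_lit 3))],
  [(nat_lit 52, .negSucc (nat_lit 3))],
  [(nat_lit 53, .negSucc (nat_lit 3))],
  [(nat_lit 54, .negSucc (nat_lit 3))],
  [(nat_lit 55, .negSucc (nat_lit 3))],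
  [(nat_lit 56, .negSucc (nat_lit 3))],
  [(nat_lit 57, .negSucc (nat_lit 3))],
  [(nat_lit 58, .negSucc (nat_lit 3))],
  [(nat_lit 59, .negSucc (nat_lit 3))],
  [(nat_lit 60, .negSucc (nat_lit 3))],
  [(nat_lit 61, .negSucc (nat_lit 3))],
  [(nat_lit 62, .negSucc (nat_lit 3))],
  [(nat_lit 63, .negSucc (nat_lit 3))],
  [(nat_lit 64, .negSucc (nat_lit 3))],
  [(nat_lit 65, .negSucc (nat_lit 3))],
  [(nat_lit 66, .negSucc (nat_lit 3))],
  [(nat_lit 67, .negSucc (nat_lit 3))],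
  [(nat_lit 68, .negSucc (nat_lit 3))],
  [(nat_lit 69, .negSucc (nat_lit 3))],
  [(nat_lit 70, .negSucc (nat_lit 3))],
  [(nat_lit 71, .negSucc (nat_lit 3))],
  [(nat_lit 72, .negSucc (nat_lit 3))],
  [(nat_lit 73, .negSucc (nat_lit 3))],
  [(nat_lit 74, .negSucc (nat_lit 3))],
  [(nat_lit 75, .negSucc (nat_lit 3))],
  [(nat_lit 76, .negSucc (nat_lit 3))],
  [(nat_lit 77, .negSucc (nat_lit 3))]]
def mb : List (List (ℕ × ℤ)) := [[(nat_lit 0, .negSucc (nat_lit 1)), (nat_lit 40, .ofNat (nat_lit 2))],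
  [(nat_lit 1, .negSucc (nat_lit 1)), (nat_lit 41, .ofNat (nat_lit 2)), (nat_lit 44, .ofNat (nat_lit 2)), (nat_lit 45, .negSucc (nat_lit 1))],
  [(nat_lit 2, .negSucc (nat_lit 1)), (nat_lit 50, .ofNat (nat_lit 2)), (nat_lit 57, .ofNat (nat_lit 2)), (nat_lit 58, .negSucc (nat_lit 1))],
  [(nat_lit 3, .negSucc (nat_lit 0)), (nat_lit 4, .negSucc (nat_lit 0)), (nat_lit 13, .negSucc (nat_lit 0)), (nat_lit 18, .negSucc (nat_lit 0)), (nat_lit 20, .negSucc (nat_lit 0)), (nat_lit 21, .negSucc (nat_lit 0)), (nat_lit 29, .negSucc (nat_lit 0)), (nat_lit 34, .negSucc (nat_lit 0)), (nat_lit 36, .negSucc (nat_lit 0)), (nat_lit 37, .negSucc (nat_lit 0)), (nat_lit 62, .negSucc (nat_lit 0)), (nat_lit 63, .negSucc (nat_lit 0)), (nat_lit 64, .negSucc (nat_lit 0)), (nat_lit 68, .negSucc (nat_lit 0)), (nat_lit 69, .negSucc (nat_lit 0)), (nat_lit 70, .negSucc (nat_lit 0))],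
  [(nat_lit 3, .negSucc (nat_lit 0)), (nat_lit 4, .negSucc (nat_lit 0)), (nat_lit 13, .ofNat (nat_lit 1)), (nat_lit 18, .ofNat (nat_lit 1)), (nat_lit 20, .ofNat (nat_lit 1)), (nat_lit 21, .ofNat (nat_lit 1)), (nat_lit 29, .ofNat (nat_lit 1)), (nat_lit 34, .ofNat (nat_lit 1)), (nat_lit 36, .ofNat (nat_lit 1)), (nat_lit 37, .ofNat (nat_lit 1)), (nat_lit 62, .negSucc (nat_lit 0)), (nat_lit 63, .negSucc (nat_lit 0)), (nat_lit 64, .negSucc (nat_lit 0)), (nat_lit 68, .negSucc (nat_lit 0)), (nat_lit 69, .negSucc (nat_lit 0)), (nat_lit 70, .negSucc (nat_lit 0))],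
  [(nat_lit 5, .negSucc (nat_lit 1)), (nat_lit 59, .ofNat (nat_lit 2)), (nat_lit 74, .ofNat (nat_lit 2)), (nat_lit 77, .negSucc (nat_lit 1))],
  [(nat_lit 6, .negSucc (nat_lit 1)), (nat_lit 22, .ofNat (nat_lit 2)), (nat_lit 38, .ofNat (nat_lit 2)), (nat_lit 39, .negSucc (nat_lit 1))],
  [(nat_lit 7, .negSucc (nat_lit 1)), (nat_lit 24, .ofNat (nat_lit 2)), (nat_lit 48, .ofNat (nat_lit 2)), (nat_lit 49, .negSucc (nat_lit 1))],
  [(nat_lit 8, .negSucc (nat_lit 1)), (nat_lit 23, .ofNat (nat_lit 2)), (nat_lit 46, .ofNat (nat_lit 2)), (nat_lit 47, .negSucc (nat_lit 1))],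
  [(nat_lit 9, .negSucc (nat_lit 1)), (nat_lit 25, .ofNat (nat_lit 2)), (nat_lit 42, .ofNat (nat_lit 2)), (nat_lit 43, .negSucc (nat_lit 1))],
  [(nat_lit 10, .negSucc (nat_lit 1)), (nat_lit 27, .ofNat (nat_lit 2)), (nat_lit 53, .ofNat (nat_lit 2)), (nat_lit 54, .negSucc (nat_lit 1))],
  [(nat_lit 11, .negSucc (nat_lit 1)), (nat_lit 26, .ofNat (nat_lit 2)), (nat_lit 55, .ofNat (nat_lit 2)), (nat_lit 56, .negSucc (nat_lit 1))],
  [(nat_lit 12, .negSucc (nat_lit 1)), (nat_lit 28, .ofNat (nat_lit 2)), (nat_lit 51, .ofNat (nat_lit 2)), (nat_lit 52, .negSucc (nat_lit 1))],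
  [(nat_lit 3, .negSucc (nat_lit 0)), (nat_lit 4, .ofNat (nat_lit 1)), (nat_lit 13, .negSucc (nat_lit 0)), (nat_lit 18, .ofNat (nat_lit 1)), (nat_lit 20, .ofNat (nat_lit 1)), (nat_lit 21, .ofNat (nat_lit 1)), (nat_lit 29, .ofNat (nat_lit 1)), (nat_lit 34, .negSucc (nat_lit 0)), (nat_lit 36, .negSucc (nat_lit 0)), (nat_lit 37, .negSucc (nat_lit 0)), (nat_lit 62, .ofNat (nat_lit 1)), (nat_lit 63, .ofNat (nat_lit 1)), (nat_lit 64, .ofNat (nat_lit 1)), (nat_lit 68, .negSucc (nat_lit 0)), (nat_lit 69, .negSucc (nat_lit 0)), (nat_lit 70, .negSucc (nat_lit 0))],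
  [(nat_lit 14, .negSucc (nat_lit 1)), (nat_lit 31, .ofNat (nat_lit 2)), (nat_lit 75, .ofNat (nat_lit 2)), (nat_lit 76, .negSucc (nat_lit 1))],
  [(nat_lit 15, .negSucc (nat_lit 1)), (nat_lit 30, .ofNat (nat_lit 2)), (nat_lit 72, .ofNat (nat_lit 2)), (nat_lit 73, .negSucc (nat_lit 1))],
  [(nat_lit 16, .negSucc (nat_lit 1)), (nat_lit 32, .ofNat (nat_lit 2)), (nat_lit 61, .ofNat (nat_lit 2)), (nat_lit 67, .negSucc (nat_lit 1))],
  [(nat_lit 17, .negSucc (nat_lit 1)), (nat_lit 33, .ofNat (nat_lit 2)), (nat_lit 60, .ofNat (nat_lit 2)), (nat_lit 66, .negSucc (nat_lit 1))],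
  [(nat_lit 3, .negSucc (nat_lit 0)), (nat_lit 4, .ofNat (nat_lit 1)), (nat_lit 13, .ofNat (nat_lit 1)), (nat_lit 18, .negSucc (nat_lit 0)), (nat_lit 20, .ofNat (nat_lit 1)), (nat_lit 21, .ofNat (nat_lit 1)), (nat_lit 29, .negSucc (nat_lit 0)), (nat_lit 34, .ofNat (nat_lit 1)), (nat_lit 36, .negSucc (nat_lit 0)), (nat_lit 37, .negSucc (nat_lit 0)), (nat_lit 62, .ofNat (nat_lit 1)), (nat_lit 63, .negSucc (nat_lit 0)), (nat_lit 64, .negSucc (nat_lit 0)), (nat_lit 68, .ofNat (nat_lit 1)), (nat_lit 69, .ofNat (nat_lit 1)), (nat_lit 70, .negSucc (nat_lit 0))],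
  [(nat_lit 19, .negSucc (nat_lit 1)), (nat_lit 35, .ofNat (nat_lit 2)), (nat_lit 65, .ofNat (nat_lit 2)), (nat_lit 71, .negSucc (nat_lit 1))],
  [(nat_lit 3, .negSucc (nat_lit 0)), (nat_lit 4, .ofNat (nat_lit 1)), (nat_lit 13, .ofNat (nat_lit 1)), (nat_lit 18, .ofNat (nat_lit 1)), (nat_lit 20, .negSucc (nat_lit 0)), (nat_lit 21, .ofNat (nat_lit 1)), (nat_lit 29, .negSucc (nat_lit 0)), (nat_lit 34, .negSucc (nat_lit 0)), (nat_lit 36, .ofNat (nat_lit 1)), (nat_lit 37, .negSucc (nat_lit 0)), (nat_lit 62, .negSucc (nat_lit 0)), (nat_lit 63, .ofNat (nat_lit 1)), (nat_lit 64, .negSucc (nat_lit 0)), (nat_lit 68, .ofNat (nat_lit 1)), (nat_lit 69, .negSucc (nat_lit 0)), (nat_lit 70, .ofNat (nat_lit 1))],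
  [(nat_lit 3, .negSucc (nat_lit 0)), (nat_lit 4, .ofNat (nat_lit 1)), (nat_lit 13, .ofNat (nat_lit 1)), (nat_lit 18, .ofNat (nat_lit 1)), (nat_lit 20, .ofNat (nat_lit 1)), (nat_lit 21, .negSucc (nat_lit 0)), (nat_lit 29, .negSucc (nat_lit 0)), (nat_lit 34, .negSucc (nat_lit 0)), (nat_lit 36, .negSucc (nat_lit 0)), (nat_lit 37, .ofNat (nat_lit 1)), (nat_lit 62, .negSucc (nat_lit 0)), (nat_lit 63, .negSucc (nat_lit 0)), (nat_lit 64, .ofNat (nat_lit 1)), (nat_lit 68, .negSucc (nat_lit 0)), (nat_lit 69, .ofNat (nat_lit 1)), (nat_lit 70, .ofNat (nat_lit 1))],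
  [(nat_lit 6, .ofNat (nat_lit 2)), (nat_lit 22, .negSucc (nat_lit 1)), (nat_lit 38, .ofNat (nat_lit 2)), (nat_lit 39, .negSucc (nat_lit 1))],
  [(nat_lit 8, .ofNat (nat_lit 2)), (nat_lit 23, .negSucc (nat_lit 1)), (nat_lit 46, .ofNat (nat_lit 2)), (nat_lit 47, .negSucc (nat_lit 1))],
  [(nat_lit 7, .ofNat (nat_lit 2)), (nat_lit 24, .negSucc (nat_lit 1)), (nat_lit 48, .ofNat (nat_lit 2)), (nat_lit 49, .negSucc (nat_lit 1))],
  [(nat_lit 9, .ofNat (nat_lit 2)), (nat_lit 25, .negSucc (nat_lit 1)), (nat_lit 42, .ofNat (nat_lit 2)), (nat_lit 43, .negSucc (nat_lit 1))],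
  [(nat_lit 11, .ofNat (nat_lit 2)), (nat_lit 26, .negSucc (nat_lit 1)), (nat_lit 55, .ofNat (nat_lit 2)), (nat_lit 56, .negSucc (nat_lit 1))],
  [(nat_lit 10, .ofNat (nat_lit 2)), (nat_lit 27, .negSucc (nat_lit 1)), (nat_lit 53, .ofNat (nat_lit 2)), (nat_lit 54, .negSucc (nat_lit 1))],
  [(nat_lit 12, .ofNat (nat_lit 2)), (nat_lit 28, .negSucc (nat_lit 1)), (nat_lit 51, .ofNat (nat_lit 2)), (nat_lit 52, .negSucc (nat_lit 1))],
  [(nat_lit 3, .negSucc (nat_lit 0)), (nat_lit 4, .ofNat (nat_lit 1)), (nat_lit 13, .ofNat (nat_lit 1)), (nat_lit 18, .negSucc (nat_lit 0)), (nat_lit 20, .negSucc (nat_lit 0)), (nat_lit 21, .negSucc (nat_lit 0)), (nat_lit 29, .negSucc (nat_lit 0)), (nat_lit 34, .ofNat (nat_lit 1)), (nat_lit 36, .ofNat (nat_lit 1)), (nat_lit 37, .ofNat (nat_lit 1)), (nat_lit 62, .ofNat (nat_lit 1)), (nat_lit 63, .ofNat (nat_lit 1)), (nat_lit 64, .ofNat (nat_lit 1)), (nat_lit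 68, .negSucc (nat_lit 0)), (nat_lit 69, .negSucc (nat_lit 0)), (nat_lit 70, .negSucc (nat_lit 0))],
  [(nat_lit 15, .ofNat (nat_lit 2)), (nat_lit 30, .negSucc (nat_lit 1)), (nat_lit 72, .ofNat (nat_lit 2)), (nat_lit 73, .negSucc (nat_lit 1))],
  [(nat_lit 14, .ofNat (nat_lit 2)), (nat_lit 31, .negSucc (nat_lit 1)), (nat_lit 75, .ofNat (nat_lit 2)), (nat_lit 76, .negSucc (nat_lit 1))],
  [(nat_lit 16, .ofNat (nat_lit 2)), (nat_lit 32, .negSucc (nat_lit 1)), (nat_lit 61, .ofNat (nat_lit 2)), (nat_lit 67, .negSucc (nat_lit 1))],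
  [(nat_lit 17, .ofNat (nat_lit 2)), (nat_lit 33, .negSucc (nat_lit 1)), (nat_lit 60, .ofNat (nat_lit 2)), (nat_lit 66, .negSucc (nat_lit 1))],
  [(nat_lit 3, .negSucc (nat_lit 0)), (nat_lit 4, .ofNat (nat_lit 1)), (nat_lit 13, .negSucc (nat_lit 0)), (nat_lit 18, .ofNat (nat_lit 1)), (nat_lit 20, .negSucc (nat_lit 0)), (nat_lit 21, .negSucc (nat_lit 0)), (nat_lit 29, .ofNat (nat_lit 1)), (nat_lit 34, .negSucc (nat_lit 0)), (nat_lit 36, .ofNat (nat_lit 1)), (nat_lit 37, .ofNat (nat_lit 1)), (nat_lit 62, .ofNat (nat_lit 1)), (nat_lit 63, .negSucc (nat_lit 0)), (nat_lit 64, .negSucc (nat_lit 0)), (nat_lit 68, .ofNat (nat_lit 1)), (nat_lit 69, .ofNat (nat_lit 1)), (nat_lit 70, .negSucc (nat_lit 0))],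
  [(nat_lit 19, .ofNat (nat_lit 2)), (nat_lit 35, .negSucc (nat_lit 1)), (nat_lit 65, .ofNat (nat_lit 2)), (nat_lit 71, .negSucc (nat_lit 1))],
  [(nat_lit 3, .negSucc (nat_lit 0)), (nat_lit 4, .ofNat (nat_lit 1)), (nat_lit 13, .negSucc (nat_lit 0)), (nat_lit 18, .negSucc (nat_lit 0)), (nat_lit 20, .ofNat (nat_lit 1)), (nat_lit 21, .negSucc (nat_lit 0)), (nat_lit 29, .ofNat (nat_lit 1)), (nat_lit 34, .ofNat (nat_lit 1)), (nat_lit 36, .negSucc (nat_lit 0)), (nat_lit 37, .ofNat (nat_lit 1)), (nat_lit 62, .negSucc (nat_lit 0)), (nat_lit 63, .ofNat (nat_lit 1)), (nat_lit 64, .negSucc (nat_lit 0)), (nat_lit 68, .ofNat (nat_lit 1)), (nat_lit 69, .negSucc (nat_lit 0)), (nat_lit 70, .ofNat (nat_lit 1))],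
  [(nat_lit 3, .negSucc (nat_lit 0)), (nat_lit 4, .ofNat (nat_lit 1)), (nat_lit 13, .negSucc (nat_lit 0)), (nat_lit 18, .negSucc (nat_lit 0)), (nat_lit 20, .negSucc (nat_lit 0)), (nat_lit 21, .ofNat (nat_lit 1)), (nat_lit 29, .ofNat (nat_lit 1)), (nat_lit 34, .ofNat (nat_lit 1)), (nat_lit 36, .ofNat (nat_lit 1)), (nat_lit 37, .negSucc (nat_lit 0)), (nat_lit 62, .negSucc (nat_lit 0)), (nat_lit 63, .negSucc (nat_lit 0)), (nat_lit 64, .ofNat (nat_lit 1)), (nat_lit 68, .negSucc (nat_lit 0)), (nat_lit 69, .ofNat (nat_lit 1)), (nat_lit 70, .ofNat (nat_lit 1))],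
  [(nat_lit 6, .ofNat (nat_lit 2)), (nat_lit 22, .ofNat (nat_lit 2)), (nat_lit 38, .negSucc (nat_lit 1)), (nat_lit 39, .negSucc (nat_lit 1))],
  [(nat_lit 6, .negSucc (nat_lit 1)), (nat_lit 22, .negSucc (nat_lit 1)), (nat_lit 38, .negSucc (nat_lit 1)), (nat_lit 39, .negSucc (nat_lit 1))],
  [(nat_lit 0, .ofNat (nat_lit 6)), (nat_lit 40, .ofNat (nat_lit 2))],
  [(nat_lit 1, .ofNat (nat_lit 2)), (nat_lit 41, .negSucc (nat_lit 1)), (nat_lit 44, .ofNat (nat_lit 2)), (nat_lit 45, .negSucc (nat_lit 1))],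
  [(nat_lit 9, .ofNat (nat_lit 2)), (nat_lit 25, .ofNat (nat_lit 2)), (nat_lit 42, .negSucc (nat_lit 1)), (nat_lit 43, .negSucc (nat_lit 1))],
  [(nat_lit 9, .negSucc (nat_lit 1)), (nat_lit 25, .negSucc (nat_lit 1)), (nat_lit 42, .negSucc (nat_lit 1)), (nat_lit 43, .negSucc (nat_lit 1))],
  [(nat_lit 1, .ofNat (nat_lit 2)), (nat_lit 41, .ofNat (nat_lit 2)), (nat_lit 44, .negSucc (nat_lit 1)), (nat_lit 45, .negSucc (nat_lit 1))],
  [(nat_lit 1, .negSucc (nat_lit 1)), (nat_lit 41, .negSucc (nat_lit 1)), (nat_lit 44, .negSucc (nat_lit 1)), (nat_lit 45, .negSucc (nat_lit 1))],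
  [(nat_lit 8, .ofNat (nat_lit 2)), (nat_lit 23, .ofNat (nat_lit 2)), (nat_lit 46, .negSucc (nat_lit 1)), (nat_lit 47, .negSucc (nat_lit 1))],
  [(nat_lit 8, .negSucc (nat_lit 1)), (nat_lit 23, .negSucc (nat_lit 1)), (nat_lit 46, .negSucc (nat_lit 1)), (nat_lit 47, .negSucc (nat_lit 1))],
  [(nat_lit 7, .ofNat (nat_lit 2)), (nat_lit 24, .ofNat (nat_lit 2)), (nat_lit 48, .negSucc (nat_lit 1)), (nat_lit 49, .negSucc (nat_lit 1))],
  [(nat_lit 7, .negSucc (nat_lit 1)), (nat_lit 24, .negSucc (nat_lit 1)), (nat_lit 48, .negSucc (nat_lit 1)), (nat_lit 49, .negSucc (nat_lit 1))],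
  [(nat_lit 2, .ofNat (nat_lit 2)), (nat_lit 50, .negSucc (nat_lit 1)), (nat_lit 57, .ofNat (nat_lit 2)), (nat_lit 58, .negSucc (nat_lit 1))],
  [(nat_lit 12, .ofNat (nat_lit 2)), (nat_lit 28, .ofNat (nat_lit 2)), (nat_lit 51, .negSucc (nat_lit 1)), (nat_lit 52, .negSucc (nat_lit 1))],
  [(nat_lit 12, .negSucc (nat_lit 1)), (nat_lit 28, .negSucc (nat_lit 1)), (nat_lit 51, .negSucc (nat_lit 1)), (nat_lit 52, .negSucc (nat_lit 1))],
  [(nat_lit 10, .ofNat (nat_lit 2)), (nat_lit 27, .ofNat (nat_lit 2)), (nat_lit 53, .negSucc (nat_lit 1)), (nat_lit 54, .negSucc (nat_lit 1))],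
  [(nat_lit 10, .negSucc (nat_lit 1)), (nat_lit 27, .negSucc (nat_lit 1)), (nat_lit 53, .negSucc (nat_lit 1)), (nat_lit 54, .negSucc (nat_lit 1))],
  [(nat_lit 11, .ofNat (nat_lit 2)), (nat_lit 26, .ofNat (nat_lit 2)), (nat_lit 55, .negSucc (nat_lit 1)), (nat_lit 56, .negSucc (nat_lit 1))],
  [(nat_lit 11, .negSucc (nat_lit 1)), (nat_lit 26, .negSucc (nat_lit 1)), (nat_lit 55, .negSucc (nat_lit 1)), (nat_lit 56, .negSucc (nat_lit 1))],
  [(nat_lit 2, .ofNat (nat_lit 2)), (nat_lit 50, .ofNat (nat_lit 2)), (nat_lit 57, .negSucc (nat_lit 1)), (nat_lit 58, .negSucc (nat_lit 1))],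
  [(nat_lit 2, .negSucc (nat_lit 1)), (nat_lit 50, .negSucc (nat_lit 1)), (nat_lit 57, .negSucc (nat_lit 1)), (nat_lit 58, .negSucc (nat_lit 1))],
  [(nat_lit 5, .ofNat (nat_lit 2)), (nat_lit 59, .negSucc (nat_lit 1)), (nat_lit 74, .ofNat (nat_lit 2)), (nat_lit 77, .negSucc (nat_lit 1))],
  [(nat_lit 17, .ofNat (nat_lit 2)), (nat_lit 33, .ofNat (nat_lit 2)), (nat_lit 60, .negSucc (nat_lit 1)), (nat_lit 66, .negSucc (nat_lit 1))],
  [(nat_lit 16, .ofNat (nat_lit 2)), (nat_lit 32, .ofNat (nat_lit 2)), (nat_lit 61, .negSucc (nat_lit 1)), (nat_lit 67, .negSucc (nat_lit 1))],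
  [(nat_lit 3, .negSucc (nat_lit 0)), (nat_lit 4, .negSucc (nat_lit 0)), (nat_lit 13, .ofNat (nat_lit 1)), (nat_lit 18, .ofNat (nat_lit 1)), (nat_lit 20, .negSucc (nat_lit 0)), (nat_lit 21, .negSucc (nat_lit 0)), (nat_lit 29, .ofNat (nat_lit 1)), (nat_lit 34, .ofNat (nat_lit 1)), (nat_lit 36, .negSucc (nat_lit 0)), (nat_lit 37, .negSucc (nat_lit 0)), (nat_lit 62, .negSucc (nat_lit 0)), (nat_lit 63, .ofNat (nat_lit 1)), (nat_lit 64, .ofNat (nat_lit 1)), (nat_lit 68, .ofNat (nat_lit 1)), (nat_lit 69, .ofNat (nat_lit 1)), (nat_lit 70, .negSucc (nat_lit 0))],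
  [(nat_lit 3, .negSucc (nat_lit 0)), (nat_lit 4, .negSucc (nat_lit 0)), (nat_lit 13, .ofNat (nat_lit 1)), (nat_lit 18, .negSucc (nat_lit 0)), (nat_lit 20, .ofNat (nat_lit 1)), (nat_lit 21, .negSucc (nat_lit 0)), (nat_lit 29, .ofNat (nat_lit 1)), (nat_lit 34, .negSucc (nat_lit 0)), (nat_lit 36, .ofNat (nat_lit 1)), (nat_lit 37, .negSucc (nat_lit 0)), (nat_lit 62, .ofNat (nat_lit 1)), (nat_lit 63, .negSucc (nat_lit 0)), (nat_lit 64, .ofNat (nat_lit 1)), (nat_lit 68, .ofNat (nat_lit 1)), (nat_lit 69, .negSucc (nat_lit 0)), (nat_lit 70, .ofNat (nat_lit 1))],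
  [(nat_lit 3, .negSucc (nat_lit 0)), (nat_lit 4, .negSucc (nat_lit 0)), (nat_lit 13, .ofNat (nat_lit 1)), (nat_lit 18, .negSucc (nat_lit 0)), (nat_lit 20, .negSucc (nat_lit 0)), (nat_lit 21, .ofNat (nat_lit 1)), (nat_lit 29, .ofNat (nat_lit 1)), (nat_lit 34, .negSucc (nat_lit 0)), (nat_lit 36, .negSucc (nat_lit 0)), (nat_lit 37, .ofNat (nat_lit 1)), (nat_lit 62, .ofNat (nat_lit 1)), (nat_lit 63, .ofNat (nat_lit 1)), (nat_lit 64, .negSucc (nat_lit 0)), (nat_lit 68, .negSucc (nat_lit 0)), (nat_lit 69, .ofNat (nat_lit 1)), (nat_lit 70, .ofNat (nat_lit 1))],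
  [(nat_lit 19, .ofNat (nat_lit 2)), (nat_lit 35, .ofNat (nat_lit 2)), (nat_lit 65, .negSucc (nat_lit 1)), (nat_lit 71, .negSucc (nat_lit 1))],
  [(nat_lit 17, .negSucc (nat_lit 1)), (nat_lit 33, .negSucc (nat_lit 1)), (nat_lit 60, .negSucc (nat_lit 1)), (nat_lit 66, .negSucc (nat_lit 1))],
  [(nat_lit 16, .negSucc (nat_lit 1)), (nat_lit 32, .negSucc (nat_lit 1)), (nat_lit 61, .negSucc (nat_lit 1)), (nat_lit 67, .negSucc (nat_lit 1))],
  [(nat_lit 3, .negSucc (nat_lit 0)), (nat_lit 4, .negSucc (nat_lit 0)), (nat_lit 13, .negSucc (nat_lit 0)), (nat_lit 18, .ofNat (nat_lit 1)), (nat_lit 20, .ofNat (nat_lit 1)), (nat_lit 21, .negSucc (nat_lit 0)), (nat_lit 29, .negSucc (nat_lit 0)), (nat_lit 34, .ofNat (nat_lit 1)), (nat_lit 36, .ofNat (nat_lit 1)), (nat_lit 37, .negSucc (nat_lit 0)), (nat_lit 62, .ofNat (nat_lit 1)), (nat_lit 63, .ofNat (nat_lit 1)), (nat_lit 64, .negSucc (nat_lit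 0)), (nat_lit 68, .negSucc (nat_lit 0)), (nat_lit 69, .ofNat (nat_lit 1)), (nat_lit 70, .ofNat (nat_lit 1))],
  [(nat_lit 3, .negSucc (nat_lit 0)), (nat_lit 4, .negSucc (nat_lit 0)), (nat_lit 13, .negSucc (nat_lit 0)), (nat_lit 18, .ofNat (nat_lit 1)), (nat_lit 20, .negSucc (nat_lit 0)), (nat_lit 21, .ofNat (nat_lit 1)), (nat_lit 29, .negSucc (nat_lit 0)), (nat_lit 34, .ofNat (nat_lit 1)), (nat_lit 36, .negSucc (nat_lit 0)), (nat_lit 37, .ofNat (nat_lit 1)), (nat_lit 62, .ofNat (nat_lit 1)), (nat_lit 63, .negSucc (nat_lit 0)), (nat_lit 64, .ofNat (nat_lit 1)), (nat_lit 68, .ofNat (nat_lit 1)), (nat_lit 69, .negSucc (nat_lit 0)), (nat_lit 70, .ofNat (nat_lit 1))],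
  [(nat_lit 3, .negSucc (nat_lit 0)), (nat_lit 4, .negSucc (nat_lit 0)), (nat_lit 13, .negSucc (nat_lit 0)), (nat_lit 18, .negSucc (nat_lit 0)), (nat_lit 20, .ofNat (nat_lit 1)), (nat_lit 21, .ofNat (nat_lit 1)), (nat_lit 29, .negSucc (nat_lit 0)), (nat_lit 34, .negSucc (nat_lit 0)), (nat_lit 36, .ofNat (nat_lit 1)), (nat_lit 37, .ofNat (nat_lit 1)), (nat_lit 62, .negSucc (nat_lit 0)), (nat_lit 63, .ofNat (nat_lit 1)), (nat_lit 64, .ofNat (nat_lit 1)), (nat_lit 68, .ofNat (nat_lit 1)), (nat_lit 69, .ofNat (nat_lit 1)), (nat_lit 70, .negSucc (nat_lit 0))],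
  [(nat_lit 19, .negSucc (nat_lit 1)), (nat_lit 35, .negSucc (nat_lit 1)), (nat_lit 65, .negSucc (nat_lit 1)), (nat_lit 71, .negSucc (nat_lit 1))],
  [(nat_lit 15, .ofNat (nat_lit 2)), (nat_lit 30, .ofNat (nat_lit 2)), (nat_lit 72, .negSucc (nat_lit 1)), (nat_lit 73, .negSucc (nat_lit 1))],
  [(nat_lit 15, .negSucc (nat_lit 1)), (nat_lit 30, .negSucc (nat_lit 1)), (nat_lit 72, .negSucc (nat_lit 1)), (nat_lit 73, .negSucc (nat_lit 1))],
  [(nat_lit 5, .ofNat (nat_lit 2)), (nat_lit 59, .ofNat (nat_lit 2)), (nat_lit 74, .negSucc (nat_lit 1)), (nat_lit 77, .negSucc (nat_lit 1))],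
  [(nat_lit 14, .ofNat (nat_lit 2)), (nat_lit 31, .ofNat (nat_lit 2)), (nat_lit 75, .negSucc (nat_lit 1)), (nat_lit 76, .negSucc (nat_lit 1))],
  [(nat_lit 14, .negSucc (nat_lit 1)), (nat_lit 31, .negSucc (nat_lit 1)), (nat_lit 75, .negSucc (nat_lit 1)), (nat_lit 76, .negSucc (nat_lit 1))],
  [(nat_lit 5, .negSucc (nat_lit 1)), (nat_lit 59, .negSucc (nat_lit 1)), (nat_lit 74, .negSucc (nat_lit 1)), (nat_lit 77, .negSucc (nat_lit 1))]]
def mc : List (List (ℕ × ℤ)) := [[(nat_lit 0, .ofNat (nat_lit 4))],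
  [(nat_lit 1, .ofNat (nat_lit 4))],
  [(nat_lit 2, .ofNat (nat_lit 4))],
  [(nat_lit 3, .ofNat (nat_lit 4))],
  [(nat_lit 4, .ofNat (nat_lit 4))],
  [(nat_lit 5, .ofNat (nat_lit 4))],
  [(nat_lit 6, .negSucc (nat_lit 3))],
  [(nat_lit 7, .negSucc (nat_lit 3))],
  [(nat_lit 8, .negSucc (nat_lit 3))],
  [(nat_lit 9, .negSucc (nat_lit 3))],
  [(nat_lit 10, .negSucc (nat_lit 3))],
  [(nat_lit 11, .negSucc (nat_lit 3))],
  [(nat_lit 12, .negSucc (nat_lit 3))],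
  [(nat_lit 13, .negSucc (nat_lit 3))],
  [(nat_lit 14, .negSucc (nat_lit 3))],
  [(nat_lit 15, .negSucc (nat_lit 3))],
  [(nat_lit 16, .negSucc (nat_lit 3))],
  [(nat_lit 17, .negSucc (nat_lit 3))],
  [(nat_lit 18, .negSucc (nat_lit 3))],
  [(nat_lit 19, .negSucc (nat_lit 3))],
  [(nat_lit 20, .negSucc (nat_lit 3))],
  [(nat_lit 21, .negSucc (nat_lit 3))],
  [(nat_lit 22, .ofNat (nat_lit 4))],
  [(nat_lit 23, .ofNat (nat_lit 4))],
  [(nat_lit 24, .ofNat (nat_lit 4))],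
  [(nat_lit 25, .ofNat (nat_lit 4))],
  [(nat_lit 26, .ofNat (nat_lit 4))],
  [(nat_lit 27, .ofNat (nat_lit 4))],
  [(nat_lit 28, .ofNat (nat_lit 4))],
  [(nat_lit 29, .ofNat (nat_lit 4))],
  [(nat_lit 30, .ofNat (nat_lit 4))],
  [(nat_lit 31, .ofNat (nat_lit 4))],
  [(nat_lit 32, .ofNat (nat_lit 4))],
  [(nat_lit 33, .ofNat (nat_lit 4))],
  [(nat_lit 34, .ofNat (nat_lit 4))],
  [(nat_lit 35, .ofNat (nat_lit 4))],
  [(nat_lit 36, .ofNat (nat_lit 4))],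
  [(nat_lit 37, .ofNat (nat_lit 4))],
  [(nat_lit 38, .negSucc (nat_lit 3))],
  [(nat_lit 39, .negSucc (nat_lit 3))],
  [(nat_lit 40, .negSucc (nat_lit 3))],
  [(nat_lit 41, .negSucc (nat_lit 3))],
  [(nat_lit 42, .negSucc (nat_lit 3))],
  [(nat_lit 43, .negSucc (nat_lit 3))],
  [(nat_lit 44, .negSucc (nat_lit 3))],
  [(nat_lit 45, .negSucc (nat_lit 3))],
  [(nat_lit 46, .negSucc (nat_lit 3))],
  [(nat_lit 47, .negSucc (nat_lit 3))],
  [(nat_lit 48, .negSucc (nat_lit 3))],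
  [(nat_lit 49, .negSucc (nat_lit 3))],
  [(nat_lit 50, .negSucc (nat_lit 3))],
  [(nat_lit 51, .negSucc (nat_lit 3))],
  [(nat_lit 52, .negSucc (nat_lit 3))],
  [(nat_lit 53, .negSucc (nat_lit 3))],
  [(nat_lit 54, .negSucc (nat_lit 3))],
  [(nat_lit 55, .negSucc (nat_lit 3))],
  [(nat_lit 56, .negSucc (nat_lit 3))],
  [(nat_lit 57, .negSucc (nat_lit 3))],
  [(nat_lit 58, .negSucc (nat_lit 3))],
  [(nat_lit 59, .negSucc (nat_lit 3))],
  [(nat_lit 60, .negSucc (nat_lit 3))],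
  [(nat_lit 61, .negSucc (nat_lit 3))],
  [(nat_lit 62, .negSucc (nat_lit 3))],
  [(nat_lit 63, .negSucc (nat_lit 3))],
  [(nat_lit 64, .negSucc (nat_lit 3))],
  [(nat_lit 65, .negSucc (nat_lit 3))],
  [(nat_lit 66, .negSucc (nat_lit 3))],
  [(nat_lit 67, .negSucc (nat_lit 3))],
  [(nat_lit 68, .negSucc (nat_lit 3))],
  [(nat_lit 69, .negSucc (nat_lit 3))],
  [(nat_lit 70, .negSucc (nat_lit 3))],
  [(nat_lit 71, .negSucc (nat_lit 3))],
  [(nat_lit 72, .negSucc (nat_lit 3))],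
  [(nat_lit 73, .negSucc (nat_lit 3))],
  [(nat_lit 74, .negSucc (nat_lit 3))],
  [(nat_lit 75, .negSucc (nat_lit 3))],
  [(nat_lit 76, .negSucc (nat_lit 3))],
  [(nat_lit 77, .negSucc (nat_lit 3))]]
def md : List (List (ℕ × ℤ)) := [[(nat_lit 0, .negSucc (nat_lit 1)), (nat_lit 15, .ofNat (nat_lit 2))],
  [(nat_lit 1, .negSucc (nat_lit 1)), (nat_lit 10, .ofNat (nat_lit 2)), (nat_lit 16, .ofNat (nat_lit 2)), (nat_lit 17, .negSucc (nat_lit 1))],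
  [(nat_lit 2, .negSucc (nat_lit 1)), (nat_lit 7, .ofNat (nat_lit 2)), (nat_lit 20, .ofNat (nat_lit 2)), (nat_lit 21, .negSucc (nat_lit 1))],
  [(nat_lit 3, .negSucc (nat_lit 1)), (nat_lit 6, .ofNat (nat_lit 2)), (nat_lit 18, .ofNat (nat_lit 2)), (nat_lit 19, .negSucc (nat_lit 1))],
  [(nat_lit 4, .negSucc (nat_lit 1)), (nat_lit 8, .ofNat (nat_lit 2)), (nat_lit 11, .ofNat (nat_lit 2)), (nat_lit 13, .negSucc (nat_lit 1))],
  [(nat_lit 5, .negSucc (nat_lit 1)), (nat_lit 9, .ofNat (nat_lit 2)), (nat_lit 12, .ofNat (nat_lit 2)), (nat_lit 14, .negSucc (nat_lit 1))],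
  [(nat_lit 3, .ofNat (nat_lit 2)), (nat_lit 6, .negSucc (nat_lit 1)), (nat_lit 18, .ofNat (nat_lit 2)), (nat_lit 19, .negSucc (nat_lit 1))],
  [(nat_lit 2, .ofNat (nat_lit 2)), (nat_lit 7, .negSucc (nat_lit 1)), (nat_lit 20, .ofNat (nat_lit 2)), (nat_lit 21, .negSucc (nat_lit 1))],
  [(nat_lit 4, .ofNat (nat_lit 2)), (nat_lit 8, .negSucc (nat_lit 1)), (nat_lit 11, .ofNat (nat_lit 2)), (nat_lit 13, .negSucc (nat_lit 1))],
  [(nat_lit 5, .ofNat (nat_lit 2)), (nat_lit 9, .negSucc (nat_lit 1)), (nat_lit 12, .ofNat (nat_lit 2)), (nat_lit 14, .negSucc (nat_lit 1))],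
  [(nat_lit 1, .ofNat (nat_lit 2)), (nat_lit 10, .negSucc (nat_lit 1)), (nat_lit 16, .ofNat (nat_lit 2)), (nat_lit 17, .negSucc (nat_lit 1))],
  [(nat_lit 4, .ofNat (nat_lit 2)), (nat_lit 8, .ofNat (nat_lit 2)), (nat_lit 11, .negSucc (nat_lit 1)), (nat_lit 13, .negSucc (nat_lit 1))],
  [(nat_lit 5, .ofNat (nat_lit 2)), (nat_lit 9, .ofNat (nat_lit 2)), (nat_lit 12, .negSucc (nat_lit 1)), (nat_lit 14, .negSucc (nat_lit 1))],
  [(nat_lit 4, .negSucc (nat_lit 1)), (nat_lit 8, .negSucc (nat_lit 1)), (nat_lit 11, .negSucc (nat_lit 1)), (nat_lit 13, .negSucc (nat_lit 1))],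
  [(nat_lit 5, .negSucc (nat_lit 1)), (nat_lit 9, .negSucc (nat_lit 1)), (nat_lit 12, .negSucc (nat_lit 1)), (nat_lit 14, .negSucc (nat_lit 1))],
  [(nat_lit 0, .ofNat (nat_lit 6)), (nat_lit 15, .ofNat (nat_lit 2))],
  [(nat_lit 1, .ofNat (nat_lit 2)), (nat_lit 10, .ofNat (nat_lit 2)), (nat_lit 16, .negSucc (nat_lit 1)), (nat_lit 17, .negSucc (nat_lit 1))],
  [(nat_lit 1, .negSucc (nat_lit 1)), (nat_lit 10, .negSucc (nat_lit 1)), (nat_lit 16, .negSucc (nat_lit 1)), (nat_lit 17, .negSucc (nat_lit 1))],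
  [(nat_lit 3, .ofNat (nat_lit 2)), (nat_lit 6, .ofNat (nat_lit 2)), (nat_lit 18, .negSucc (nat_lit 1)), (nat_lit 19, .negSucc (nat_lit 1))],
  [(nat_lit 3, .negSucc (nat_lit 1)), (nat_lit 6, .negSucc (nat_lit 1)), (nat_lit 18, .negSucc (nat_lit 1)), (nat_lit 19, .negSucc (nat_lit 1))],
  [(nat_lit 2, .ofNat (nat_lit 2)), (nat_lit 7, .ofNat (nat_lit 2)), (nat_lit 20, .negSucc (nat_lit 1)), (nat_lit 21, .negSucc (nat_lit 1))],
  [(nat_lit 2, .negSucc (nat_lit 1)), (nat_lit 7, .negSucc (nat_lit 1)), (nat_lit 20, .negSucc (nat_lit 1)), (nat_lit 21, .negSucc (nat_lit 1))],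
  [(nat_lit 22, .negSucc (nat_lit 0)), (nat_lit 23, .negSucc (nat_lit 0)), (nat_lit 26, .negSucc (nat_lit 0)), (nat_lit 35, .negSucc (nat_lit 0)), (nat_lit 36, .negSucc (nat_lit 0)), (nat_lit 37, .negSucc (nat_lit 0)), (nat_lit 38, .negSucc (nat_lit 0)), (nat_lit 47, .negSucc (nat_lit 0)), (nat_lit 48, .negSucc (nat_lit 0)), (nat_lit 49, .negSucc (nat_lit 0)), (nat_lit 56, .negSucc (nat_lit 0)), (nat_lit 57, .negSucc (nat_lit 0)), (nat_lit 58, .negSucc (nat_lit 0)), (nat_lit 63, .negSucc (nat_lit 0)), (nat_lit 64, .negSucc (nat_lit 0)), (nat_lit 65, .negSucc (nat_lit 0))],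
  [(nat_lit 22, .negSucc (nat_lit 0)), (nat_lit 23, .negSucc (nat_lit 0)), (nat_lit 26, .ofNat (nat_lit 1)), (nat_lit 35, .ofNat (nat_lit 1)), (nat_lit 36, .ofNat (nat_lit 1)), (nat_lit 37, .ofNat (nat_lit 1)), (nat_lit 38, .ofNat (nat_lit 1)), (nat_lit 47, .ofNat (nat_lit 1)), (nat_lit 48, .ofNat (nat_lit 1)), (nat_lit 49, .ofNat (nat_lit 1)), (nat_lit 56, .negSucc (nat_lit 0)), (nat_lit 57, .negSucc (nat_lit 0)), (nat_lit 58, .negSucc (nat_lit 0)), (nat_lit 63, .negSucc (nat_lit 0)), (nat_lit 64, .negSucc (nat_lit 0)), (nat_lit 65, .negSucc (nat_lit 0))],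
  [(nat_lit 24, .negSucc (nat_lit 1)), (nat_lit 50, .ofNat (nat_lit 2)), (nat_lit 68, .ofNat (nat_lit 2)), (nat_lit 69, .negSucc (nat_lit 1))],
  [(nat_lit 25, .negSucc (nat_lit 1)), (nat_lit 51, .ofNat (nat_lit 2)), (nat_lit 76, .ofNat (nat_lit 2)), (nat_lit 77, .negSucc (nat_lit 1))],
  [(nat_lit 22, .negSucc (nat_lit 0)), (nat_lit 23, .ofNat (nat_lit 1)), (nat_lit 26, .negSucc (nat_lit 0)), (nat_lit 35, .ofNat (nat_lit 1)), (nat_lit 36, .ofNat (nat_lit 1)), (nat_lit 37, .ofNat (nat_lit 1)), (nat_lit 38, .ofNat (nat_lit 1)), (nat_lit 47, .negSucc (nat_lit 0)), (nat_lit 48, .negSucc (nat_lit 0)), (nat_lit 49, .negSucc (nat_lit 0)), (nat_lit 56, .ofNat (nat_lit 1)), (nat_lit 57, .ofNat (nat_lit 1)), (nat_lit 58, .ofNat (nat_lit 1)), (nat_lit 63, .negSucc (nat_lit 0)), (nat_lit 64, .negSucc (nat_lit 0)), (nat_lit 65, .negSucc (nat_lit 0))],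
  [(nat_lit 27, .negSucc (nat_lit 1)), (nat_lit 41, .ofNat (nat_lit 2)), (nat_lit 66, .ofNat (nat_lit 2)), (nat_lit 67, .negSucc (nat_lit 1))],
  [(nat_lit 28, .negSucc (nat_lit 1)), (nat_lit 42, .ofNat (nat_lit 2)), (nat_lit 74, .ofNat (nat_lit 2)), (nat_lit 75, .negSucc (nat_lit 1))],
  [(nat_lit 29, .negSucc (nat_lit 1)), (nat_lit 39, .ofNat (nat_lit 2)), (nat_lit 70, .ofNat (nat_lit 2)), (nat_lit 71, .negSucc (nat_lit 1))],
  [(nat_lit 30, .negSucc (nat_lit 1)), (nat_lit 40, .ofNat (nat_lit 2)), (nat_lit 72, .ofNat (nat_lit 2)), (nat_lit 73, .negSucc (nat_lit 1))],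
  [(nat_lit 31, .negSucc (nat_lit 1)), (nat_lit 43, .ofNat (nat_lit 2)), (nat_lit 52, .ofNat (nat_lit 2)), (nat_lit 59, .negSucc (nat_lit 1))],
  [(nat_lit 32, .negSucc (nat_lit 1)), (nat_lit 44, .ofNat (nat_lit 2)), (nat_lit 53, .ofNat (nat_lit 2)), (nat_lit 60, .negSucc (nat_lit 1))],
  [(nat_lit 33, .negSucc (nat_lit 1)), (nat_lit 45, .ofNat (nat_lit 2)), (nat_lit 54, .ofNat (nat_lit 2)), (nat_lit 61, .negSucc (nat_lit 1))],
  [(nat_lit 34, .negSucc (nat_lit 1)), (nat_lit 46, .ofNat (nat_lit 2)), (nat_lit 55, .ofNat (nat_lit 2)), (nat_lit 62, .negSucc (nat_lit 1))],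
  [(nat_lit 22, .negSucc (nat_lit 0)), (nat_lit 23, .ofNat (nat_lit 1)), (nat_lit 26, .ofNat (nat_lit 1)), (nat_lit 35, .negSucc (nat_lit 0)), (nat_lit 36, .ofNat (nat_lit 1)), (nat_lit 37, .ofNat (nat_lit 1)), (nat_lit 38, .negSucc (nat_lit 0)), (nat_lit 47, .ofNat (nat_lit 1)), (nat_lit 48, .negSucc (nat_lit 0)), (nat_lit 49, .negSucc (nat_lit 0)), (nat_lit 56, .ofNat (nat_lit 1)), (nat_lit 57, .negSucc (nat_lit 0)), (nat_lit 58, .negSucc (nat_lit 0)), (nat_lit 63, .ofNat (nat_lit 1)), (nat_lit 64, .ofNat (nat_lit 1)), (nat_lit 65, .negSucc (nat_lit 0))],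
  [(nat_lit 22, .negSucc (nat_lit 0)), (nat_lit 23, .ofNat (nat_lit 1)), (nat_lit 26, .ofNat (nat_lit 1)), (nat_lit 35, .ofNat (nat_lit 1)), (nat_lit 36, .negSucc (nat_lit 0)), (nat_lit 37, .ofNat (nat_lit 1)), (nat_lit 38, .negSucc (nat_lit 0)), (nat_lit 47, .negSucc (nat_lit 0)), (nat_lit 48, .ofNat (nat_lit 1)), (nat_lit 49, .negSucc (nat_lit 0)), (nat_lit 56, .negSucc (nat_lit 0)), (nat_lit 57, .ofNat (nat_lit 1)), (nat_lit 58, .negSucc (nat_lit 0)), (nat_lit 63, .ofNat (nat_lit 1)), (nat_lit 64, .negSucc (nat_lit 0)), (nat_lit 65, .ofNat (nat_lit 1))],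
  [(nat_lit 22, .negSucc (nat_lit 0)), (nat_lit 23, .ofNat (nat_lit 1)), (nat_lit 26, .ofNat (nat_lit 1)), (nat_lit 35, .ofNat (nat_lit 1)), (nat_lit 36, .ofNat (nat_lit 1)), (nat_lit 37, .negSucc (nat_lit 0)), (nat_lit 38, .negSucc (nat_lit 0)), (nat_lit 47, .negSucc (nat_lit 0)), (nat_lit 48, .negSucc (nat_lit 0)), (nat_lit 49, .ofNat (nat_lit 1)), (nat_lit 56, .negSucc (nat_lit 0)), (nat_lit 57, .negSucc (nat_lit 0)), (nat_lit 58, .ofNat (nat_lit 1)), (nat_lit 63, .negSucc (nat_lit 0)), (nat_lit 64, .ofNat (nat_lit 1)), (nat_lit 65, .ofNat (nat_lit 1))],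
  [(nat_lit 22, .negSucc (nat_lit 0)), (nat_lit 23, .ofNat (nat_lit 1)), (nat_lit 26, .ofNat (nat_lit 1)), (nat_lit 35, .negSucc (nat_lit 0)), (nat_lit 36, .negSucc (nat_lit 0)), (nat_lit 37, .negSucc (nat_lit 0)), (nat_lit 38, .negSucc (nat_lit 0)), (nat_lit 47, .ofNat (nat_lit 1)), (nat_lit 48, .ofNat (nat_lit 1)), (nat_lit 49, .ofNat (nat_lit 1)), (nat_lit 56, .ofNat (nat_lit 1)), (nat_lit 57, .ofNat (nat_lit 1)), (nat_lit 58, .ofNat (nat_lit 1)), (nat_lit 63, .negSucc (nat_lit 0)), (nat_lit 64, .negSucc (nat_lit 0)), (nat_lit 65, .negSucc (nat_lit 0))],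
  [(nat_lit 29, .ofNat (nat_lit 2)), (nat_lit 39, .negSucc (nat_lit 1)), (nat_lit 70, .ofNat (nat_lit 2)), (nat_lit 71, .negSucc (nat_lit 1))],
  [(nat_lit 30, .ofNat (nat_lit 2)), (nat_lit 40, .negSucc (nat_lit 1)), (nat_lit 72, .ofNat (nat_lit 2)), (nat_lit 73, .negSucc (nat_lit 1))],
  [(nat_lit 27, .ofNat (nat_lit 2)), (nat_lit 41, .negSucc (nat_lit 1)), (nat_lit 66, .ofNat (nat_lit 2)), (nat_lit 67, .negSucc (nat_lit 1))],
  [(nat_lit 28, .ofNat (nat_lit 2)), (nat_lit 42, .negSucc (nat_lit 1)), (nat_lit 74, .ofNat (nat_lit 2)), (nat_lit 75, .negSucc (nat_lit 1))],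
  [(nat_lit 31, .ofNat (nat_lit 2)), (nat_lit 43, .negSucc (nat_lit 1)), (nat_lit 52, .ofNat (nat_lit 2)), (nat_lit 59, .negSucc (nat_lit 1))],
  [(nat_lit 32, .ofNat (nat_lit 2)), (nat_lit 44, .negSucc (nat_lit 1)), (nat_lit 53, .ofNat (nat_lit 2)), (nat_lit 60, .negSucc (nat_lit 1))],
  [(nat_lit 33, .ofNat (nat_lit 2)), (nat_lit 45, .negSucc (nat_lit 1)), (nat_lit 54, .ofNat (nat_lit 2)), (nat_lit 61, .negSucc (nat_lit 1))],
  [(nat_lit 34, .ofNat (nat_lit 2)), (nat_lit 46, .negSucc (nat_lit 1)), (nat_lit 55, .ofNat (nat_lit 2)), (nat_lit 62, .negSucc (nat_lit 1))],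
  [(nat_lit 22, .negSucc (nat_lit 0)), (nat_lit 23, .ofNat (nat_lit 1)), (nat_lit 26, .negSucc (nat_lit 0)), (nat_lit 35, .ofNat (nat_lit 1)), (nat_lit 36, .negSucc (nat_lit 0)), (nat_lit 37, .negSucc (nat_lit 0)), (nat_lit 38, .ofNat (nat_lit 1)), (nat_lit 47, .negSucc (nat_lit 0)), (nat_lit 48, .ofNat (nat_lit 1)), (nat_lit 49, .ofNat (nat_lit 1)), (nat_lit 56, .ofNat (nat_lit 1)), (nat_lit 57, .negSucc (nat_lit 0)), (nat_lit 58, .negSucc (nat_lit 0)), (nat_lit 63, .ofNat (nat_lit 1)), (nat_lit 64, .ofNat (nat_lit 1)), (nat_lit 65, .negSucc (nat_lit 0))],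
  [(nat_lit 22, .negSucc (nat_lit 0)), (nat_lit 23, .ofNat (nat_lit 1)), (nat_lit 26, .negSucc (nat_lit 0)), (nat_lit 35, .negSucc (nat_lit 0)), (nat_lit 36, .ofNat (nat_lit 1)), (nat_lit 37, .negSucc (nat_lit 0)), (nat_lit 38, .ofNat (nat_lit 1)), (nat_lit 47, .ofNat (nat_lit 1)), (nat_lit 48, .negSucc (nat_lit 0)), (nat_lit 49, .ofNat (nat_lit 1)), (nat_lit 56, .negSucc (nat_lit 0)), (nat_lit 57, .ofNat (nat_lit 1)), (nat_lit 58, .negSucc (nat_lit 0)), (nat_lit 63, .ofNat (nat_lit 1)), (nat_lit 64, .negSucc (nat_lit 0)), (nat_lit 65, .ofNat (nat_lit 1))],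
  [(nat_lit 22, .negSucc (nat_lit 0)), (nat_lit 23, .ofNat (nat_lit 1)), (nat_lit 26, .negSucc (nat_lit 0)), (nat_lit 35, .negSucc (nat_lit 0)), (nat_lit 36, .negSucc (nat_lit 0)), (nat_lit 37, .ofNat (nat_lit 1)), (nat_lit 38, .ofNat (nat_lit 1)), (nat_lit 47, .ofNat (nat_lit 1)), (nat_lit 48, .ofNat (nat_lit 1)), (nat_lit 49, .negSucc (nat_lit 0)), (nat_lit 56, .negSucc (nat_lit 0)), (nat_lit 57, .negSucc (nat_lit 0)), (nat_lit 58, .ofNat (nat_lit 1)), (nat_lit 63, .negSucc (nat_lit 0)), (nat_lit 64, .ofNat (nat_lit 1)), (nat_lit 65, .ofNat (nat_lit 1))],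
  [(nat_lit 24, .ofNat (nat_lit 2)), (nat_lit 50, .negSucc (nat_lit 1)), (nat_lit 68, .ofNat (nat_lit 2)), (nat_lit 69, .negSucc (nat_lit 1))],
  [(nat_lit 25, .ofNat (nat_lit 2)), (nat_lit 51, .negSucc (nat_lit 1)), (nat_lit 76, .ofNat (nat_lit 2)), (nat_lit 77, .negSucc (nat_lit 1))],
  [(nat_lit 31, .ofNat (nat_lit 2)), (nat_lit 43, .ofNat (nat_lit 2)), (nat_lit 52, .negSucc (nat_lit 1)), (nat_lit 59, .negSucc (nat_lit 1))],
  [(nat_lit 32, .ofNat (nat_lit 2)), (nat_lit 44, .ofNat (nat_lit 2)), (nat_lit 53, .negSucc (nat_lit 1)), (nat_lit 60, .negSucc (nat_lit 1))],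
  [(nat_lit 33, .ofNat (nat_lit 2)), (nat_lit 45, .ofNat (nat_lit 2)), (nat_lit 54, .negSucc (nat_lit 1)), (nat_lit 61, .negSucc (nat_lit 1))],
  [(nat_lit 34, .ofNat (nat_lit 2)), (nat_lit 46, .ofNat (nat_lit 2)), (nat_lit 55, .negSucc (nat_lit 1)), (nat_lit 62, .negSucc (nat_lit 1))],
  [(nat_lit 22, .negSucc (nat_lit 0)), (nat_lit 23, .negSucc (nat_lit 0)), (nat_lit 26, .ofNat (nat_lit 1)), (nat_lit 35, .ofNat (nat_lit 1)), (nat_lit 36, .negSucc (nat_lit 0)), (nat_lit 37, .negSucc (nat_lit 0)), (nat_lit 38, .ofNat (nat_lit 1)), (nat_lit 47, .ofNat (nat_lit 1)), (nat_lit 48, .negSucc (nat_lit 0)), (nat_lit 49, .negSucc (nat_lit 0)), (nat_lit 56, .negSucc (nat_lit 0)), (nat_lit 57, .ofNat (nat_lit 1)), (nat_lit 58, .ofNat (nat_lit 1)), (nat_lit 63, .ofNat (nat_lit 1)), (nat_lit 64, .ofNat (nat_lit 1)), (nat_lit 65, .negSucc (nat_lit 0))],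
  [(nat_lit 22, .negSucc (nat_lit 0)), (nat_lit 23, .negSucc (nat_lit 0)), (nat_lit 26, .ofNat (nat_lit 1)), (nat_lit 35, .negSucc (nat_lit 0)), (nat_lit 36, .ofNat (nat_lit 1)), (nat_lit 37, .negSucc (nat_lit 0)), (nat_lit 38, .ofNat (nat_lit 1)), (nat_lit 47, .negSucc (nat_lit 0)), (nat_lit 48, .ofNat (nat_lit 1)), (nat_lit 49, .negSucc (nat_lit 0)), (nat_lit 56, .ofNat (nat_lit 1)), (nat_lit 57, .negSucc (nat_lit 0)), (nat_lit 58, .ofNat (nat_lit 1)), (nat_lit 63, .ofNat (nat_lit 1)), (nat_lit 64, .negSucc (nat_lit 0)), (nat_lit 65, .ofNat (nat_lit 1))],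
  [(nat_lit 22, .negSucc (nat_lit 0)), (nat_lit 23, .negSucc (nat_lit 0)), (nat_lit 26, .ofNat (nat_lit 1)), (nat_lit 35, .negSucc (nat_lit 0)), (nat_lit 36, .negSucc (nat_lit 0)), (nat_lit 37, .ofNat (nat_lit 1)), (nat_lit 38, .ofNat (nat_lit 1)), (nat_lit 47, .negSucc (nat_lit 0)), (nat_lit 48, .negSucc (nat_lit 0)), (nat_lit 49, .ofNat (nat_lit 1)), (nat_lit 56, .ofNat (nat_lit 1)), (nat_lit 57, .ofNat (nat_lit 1)), (nat_lit 58, .negSucc (nat_lit 0)), (nat_lit 63, .negSucc (nat_lit 0)), (nat_lit 64, .ofNat (nat_lit 1)), (nat_lit 65, .ofNat (nat_lit 1))],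
  [(nat_lit 31, .negSucc (nat_lit 1)), (nat_lit 43, .negSucc (nat_lit 1)), (nat_lit 52, .negSucc (nat_lit 1)), (nat_lit 59, .negSucc (nat_lit 1))],
  [(nat_lit 32, .negSucc (nat_lit 1)), (nat_lit 44, .negSucc (nat_lit 1)), (nat_lit 53, .negSucc (nat_lit 1)), (nat_lit 60, .negSucc (nat_lit 1))],
  [(nat_lit 33, .negSucc (nat_lit 1)), (nat_lit 45, .negSucc (nat_lit 1)), (nat_lit 54, .negSucc (nat_lit 1)), (nat_lit 61, .negSucc (nat_lit 1))],
  [(nat_lit 34, .negSucc (nat_lit 1)), (nat_lit 46, .negSucc (nat_lit 1)), (nat_lit 55, .negSucc (nat_lit 1)), (nat_lit 62, .negSucc (nat_lit 1))],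
  [(nat_lit 22, .negSucc (nat_lit 0)), (nat_lit 23, .negSucc (nat_lit 0)), (nat_lit 26, .negSucc (nat_lit 0)), (nat_lit 35, .ofNat (nat_lit 1)), (nat_lit 36, .ofNat (nat_lit 1)), (nat_lit 37, .negSucc (nat_lit 0)), (nat_lit 38, .negSucc (nat_lit 0)), (nat_lit 47, .ofNat (nat_lit 1)), (nat_lit 48, .ofNat (nat_lit 1)), (nat_lit 49, .negSucc (nat_lit 0)), (nat_lit 56, .ofNat (nat_lit 1)), (nat_lit 57, .ofNat (nat_lit 1)), (nat_lit 58, .negSucc (nat_lit 0)), (nat_lit 63, .negSucc (nat_lit 0)), (nat_lit 64, .ofNat (nat_lit 1)), (nat_lit 65, .ofNat (nat_lit 1))],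
  [(nat_lit 22, .negSucc (nat_lit 0)), (nat_lit 23, .negSucc (nat_lit 0)), (nat_lit 26, .negSucc (nat_lit 0)), (nat_lit 35, .ofNat (nat_lit 1)), (nat_lit 36, .negSucc (nat_lit 0)), (nat_lit 37, .ofNat (nat_lit 1)), (nat_lit 38, .negSucc (nat_lit 0)), (nat_lit 47, .ofNat (nat_lit 1)), (nat_lit 48, .negSucc (nat_lit 0)), (nat_lit 49, .ofNat (nat_lit 1)), (nat_lit 56, .ofNat (nat_lit 1)), (nat_lit 57, .negSucc (nat_lit 0)), (nat_lit 58, .ofNat (nat_lit 1)), (nat_lit 63, .ofNat (nat_lit 1)), (nat_lit 64, .negSucc (nat_lit 0)), (nat_lit 65, .ofNat (nat_lit 1))],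
  [(nat_lit 22, .negSucc (nat_lit 0)), (nat_lit 23, .negSucc (nat_lit 0)), (nat_lit 26, .negSucc (nat_lit 0)), (nat_lit 35, .negSucc (nat_lit 0)), (nat_lit 36, .ofNat (nat_lit 1)), (nat_lit 37, .ofNat (nat_lit 1)), (nat_lit 38, .negSucc (nat_lit 0)), (nat_lit 47, .negSucc (nat_lit 0)), (nat_lit 48, .ofNat (nat_lit 1)), (nat_lit 49, .ofNat (nat_lit 1)), (nat_lit 56, .negSucc (nat_lit 0)), (nat_lit 57, .ofNat (nat_lit 1)), (nat_lit 58, .ofNat (nat_lit 1)), (nat_lit 63, .ofNat (nat_lit 1)), (nat_lit 64, .ofNat (nat_lit 1)), (nat_lit 65, .negSucc (nat_lit 0))],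
  [(nat_lit 27, .ofNat (nat_lit 2)), (nat_lit 41, .ofNat (nat_lit 2)), (nat_lit 66, .negSucc (nat_lit 1)), (nat_lit 67, .negSucc (nat_lit 1))],
  [(nat_lit 27, .negSucc (nat_lit 1)), (nat_lit 41, .negSucc (nat_lit 1)), (nat_lit 66, .negSucc (nat_lit 1)), (nat_lit 67, .negSucc (nat_lit 1))],
  [(nat_lit 24, .ofNat (nat_lit 2)), (nat_lit 50, .ofNat (nat_lit 2)), (nat_lit 68, .negSucc (nat_lit 1)), (nat_lit 69, .negSucc (nat_lit 1))],
  [(nat_lit 24, .negSucc (nat_lit 1)), (nat_lit 50, .negSucc (nat_lit 1)), (nat_lit 68, .negSucc (nat_lit 1)), (nat_lit 69, .negSucc (nat_lit 1))],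
  [(nat_lit 29, .ofNat (nat_lit 2)), (nat_lit 39, .ofNat (nat_lit 2)), (nat_lit 70, .negSucc (nat_lit 1)), (nat_lit 71, .negSucc (nat_lit 1))],
  [(nat_lit 29, .negSucc (nat_lit 1)), (nat_lit 39, .negSucc (nat_lit 1)), (nat_lit 70, .negSucc (nat_lit 1)), (nat_lit 71, .negSucc (nat_lit 1))],
  [(nat_lit 30, .ofNat (nat_lit 2)), (nat_lit 40, .ofNat (nat_lit 2)), (nat_lit 72, .negSucc (nat_lit 1)), (nat_lit 73, .negSucc (nat_lit 1))],
  [(nat_lit 30, .negSucc (nat_lit 1)), (nat_lit 40, .negSucc (nat_lit 1)), (nat_lit 72, .negSucc (nat_lit 1)), (nat_lit 73, .negSucc (nat_lit 1))],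
  [(nat_lit 28, .ofNat (nat_lit 2)), (nat_lit 42, .ofNat (nat_lit 2)), (nat_lit 74, .negSucc (nat_lit 1)), (nat_lit 75, .negSucc (nat_lit 1))],
  [(nat_lit 28, .negSucc (nat_lit 1)), (nat_lit 42, .negSucc (nat_lit 1)), (nat_lit 74, .negSucc (nat_lit 1)), (nat_lit 75, .negSucc (nat_lit 1))],
  [(nat_lit 25, .ofNat (nat_lit 2)), (nat_lit 51, .ofNat (nat_lit 2)), (nat_lit 76, .negSucc (nat_lit 1)), (nat_lit 77, .negSucc (nat_lit 1))],
  [(nat_lit 25, .negSucc (nat_lit 1)), (nat_lit 51, .negSucc (nat_lit 1)), (nat_lit 76, .negSucc (nat_lit 1)), (nat_lit 77, .negSucc (nat_lit 1))]]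
def me : List (List (ℕ × ℤ)) := [[(nat_lit 0, .ofNat (nat_lit 4))],
  [(nat_lit 1, .ofNat (nat_lit 4))],
  [(nat_lit 2, .negSucc (nat_lit 3))],
  [(nat_lit 3, .negSucc (nat_lit 3))],
  [(nat_lit 4, .negSucc (nat_lit 3))],
  [(nat_lit 5, .negSucc (nat_lit 3))],
  [(nat_lit 6, .ofNat (nat_lit 4))],
  [(nat_lit 7, .ofNat (nat_lit 4))],
  [(nat_lit 8, .ofNat (nat_lit 4))],
  [(nat_lit 9, .ofNat (nat_lit 4))],
  [(nat_lit 10, .negSucc (nat_lit 3))],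
  [(nat_lit 11, .negSucc (nat_lit 3))],
  [(nat_lit 12, .negSucc (nat_lit 3))],
  [(nat_lit 13, .negSucc (nat_lit 3))],
  [(nat_lit 14, .negSucc (nat_lit 3))],
  [(nat_lit 15, .negSucc (nat_lit 3))],
  [(nat_lit 16, .negSucc (nat_lit 3))],
  [(nat_lit 17, .negSucc (nat_lit 3))],
  [(nat_lit 18, .negSucc (nat_lit 3))],
  [(nat_lit 19, .negSucc (nat_lit 3))],
  [(nat_lit 20, .negSucc (nat_lit 3))],
  [(nat_lit 21, .negSucc (nat_lit 3))],
  [(nat_lit 22, .ofNat (nat_lit 4))],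
  [(nat_lit 23, .ofNat (nat_lit 4))],
  [(nat_lit 24, .ofNat (nat_lit 4))],
  [(nat_lit 25, .ofNat (nat_lit 4))],
  [(nat_lit 26, .negSucc (nat_lit 3))],
  [(nat_lit 27, .negSucc (nat_lit 3))],
  [(nat_lit 28, .negSucc (nat_lit 3))],
  [(nat_lit 29, .negSucc (nat_lit 3))],
  [(nat_lit 30, .negSucc (nat_lit 3))],
  [(nat_lit 31, .negSucc (nat_lit 3))],
  [(nat_lit 32, .negSucc (nat_lit 3))],
  [(nat_lit 33, .negSucc (nat_lit 3))],
  [(nat_lit 34, .negSucc (nat_lit 3))],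
  [(nat_lit 35, .negSucc (nat_lit 3))],
  [(nat_lit 36, .negSucc (nat_lit 3))],
  [(nat_lit 37, .negSucc (nat_lit 3))],
  [(nat_lit 38, .ofNat (nat_lit 4))],
  [(nat_lit 39, .ofNat (nat_lit 4))],
  [(nat_lit 40, .ofNat (nat_lit 4))],
  [(nat_lit 41, .ofNat (nat_lit 4))],
  [(nat_lit 42, .ofNat (nat_lit 4))],
  [(nat_lit 43, .ofNat (nat_lit 4))],
  [(nat_lit 44, .ofNat (nat_lit 4))],
  [(nat_lit 45, .ofNat (nat_lit 4))],
  [(nat_lit 46, .ofNat (nat_lit 4))],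
  [(nat_lit 47, .ofNat (nat_lit 4))],
  [(nat_lit 48, .ofNat (nat_lit 4))],
  [(nat_lit 49, .ofNat (nat_lit 4))],
  [(nat_lit 50, .negSucc (nat_lit 3))],
  [(nat_lit 51, .negSucc (nat_lit 3))],
  [(nat_lit 52, .negSucc (nat_lit 3))],
  [(nat_lit 53, .negSucc (nat_lit 3))],
  [(nat_lit 54, .negSucc (nat_lit 3))],
  [(nat_lit 55, .negSucc (nat_lit 3))],
  [(nat_lit 56, .negSucc (nat_lit 3))],
  [(nat_lit 57, .negSucc (nat_lit 3))],
  [(nat_lit 58, .negSucc (nat_lit 3))],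
  [(nat_lit 59, .negSucc (nat_lit 3))],
  [(nat_lit 60, .negSucc (nat_lit 3))],
  [(nat_lit 61, .negSucc (nat_lit 3))],
  [(nat_lit 62, .negSucc (nat_lit 3))],
  [(nat_lit 63, .negSucc (nat_lit 3))],
  [(nat_lit 64, .negSucc (nat_lit 3))],
  [(nat_lit 65, .negSucc (nat_lit 3))],
  [(nat_lit 66, .negSucc (nat_lit 3))],
  [(nat_lit 67, .negSucc (nat_lit 3))],
  [(nat_lit 68, .negSucc (nat_lit 3))],
  [(nat_lit 69, .negSucc (nat_lit 3))],
  [(nat_lit 70, .negSucc (nat_lit 3))],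
  [(nat_lit 71, .negSucc (nat_lit 3))],
  [(nat_lit 72, .negSucc (nat_lit 3))],
  [(nat_lit 73, .negSucc (nat_lit 3))],
  [(nat_lit 74, .negSucc (nat_lit 3))],
  [(nat_lit 75, .negSucc (nat_lit 3))],
  [(nat_lit 76, .negSucc (nat_lit 3))],
  [(nat_lit 77, .negSucc (nat_lit 3))]]
def mf : List (List (ℕ × ℤ)) := [[(nat_lit 0, .negSucc (nat_lit 1)), (nat_lit 2, .ofNat (nat_lit 2))],
  [(nat_lit 1, .negSucc (nat_lit 1)), (nat_lit 3, .ofNat (nat_lit 2)), (nat_lit 4, .ofNat (nat_lit 2)), (nat_lit 5, .negSucc (nat_lit 1))],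
  [(nat_lit 0, .ofNat (nat_lit 6)), (nat_lit 2, .ofNat (nat_lit 2))],
  [(nat_lit 1, .ofNat (nat_lit 2)), (nat_lit 3, .negSucc (nat_lit 1)), (nat_lit 4, .ofNat (nat_lit 2)), (nat_lit 5, .negSucc (nat_lit 1))],
  [(nat_lit 1, .ofNat (nat_lit 2)), (nat_lit 3, .ofNat (nat_lit 2)), (nat_lit 4, .negSucc (nat_lit 1)), (nat_lit 5, .negSucc (nat_lit 1))],
  [(nat_lit 1, .negSucc (nat_lit 1)), (nat_lit 3, .negSucc (nat_lit 1)), (nat_lit 4, .negSucc (nat_lit 1)), (nat_lit 5, .negSucc (nat_lit 1))],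
  [(nat_lit 6, .negSucc (nat_lit 1)), (nat_lit 10, .ofNat (nat_lit 2)), (nat_lit 11, .ofNat (nat_lit 2)), (nat_lit 12, .negSucc (nat_lit 1))],
  [(nat_lit 7, .negSucc (nat_lit 1)), (nat_lit 15, .ofNat (nat_lit 2)), (nat_lit 20, .ofNat (nat_lit 2)), (nat_lit 21, .negSucc (nat_lit 1))],
  [(nat_lit 8, .negSucc (nat_lit 1)), (nat_lit 14, .ofNat (nat_lit 2)), (nat_lit 16, .ofNat (nat_lit 2)), (nat_lit 19, .negSucc (nat_lit 1))],
  [(nat_lit 9, .negSucc (nat_lit 1)), (nat_lit 13, .ofNat (nat_lit 2)), (nat_lit 17, .ofNat (nat_lit 2)), (nat_lit 18, .negSucc (nat_lit 1))],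
  [(nat_lit 6, .ofNat (nat_lit 2)), (nat_lit 10, .negSucc (nat_lit 1)), (nat_lit 11, .ofNat (nat_lit 2)), (nat_lit 12, .negSucc (nat_lit 1))],
  [(nat_lit 6, .ofNat (nat_lit 2)), (nat_lit 10, .ofNat (nat_lit 2)), (nat_lit 11, .negSucc (nat_lit 1)), (nat_lit 12, .negSucc (nat_lit 1))],
  [(nat_lit 6, .negSucc (nat_lit 1)), (nat_lit 10, .negSucc (nat_lit 1)), (nat_lit 11, .negSucc (nat_lit 1)), (nat_lit 12, .negSucc (nat_lit 1))],
  [(nat_lit 9, .ofNat (nat_lit 2)), (nat_lit 13, .negSucc (nat_lit 1)), (nat_lit 17, .ofNat (nat_lit 2)), (nat_lit 18, .negSucc (nat_lit 1))],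
  [(nat_lit 8, .ofNat (nat_lit 2)), (nat_lit 14, .negSucc (nat_lit 1)), (nat_lit 16, .ofNat (nat_lit 2)), (nat_lit 19, .negSucc (nat_lit 1))],
  [(nat_lit 7, .ofNat (nat_lit 2)), (nat_lit 15, .negSucc (nat_lit 1)), (nat_lit 20, .ofNat (nat_lit 2)), (nat_lit 21, .negSucc (nat_lit 1))],
  [(nat_lit 8, .ofNat (nat_lit 2)), (nat_lit 14, .ofNat (nat_lit 2)), (nat_lit 16, .negSucc (nat_lit 1)), (nat_lit 19, .negSucc (nat_lit 1))],
  [(nat_lit 9, .ofNat (nat_lit 2)), (nat_lit 13, .ofNat (nat_lit 2)), (nat_lit 17, .negSucc (nat_lit 1)), (nat_lit 18, .negSucc (nat_lit 1))],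
  [(nat_lit 9, .negSucc (nat_lit 1)), (nat_lit 13, .negSucc (nat_lit 1)), (nat_lit 17, .negSucc (nat_lit 1)), (nat_lit 18, .negSucc (nat_lit 1))],
  [(nat_lit 8, .negSucc (nat_lit 1)), (nat_lit 14, .negSucc (nat_lit 1)), (nat_lit 16, .negSucc (nat_lit 1)), (nat_lit 19, .negSucc (nat_lit 1))],
  [(nat_lit 7, .ofNat (nat_lit 2)), (nat_lit 15, .ofNat (nat_lit 2)), (nat_lit 20, .negSucc (nat_lit 1)), (nat_lit 21, .negSucc (nat_lit 1))],
  [(nat_lit 7, .negSucc (nat_lit 1)), (nat_lit 15, .negSucc (nat_lit 1)), (nat_lit 20, .negSucc (nat_lit 1)), (nat_lit 21, .negSucc (nat_lit 1))],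
  [(nat_lit 22, .negSucc (nat_lit 1)), (nat_lit 26, .ofNat (nat_lit 2)), (nat_lit 27, .ofNat (nat_lit 2)), (nat_lit 28, .negSucc (nat_lit 1))],
  [(nat_lit 23, .negSucc (nat_lit 1)), (nat_lit 31, .ofNat (nat_lit 2)), (nat_lit 32, .ofNat (nat_lit 2)), (nat_lit 35, .negSucc (nat_lit 1))],
  [(nat_lit 24, .negSucc (nat_lit 1)), (nat_lit 30, .ofNat (nat_lit 2)), (nat_lit 36, .ofNat (nat_lit 2)), (nat_lit 37, .negSucc (nat_lit 1))],
  [(nat_lit 25, .negSucc (nat_lit 1)), (nat_lit 29, .ofNat (nat_lit 2)), (nat_lit 33, .ofNat (nat_lit 2)), (nat_lit 34, .negSucc (nat_lit 1))],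
  [(nat_lit 22, .ofNat (nat_lit 2)), (nat_lit 26, .negSucc (nat_lit 1)), (nat_lit 27, .ofNat (nat_lit 2)), (nat_lit 28, .negSucc (nat_lit 1))],
  [(nat_lit 22, .ofNat (nat_lit 2)), (nat_lit 26, .ofNat (nat_lit 2)), (nat_lit 27, .negSucc (nat_lit 1)), (nat_lit 28, .negSucc (nat_lit 1))],
  [(nat_lit 22, .negSucc (nat_lit 1)), (nat_lit 26, .negSucc (nat_lit 1)), (nat_lit 27, .negSucc (nat_lit 1)), (nat_lit 28, .negSucc (nat_lit 1))],
  [(nat_lit 25, .ofNat (nat_lit 2)), (nat_lit 29, .negSucc (nat_lit 1)), (nat_lit 33, .ofNat (nat_lit 2)), (nat_lit 34, .negSucc (nat_lit 1))],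
  [(nat_lit 24, .ofNat (nat_lit 2)), (nat_lit 30, .negSucc (nat_lit 1)), (nat_lit 36, .ofNat (nat_lit 2)), (nat_lit 37, .negSucc (nat_lit 1))],
  [(nat_lit 23, .ofNat (nat_lit 2)), (nat_lit 31, .negSucc (nat_lit 1)), (nat_lit 32, .ofNat (nat_lit 2)), (nat_lit 35, .negSucc (nat_lit 1))],
  [(nat_lit 23, .ofNat (nat_lit 2)), (nat_lit 31, .ofNat (nat_lit 2)), (nat_lit 32, .negSucc (nat_lit 1)), (nat_lit 35, .negSucc (nat_lit 1))],
  [(nat_lit 25, .ofNat (nat_lit 2)), (nat_lit 29, .ofNat (nat_lit 2)), (nat_lit 33, .negSucc (nat_lit 1)), (nat_lit 34, .negSucc (nat_lit 1))],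
  [(nat_lit 25, .negSucc (nat_lit 1)), (nat_lit 29, .negSucc (nat_lit 1)), (nat_lit 33, .negSucc (nat_lit 1)), (nat_lit 34, .negSucc (nat_lit 1))],
  [(nat_lit 23, .negSucc (nat_lit 1)), (nat_lit 31, .negSucc (nat_lit 1)), (nat_lit 32, .negSucc (nat_lit 1)), (nat_lit 35, .negSucc (nat_lit 1))],
  [(nat_lit 24, .ofNat (nat_lit 2)), (nat_lit 30, .ofNat (nat_lit 2)), (nat_lit 36, .negSucc (nat_lit 1)), (nat_lit 37, .negSucc (nat_lit 1))],
  [(nat_lit 24, .negSucc (nat_lit 1)), (nat_lit 30, .negSucc (nat_lit 1)), (nat_lit 36, .negSucc (nat_lit 1)), (nat_lit 37, .negSucc (nat_lit 1))],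
  [(nat_lit 38, .negSucc (nat_lit 1)), (nat_lit 52, .ofNat (nat_lit 2)), (nat_lit 53, .ofNat (nat_lit 2)), (nat_lit 56, .negSucc (nat_lit 1))],
  [(nat_lit 39, .negSucc (nat_lit 1)), (nat_lit 51, .ofNat (nat_lit 2)), (nat_lit 54, .ofNat (nat_lit 2)), (nat_lit 55, .negSucc (nat_lit 1))],
  [(nat_lit 40, .negSucc (nat_lit 1)), (nat_lit 50, .ofNat (nat_lit 2)), (nat_lit 57, .ofNat (nat_lit 2)), (nat_lit 58, .negSucc (nat_lit 1))],
  [(nat_lit 41, .negSucc (nat_lit 0)), (nat_lit 42, .negSucc (nat_lit 0)), (nat_lit 43, .negSucc (nat_lit 0)), (nat_lit 44, .negSucc (nat_lit 0)), (nat_lit 48, .negSucc (nat_lit 0)), (nat_lit 49, .negSucc (nat_lit 0)), (nat_lit 59, .negSucc (nat_lit 0)), (nat_lit 60, .negSucc (nat_lit 0)), (nat_lit 63, .negSucc (nat_lit 0)), (nat_lit 64, .negSucc (nat_lit 0)), (nat_lit 66, .negSucc (nat_lit 0)), (nat_lit 68, .negSucc (nat_lit 0)), (nat_lit 69, .negSucc (nat_lit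 0)), (nat_lit 72, .negSucc (nat_lit 0)), (nat_lit 73, .negSucc (nat_lit 0)), (nat_lit 74, .negSucc (nat_lit 0))],
  [(nat_lit 41, .negSucc (nat_lit 0)), (nat_lit 42, .negSucc (nat_lit 0)), (nat_lit 43, .ofNat (nat_lit 1)), (nat_lit 44, .ofNat (nat_lit 1)), (nat_lit 48, .ofNat (nat_lit 1)), (nat_lit 49, .ofNat (nat_lit 1)), (nat_lit 59, .ofNat (nat_lit 1)), (nat_lit 60, .ofNat (nat_lit 1)), (nat_lit 63, .ofNat (nat_lit 1)), (nat_lit 64, .ofNat (nat_lit 1)), (nat_lit 66, .negSucc (nat_lit 0)), (nat_lit 68, .negSucc (nat_lit 0)), (nat_lit 69, .negSucc (nat_lit 0)), (nat_lit 72, .negSucc (nat_lit 0)), (nat_lit 73, .negSucc (nat_lit 0)), (nat_lit 74, .negSucc (nat_lit 0))],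
  [(nat_lit 41, .negSucc (nat_lit 0)), (nat_lit 42, .ofNat (nat_lit 1)), (nat_lit 43, .negSucc (nat_lit 0)), (nat_lit 44, .ofNat (nat_lit 1)), (nat_lit 48, .ofNat (nat_lit 1)), (nat_lit 49, .ofNat (nat_lit 1)), (nat_lit 59, .ofNat (nat_lit 1)), (nat_lit 60, .negSucc (nat_lit 0)), (nat_lit 63, .negSucc (nat_lit 0)), (nat_lit 64, .negSucc (nat_lit 0)), (nat_lit 66, .ofNat (nat_lit 1)), (nat_lit 68, .ofNat (nat_lit 1)), (nat_lit 69, .ofNat (nat_lit 1)), (nat_lit 72, .negSucc (nat_lit 0)), (nat_lit 73, .negSucc (nat_lit 0)), (nat_lit 74, .negSucc (nat_lit 0))],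
  [(nat_lit 41, .negSucc (nat_lit 0)), (nat_lit 42, .ofNat (nat_lit 1)), (nat_lit 43, .ofNat (nat_lit 1)), (nat_lit 44, .negSucc (nat_lit 0)), (nat_lit 48, .ofNat (nat_lit 1)), (nat_lit 49, .ofNat (nat_lit 1)), (nat_lit 59, .negSucc (nat_lit 0)), (nat_lit 60, .ofNat (nat_lit 1)), (nat_lit 63, .negSucc (nat_lit 0)), (nat_lit 64, .negSucc (nat_lit 0)), (nat_lit 66, .ofNat (nat_lit 1)), (nat_lit 68, .negSucc (nat_lit 0)), (nat_lit 69, .negSucc (nat_lit 0)), (nat_lit 72, .ofNat (nat_lit 1)), (nat_lit 73, .ofNat (nat_lit 1)), (nat_lit 74, .negSucc (nat_lit 0))],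
  [(nat_lit 45, .negSucc (nat_lit 1)), (nat_lit 62, .ofNat (nat_lit 2)), (nat_lit 70, .ofNat (nat_lit 2)), (nat_lit 77, .negSucc (nat_lit 1))],
  [(nat_lit 46, .negSucc (nat_lit 1)), (nat_lit 61, .ofNat (nat_lit 2)), (nat_lit 71, .ofNat (nat_lit 2)), (nat_lit 76, .negSucc (nat_lit 1))],
  [(nat_lit 47, .negSucc (nat_lit 1)), (nat_lit 65, .ofNat (nat_lit 2)), (nat_lit 67, .ofNat (nat_lit 2)), (nat_lit 75, .negSucc (nat_lit 1))],
  [(nat_lit 41, .negSucc (nat_lit 0)), (nat_lit 42, .ofNat (nat_lit 1)), (nat_lit 43, .ofNat (nat_lit 1)), (nat_lit 44, .ofNat (nat_lit 1)), (nat_lit 48, .negSucc (nat_lit 0)), (nat_lit 49, .ofNat (nat_lit 1)), (nat_lit 59, .negSucc (nat_lit 0)), (nat_lit 60, .negSucc (nat_lit 0)), (nat_lit 63, .ofNat (nat_lit 1)), (nat_lit 64, .negSucc (nat_lit 0)), (nat_lit 66, .negSucc (nat_lit 0)), (nat_lit 68, .ofNat (nat_lit 1)), (nat_lit 69, .negSucc (nat_lit 0)),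 (nat_lit 72, .ofNat (nat_lit 1)), (nat_lit 73, .negSucc (nat_lit 0)), (nat_lit 74, .ofNat (nat_lit 1))],
  [(nat_lit 41, .negSucc (nat_lit 0)), (nat_lit 42, .ofNat (nat_lit 1)), (nat_lit 43, .ofNat (nat_lit 1)), (nat_lit 44, .ofNat (nat_lit 1)), (nat_lit 48, .ofNat (nat_lit 1)), (nat_lit 49, .negSucc (nat_lit 0)), (nat_lit 59, .negSucc (nat_lit 0)), (nat_lit 60, .negSucc (nat_lit 0)), (nat_lit 63, .negSucc (nat_lit 0)), (nat_lit 64, .ofNat (nat_lit 1)), (nat_lit 66, .negSucc (nat_lit 0)), (nat_lit 68, .negSucc (nat_lit 0)), (nat_lit 69, .ofNat (nat_lit 1)), (nat_lit 72, .negSucc (nat_lit 0)), (nat_lit 73, .ofNat (nat_lit 1)), (nat_lit 74, .ofNat (nat_lit 1))],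
  [(nat_lit 40, .ofNat (nat_lit 2)), (nat_lit 50, .negSucc (nat_lit 1)), (nat_lit 57, .ofNat (nat_lit 2)), (nat_lit 58, .negSucc (nat_lit 1))],
  [(nat_lit 39, .ofNat (nat_lit 2)), (nat_lit 51, .negSucc (nat_lit 1)), (nat_lit 54, .ofNat (nat_lit 2)), (nat_lit 55, .negSucc (nat_lit 1))],
  [(nat_lit 38, .ofNat (nat_lit 2)), (nat_lit 52, .negSucc (nat_lit 1)), (nat_lit 53, .ofNat (nat_lit 2)), (nat_lit 56, .negSucc (nat_lit 1))],
  [(nat_lit 38, .ofNat (nat_lit 2)), (nat_lit 52, .ofNat (nat_lit 2)), (nat_lit 53, .negSucc (nat_lit 1)), (nat_lit 56, .negSucc (nat_lit 1))],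
  [(nat_lit 39, .ofNat (nat_lit 2)), (nat_lit 51, .ofNat (nat_lit 2)), (nat_lit 54, .negSucc (nat_lit 1)), (nat_lit 55, .negSucc (nat_lit 1))],
  [(nat_lit 39, .negSucc (nat_lit 1)), (nat_lit 51, .negSucc (nat_lit 1)), (nat_lit 54, .negSucc (nat_lit 1)), (nat_lit 55, .negSucc (nat_lit 1))],
  [(nat_lit 38, .negSucc (nat_lit 1)), (nat_lit 52, .negSucc (nat_lit 1)), (nat_lit 53, .negSucc (nat_lit 1)), (nat_lit 56, .negSucc (nat_lit 1))],
  [(nat_lit 40, .ofNat (nat_lit 2)), (nat_lit 50, .ofNat (nat_lit 2)), (nat_lit 57, .negSucc (nat_lit 1)), (nat_lit 58, .negSucc (nat_lit 1))],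
  [(nat_lit 40, .negSucc (nat_lit 1)), (nat_lit 50, .negSucc (nat_lit 1)), (nat_lit 57, .negSucc (nat_lit 1)), (nat_lit 58, .negSucc (nat_lit 1))],
  [(nat_lit 41, .negSucc (nat_lit 0)), (nat_lit 42, .ofNat (nat_lit 1)), (nat_lit 43, .ofNat (nat_lit 1)), (nat_lit 44, .negSucc (nat_lit 0)), (nat_lit 48, .negSucc (nat_lit 0)), (nat_lit 49, .negSucc (nat_lit 0)), (nat_lit 59, .negSucc (nat_lit 0)), (nat_lit 60, .ofNat (nat_lit 1)), (nat_lit 63, .ofNat (nat_lit 1)), (nat_lit 64, .ofNat (nat_lit 1)), (nat_lit 66, .ofNat (nat_lit 1)), (nat_lit 68, .ofNat (nat_lit 1)), (nat_lit 69, .ofNat (nat_lit 1)), (nat_lit 72, .negSucc (nat_lit 0)), (nat_lit 73, .negSucc (nat_lit 0)), (nat_lit 74, .negSucc (nat_lit 0))],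
  [(nat_lit 41, .negSucc (nat_lit 0)), (nat_lit 42, .ofNat (nat_lit 1)), (nat_lit 43, .negSucc (nat_lit 0)), (nat_lit 44, .ofNat (nat_lit 1)), (nat_lit 48, .negSucc (nat_lit 0)), (nat_lit 49, .negSucc (nat_lit 0)), (nat_lit 59, .ofNat (nat_lit 1)), (nat_lit 60, .negSucc (nat_lit 0)), (nat_lit 63, .ofNat (nat_lit 1)), (nat_lit 64, .ofNat (nat_lit 1)), (nat_lit 66, .ofNat (nat_lit 1)), (nat_lit 68, .negSucc (nat_lit 0)), (nat_lit 69, .negSucc (nat_lit 0)), (nat_lit 72, .ofNat (nat_lit 1)), (nat_lit 73, .ofNat (nat_lit 1)), (nat_lit 74, .negSucc (nat_lit 0))],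
  [(nat_lit 46, .ofNat (nat_lit 2)), (nat_lit 61, .negSucc (nat_lit 1)), (nat_lit 71, .ofNat (nat_lit 2)), (nat_lit 76, .negSucc (nat_lit 1))],
  [(nat_lit 45, .ofNat (nat_lit 2)), (nat_lit 62, .negSucc (nat_lit 1)), (nat_lit 70, .ofNat (nat_lit 2)), (nat_lit 77, .negSucc (nat_lit 1))],
  [(nat_lit 41, .negSucc (nat_lit 0)), (nat_lit 42, .ofNat (nat_lit 1)), (nat_lit 43, .negSucc (nat_lit 0)), (nat_lit 44, .negSucc (nat_lit 0)), (nat_lit 48, .ofNat (nat_lit 1)), (nat_lit 49, .negSucc (nat_lit 0)), (nat_lit 59, .ofNat (nat_lit 1)), (nat_lit 60, .ofNat (nat_lit 1)), (nat_lit 63, .negSucc (nat_lit 0)), (nat_lit 64, .ofNat (nat_lit 1)), (nat_lit 66, .negSucc (nat_lit 0)), (nat_lit 68, .ofNat (nat_lit 1)), (nat_lit 69, .negSucc (nat_lit 0)), (nat_lit 72, .ofNat (nat_lit 1)), (nat_lit 73, .negSucc (nat_lit 0)), (nat_lit 74, .ofNat (nat_lit 1))],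
  [(nat_lit 41, .negSucc (nat_lit 0)), (nat_lit 42, .ofNat (nat_lit 1)), (nat_lit 43, .negSucc (nat_lit 0)), (nat_lit 44, .negSucc (nat_lit 0)), (nat_lit 48, .negSucc (nat_lit 0)), (nat_lit 49, .ofNat (nat_lit 1)), (nat_lit 59, .ofNat (nat_lit 1)), (nat_lit 60, .ofNat (nat_lit 1)), (nat_lit 63, .ofNat (nat_lit 1)), (nat_lit 64, .negSucc (nat_lit 0)), (nat_lit 66, .negSucc (nat_lit 0)), (nat_lit 68, .negSucc (nat_lit 0)), (nat_lit 69, .ofNat (nat_lit 1)), (nat_lit 72, .negSucc (nat_lit 0)), (nat_lit 73, .ofNat (nat_lit 1)), (nat_lit 74, .ofNat (nat_lit 1))],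
  [(nat_lit 47, .ofNat (nat_lit 2)), (nat_lit 65, .negSucc (nat_lit 1)), (nat_lit 67, .ofNat (nat_lit 2)), (nat_lit 75, .negSucc (nat_lit 1))],
  [(nat_lit 41, .negSucc (nat_lit 0)), (nat_lit 42, .negSucc (nat_lit 0)), (nat_lit 43, .ofNat (nat_lit 1)), (nat_lit 44, .ofNat (nat_lit 1)), (nat_lit 48, .negSucc (nat_lit 0)), (nat_lit 49, .negSucc (nat_lit 0)), (nat_lit 59, .ofNat (nat_lit 1)), (nat_lit 60, .ofNat (nat_lit 1)), (nat_lit 63, .negSucc (nat_lit 0)), (nat_lit 64, .negSucc (nat_lit 0)), (nat_lit 66, .negSucc (nat_lit 0)), (nat_lit 68, .ofNat (nat_lit 1)), (nat_lit 69, .ofNat (nat_lit 1)), (nat_lit 72, .ofNat (nat_lit 1)), (nat_lit 73, .ofNat (nat_lit 1)), (nat_lit 74, .negSucc (nat_lit 0))],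
  [(nat_lit 47, .ofNat (nat_lit 2)), (nat_lit 65, .ofNat (nat_lit 2)), (nat_lit 67, .negSucc (nat_lit 1)), (nat_lit 75, .negSucc (nat_lit 1))],
  [(nat_lit 41, .negSucc (nat_lit 0)), (nat_lit 42, .negSucc (nat_lit 0)), (nat_lit 43, .ofNat (nat_lit 1)), (nat_lit 44, .negSucc (nat_lit 0)), (nat_lit 48, .ofNat (nat_lit 1)), (nat_lit 49, .negSucc (nat_lit 0)), (nat_lit 59, .ofNat (nat_lit 1)), (nat_lit 60, .negSucc (nat_lit 0)), (nat_lit 63, .ofNat (nat_lit 1)), (nat_lit 64, .negSucc (nat_lit 0)), (nat_lit 66, .ofNat (nat_lit 1)), (nat_lit 68, .negSucc (nat_lit 0)), (nat_lit 69, .ofNat (nat_lit 1)), (nat_lit 72, .ofNat (nat_lit 1)), (nat_lit 73, .negSucc (nat_lit 0)), (nat_lit 74, .ofNat (nat_lit 1))],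
  [(nat_lit 41, .negSucc (nat_lit 0)), (nat_lit 42, .negSucc (nat_lit 0)), (nat_lit 43, .ofNat (nat_lit 1)), (nat_lit 44, .negSucc (nat_lit 0)), (nat_lit 48, .negSucc (nat_lit 0)), (nat_lit 49, .ofNat (nat_lit 1)), (nat_lit 59, .ofNat (nat_lit 1)), (nat_lit 60, .negSucc (nat_lit 0)), (nat_lit 63, .negSucc (nat_lit 0)), (nat_lit 64, .ofNat (nat_lit 1)), (nat_lit 66, .ofNat (nat_lit 1)), (nat_lit 68, .ofNat (nat_lit 1)), (nat_lit 69, .negSucc (nat_lit 0)), (nat_lit 72, .negSucc (nat_lit 0)), (nat_lit 73, .ofNat (nat_lit 1)), (nat_lit 74, .ofNat (nat_lit 1))],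
  [(nat_lit 45, .ofNat (nat_lit 2)), (nat_lit 62, .ofNat (nat_lit 2)), (nat_lit 70, .negSucc (nat_lit 1)), (nat_lit 77, .negSucc (nat_lit 1))],
  [(nat_lit 46, .ofNat (nat_lit 2)), (nat_lit 61, .ofNat (nat_lit 2)), (nat_lit 71, .negSucc (nat_lit 1)), (nat_lit 76, .negSucc (nat_lit 1))],
  [(nat_lit 41, .negSucc (nat_lit 0)), (nat_lit 42, .negSucc (nat_lit 0)), (nat_lit 43, .negSucc (nat_lit 0)), (nat_lit 44, .ofNat (nat_lit 1)), (nat_lit 48, .ofNat (nat_lit 1)), (nat_lit 49, .negSucc (nat_lit 0)), (nat_lit 59, .negSucc (nat_lit 0)), (nat_lit 60, .ofNat (nat_lit 1)), (nat_lit 63, .ofNat (nat_lit 1)), (nat_lit 64, .negSucc (nat_lit 0)), (nat_lit 66, .ofNat (nat_lit 1)), (nat_lit 68, .ofNat (nat_lit 1)), (nat_lit 69, .negSucc (nat_lit 0)), (nat_lit 72, .negSucc (nat_lit 0)), (nat_lit 73, .ofNat (nat_lit 1)), (nat_lit 74, .ofNat (nat_lit 1))],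
  [(nat_lit 41, .negSucc (nat_lit 0)), (nat_lit 42, .negSucc (nat_lit 0)), (nat_lit 43, .negSucc (nat_lit 0)), (nat_lit 44, .ofNat (nat_lit 1)), (nat_lit 48, .negSucc (nat_lit 0)), (nat_lit 49, .ofNat (nat_lit 1)), (nat_lit 59, .negSucc (nat_lit 0)), (nat_lit 60, .ofNat (nat_lit 1)), (nat_lit 63, .negSucc (nat_lit 0)), (nat_lit 64, .ofNat (nat_lit 1)), (nat_lit 66, .ofNat (nat_lit 1)), (nat_lit 68, .negSucc (nat_lit 0)), (nat_lit 69, .ofNat (nat_lit 1)), (nat_lit 72, .ofNat (nat_lit 1)), (nat_lit 73, .negSucc (nat_lit 0)), (nat_lit 74, .ofNat (nat_lit 1))],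
  [(nat_lit 41, .negSucc (nat_lit 0)), (nat_lit 42, .negSucc (nat_lit 0)), (nat_lit 43, .negSucc (nat_lit 0)), (nat_lit 44, .negSucc (nat_lit 0)), (nat_lit 48, .ofNat (nat_lit 1)), (nat_lit 49, .ofNat (nat_lit 1)), (nat_lit 59, .negSucc (nat_lit 0)), (nat_lit 60, .negSucc (nat_lit 0)), (nat_lit 63, .ofNat (nat_lit 1)), (nat_lit 64, .ofNat (nat_lit 1)), (nat_lit 66, .negSucc (nat_lit 0)), (nat_lit 68, .ofNat (nat_lit 1)), (nat_lit 69, .ofNat (nat_lit 1)), (nat_lit 72, .ofNat (nat_lit 1)), (nat_lit 73, .ofNat (nat_lit 1)), (nat_lit 74, .negSucc (nat_lit 0))],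
  [(nat_lit 47, .negSucc (nat_lit 1)), (nat_lit 65, .negSucc (nat_lit 1)), (nat_lit 67, .negSucc (nat_lit 1)), (nat_lit 75, .negSucc (nat_lit 1))],
  [(nat_lit 46, .negSucc (nat_lit 1)), (nat_lit 61, .negSucc (nat_lit 1)), (nat_lit 71, .negSucc (nat_lit 1)), (nat_lit 76, .negSucc (nat_lit 1))],
  [(nat_lit 45, .negSucc (nat_lit 1)), (nat_lit 62, .negSucc (nat_lit 1)), (nat_lit 70, .negSucc (nat_lit 1)), (nat_lit 77, .negSucc (nat_lit 1))]]
def mg : List (List (ℕ × ℤ)) := [[(nat_lit 0, .ofNat (nat_lit 4))],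
  [(nat_lit 1, .ofNat (nat_lit 4))],
  [(nat_lit 2, .negSucc (nat_lit 3))],
  [(nat_lit 3, .negSucc (nat_lit 3))],
  [(nat_lit 4, .negSucc (nat_lit 3))],
  [(nat_lit 5, .negSucc (nat_lit 3))],
  [(nat_lit 6, .negSucc (nat_lit 3))],
  [(nat_lit 7, .negSucc (nat_lit 3))],
  [(nat_lit 8, .negSucc (nat_lit 3))],
  [(nat_lit 9, .negSucc (nat_lit 3))],
  [(nat_lit 10, .ofNat (nat_lit 4))],
  [(nat_lit 11, .negSucc (nat_lit 3))],
  [(nat_lit 12, .negSucc (nat_lit 3))],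
  [(nat_lit 13, .negSucc (nat_lit 3))],
  [(nat_lit 14, .negSucc (nat_lit 3))],
  [(nat_lit 15, .ofNat (nat_lit 4))],
  [(nat_lit 16, .ofNat (nat_lit 4))],
  [(nat_lit 17, .ofNat (nat_lit 4))],
  [(nat_lit 18, .negSucc (nat_lit 3))],
  [(nat_lit 19, .negSucc (nat_lit 3))],
  [(nat_lit 20, .negSucc (nat_lit 3))],
  [(nat_lit 21, .negSucc (nat_lit 3))],
  [(nat_lit 22, .negSucc (nat_lit 3))],
  [(nat_lit 23, .negSucc (nat_lit 3))],
  [(nat_lit 24, .negSucc (nat_lit 3))],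
  [(nat_lit 25, .negSucc (nat_lit 3))],
  [(nat_lit 26, .negSucc (nat_lit 3))],
  [(nat_lit 27, .ofNat (nat_lit 4))],
  [(nat_lit 28, .negSucc (nat_lit 3))],
  [(nat_lit 29, .negSucc (nat_lit 3))],
  [(nat_lit 30, .ofNat (nat_lit 4))],
  [(nat_lit 31, .negSucc (nat_lit 3))],
  [(nat_lit 32, .ofNat (nat_lit 4))],
  [(nat_lit 33, .ofNat (nat_lit 4))],
  [(nat_lit 34, .negSucc (nat_lit 3))],
  [(nat_lit 35, .negSucc (nat_lit 3))],
  [(nat_lit 36, .negSucc (nat_lit 3))],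
  [(nat_lit 37, .negSucc (nat_lit 3))],
  [(nat_lit 38, .negSucc (nat_lit 3))],
  [(nat_lit 39, .negSucc (nat_lit 3))],
  [(nat_lit 40, .ofNat (nat_lit 4))],
  [(nat_lit 41, .ofNat (nat_lit 4))],
  [(nat_lit 42, .negSucc (nat_lit 3))],
  [(nat_lit 43, .negSucc (nat_lit 3))],
  [(nat_lit 44, .ofNat (nat_lit 4))],
  [(nat_lit 45, .ofNat (nat_lit 4))],
  [(nat_lit 46, .negSucc (nat_lit 3))],
  [(nat_lit 47, .negSucc (nat_lit 3))],
  [(nat_lit 48, .negSucc (nat_lit 3))],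
  [(nat_lit 49, .negSucc (nat_lit 3))],
  [(nat_lit 50, .negSucc (nat_lit 3))],
  [(nat_lit 51, .negSucc (nat_lit 3))],
  [(nat_lit 52, .negSucc (nat_lit 3))],
  [(nat_lit 53, .ofNat (nat_lit 4))],
  [(nat_lit 54, .ofNat (nat_lit 4))],
  [(nat_lit 55, .negSucc (nat_lit 3))],
  [(nat_lit 56, .negSucc (nat_lit 3))],
  [(nat_lit 57, .negSucc (nat_lit 3))],
  [(nat_lit 58, .negSucc (nat_lit 3))],
  [(nat_lit 59, .negSucc (nat_lit 3))],
  [(nat_lit 60, .ofNat (nat_lit 4))],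
  [(nat_lit 61, .ofNat (nat_lit 4))],
  [(nat_lit 62, .negSucc (nat_lit 3))],
  [(nat_lit 63, .negSucc (nat_lit 3))],
  [(nat_lit 64, .negSucc (nat_lit 3))],
  [(nat_lit 65, .negSucc (nat_lit 3))],
  [(nat_lit 66, .ofNat (nat_lit 4))],
  [(nat_lit 67, .ofNat (nat_lit 4))],
  [(nat_lit 68, .negSucc (nat_lit 3))],
  [(nat_lit 69, .negSucc (nat_lit 3))],
  [(nat_lit 70, .negSucc (nat_lit 3))],
  [(nat_lit 71, .negSucc (nat_lit 3))],
  [(nat_lit 72, .ofNat (nat_lit 4))],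
  [(nat_lit 73, .ofNat (nat_lit 4))],
  [(nat_lit 74, .negSucc (nat_lit 3))],
  [(nat_lit 75, .negSucc (nat_lit 3))],
  [(nat_lit 76, .negSucc (nat_lit 3))],
  [(nat_lit 77, .negSucc (nat_lit 3))]]
def mh : List (List (ℕ × ℤ)) := [[(nat_lit 0, .ofNat (nat_lit 4))],
  [(nat_lit 1, .negSucc (nat_lit 3))],
  [(nat_lit 2, .ofNat (nat_lit 4))],
  [(nat_lit 3, .negSucc (nat_lit 3))],
  [(nat_lit 4, .negSucc (nat_lit 3))],
  [(nat_lit 5, .negSucc (nat_lit 3))],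
  [(nat_lit 6, .ofNat (nat_lit 4))],
  [(nat_lit 7, .negSucc (nat_lit 3))],
  [(nat_lit 8, .negSucc (nat_lit 3))],
  [(nat_lit 9, .negSucc (nat_lit 3))],
  [(nat_lit 10, .ofNat (nat_lit 4))],
  [(nat_lit 11, .ofNat (nat_lit 4))],
  [(nat_lit 12, .ofNat (nat_lit 4))],
  [(nat_lit 13, .negSucc (nat_lit 3))],
  [(nat_lit 14, .negSucc (nat_lit 3))],
  [(nat_lit 15, .negSucc (nat_lit 3))],
  [(nat_lit 16, .negSucc (nat_lit 3))],
  [(nat_lit 17, .negSucc (nat_lit 3))],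
  [(nat_lit 18, .negSucc (nat_lit 3))],
  [(nat_lit 19, .negSucc (nat_lit 3))],
  [(nat_lit 20, .negSucc (nat_lit 3))],
  [(nat_lit 21, .negSucc (nat_lit 3))],
  [(nat_lit 22, .ofNat (nat_lit 4))],
  [(nat_lit 23, .negSucc (nat_lit 3))],
  [(nat_lit 24, .negSucc (nat_lit 3))],
  [(nat_lit 25, .negSucc (nat_lit 3))],
  [(nat_lit 26, .ofNat (nat_lit 4))],
  [(nat_lit 27, .ofNat (nat_lit 4))],
  [(nat_lit 28, .ofNat (nat_lit 4))],
  [(nat_lit 29, .negSucc (nat_lit 3))],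
  [(nat_lit 30, .negSucc (nat_lit 3))],
  [(nat_lit 31, .negSucc (nat_lit 3))],
  [(nat_lit 32, .negSucc (nat_lit 3))],
  [(nat_lit 33, .negSucc (nat_lit 3))],
  [(nat_lit 34, .negSucc (nat_lit 3))],
  [(nat_lit 35, .negSucc (nat_lit 3))],
  [(nat_lit 36, .negSucc (nat_lit 3))],
  [(nat_lit 37, .negSucc (nat_lit 3))],
  [(nat_lit 38, .ofNat (nat_lit 4))],
  [(nat_lit 39, .ofNat (nat_lit 4))],
  [(nat_lit 40, .ofNat (nat_lit 4))],
  [(nat_lit 41, .negSucc (nat_lit 3))],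
  [(nat_lit 42, .negSucc (nat_lit 3))],
  [(nat_lit 43, .negSucc (nat_lit 3))],
  [(nat_lit 44, .negSucc (nat_lit 3))],
  [(nat_lit 45, .negSucc (nat_lit 3))],
  [(nat_lit 46, .negSucc (nat_lit 3))],
  [(nat_lit 47, .negSucc (nat_lit 3))],
  [(nat_lit 48, .negSucc (nat_lit 3))],
  [(nat_lit 49, .negSucc (nat_lit 3))],
  [(nat_lit 50, .ofNat (nat_lit 4))],
  [(nat_lit 51, .ofNat (nat_lit 4))],
  [(nat_lit 52, .ofNat (nat_lit 4))],
  [(nat_lit 53, .ofNat (nat_lit 4))],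
  [(nat_lit 54, .ofNat (nat_lit 4))],
  [(nat_lit 55, .ofNat (nat_lit 4))],
  [(nat_lit 56, .ofNat (nat_lit 4))],
  [(nat_lit 57, .ofNat (nat_lit 4))],
  [(nat_lit 58, .ofNat (nat_lit 4))],
  [(nat_lit 59, .negSucc (nat_lit 3))],
  [(nat_lit 60, .negSucc (nat_lit 3))],
  [(nat_lit 61, .negSucc (nat_lit 3))],
  [(nat_lit 62, .negSucc (nat_lit 3))],
  [(nat_lit 63, .negSucc (nat_lit 3))],
  [(nat_lit 64, .negSucc (nat_lit 3))],
  [(nat_lit 65, .negSucc (nat_lit 3))],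
  [(nat_lit 66, .negSucc (nat_lit 3))],
  [(nat_lit 67, .negSucc (nat_lit 3))],
  [(nat_lit 68, .negSucc (nat_lit 3))],
  [(nat_lit 69, .negSucc (nat_lit 3))],
  [(nat_lit 70, .negSucc (nat_lit 3))],
  [(nat_lit 71, .negSucc (nat_lit 3))],
  [(nat_lit 72, .negSucc (nat_lit 3))],
  [(nat_lit 73, .negSucc (nat_lit 3))],
  [(nat_lit 74, .negSucc (nat_lit 3))],
  [(nat_lit 75, .negSucc (nat_lit 3))],
  [(nat_lit 76, .negSucc (nat_lit 3))],
  [(nat_lit 77, .negSucc (nat_lit 3))]]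
def mi : List (List (ℕ × ℤ)) := [[(nat_lit 0, .negSucc (nat_lit 1)), (nat_lit 1, .ofNat (nat_lit 2))],
  [(nat_lit 0, .ofNat (nat_lit 6)), (nat_lit 1, .ofNat (nat_lit 2))],
  [(nat_lit 2, .negSucc (nat_lit 1)), (nat_lit 3, .ofNat (nat_lit 2)), (nat_lit 4, .ofNat (nat_lit 2)), (nat_lit 5, .negSucc (nat_lit 1))],
  [(nat_lit 2, .ofNat (nat_lit 2)), (nat_lit 3, .negSucc (nat_lit 1)), (nat_lit 4, .ofNat (nat_lit 2)), (nat_lit 5, .negSucc (nat_lit 1))],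
  [(nat_lit 2, .ofNat (nat_lit 2)), (nat_lit 3, .ofNat (nat_lit 2)), (nat_lit 4, .negSucc (nat_lit 1)), (nat_lit 5, .negSucc (nat_lit 1))],
  [(nat_lit 2, .negSucc (nat_lit 1)), (nat_lit 3, .negSucc (nat_lit 1)), (nat_lit 4, .negSucc (nat_lit 1)), (nat_lit 5, .negSucc (nat_lit 1))],
  [(nat_lit 6, .negSucc (nat_lit 1)), (nat_lit 7, .ofNat (nat_lit 2)), (nat_lit 8, .ofNat (nat_lit 2)), (nat_lit 9, .negSucc (nat_lit 1))],
  [(nat_lit 6, .ofNat (nat_lit 2)), (nat_lit 7, .negSucc (nat_lit 1)), (nat_lit 8, .ofNat (nat_lit 2)), (nat_lit 9, .negSucc (nat_lit 1))],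
  [(nat_lit 6, .ofNat (nat_lit 2)), (nat_lit 7, .ofNat (nat_lit 2)), (nat_lit 8, .negSucc (nat_lit 1)), (nat_lit 9, .negSucc (nat_lit 1))],
  [(nat_lit 6, .negSucc (nat_lit 1)), (nat_lit 7, .negSucc (nat_lit 1)), (nat_lit 8, .negSucc (nat_lit 1)), (nat_lit 9, .negSucc (nat_lit 1))],
  [(nat_lit 10, .negSucc (nat_lit 1)), (nat_lit 15, .ofNat (nat_lit 2)), (nat_lit 16, .ofNat (nat_lit 2)), (nat_lit 17, .negSucc (nat_lit 1))],
  [(nat_lit 11, .negSucc (nat_lit 1)), (nat_lit 14, .ofNat (nat_lit 2)), (nat_lit 18, .ofNat (nat_lit 2)), (nat_lit 21, .negSucc (nat_lit 1))],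
  [(nat_lit 12, .negSucc (nat_lit 1)), (nat_lit 13, .ofNat (nat_lit 2)), (nat_lit 19, .ofNat (nat_lit 2)), (nat_lit 20, .negSucc (nat_lit 1))],
  [(nat_lit 12, .ofNat (nat_lit 2)), (nat_lit 13, .negSucc (nat_lit 1)), (nat_lit 19, .ofNat (nat_lit 2)), (nat_lit 20, .negSucc (nat_lit 1))],
  [(nat_lit 11, .ofNat (nat_lit 2)), (nat_lit 14, .negSucc (nat_lit 1)), (nat_lit 18, .ofNat (nat_lit 2)), (nat_lit 21, .negSucc (nat_lit 1))],
  [(nat_lit 10, .ofNat (nat_lit 2)), (nat_lit 15, .negSucc (nat_lit 1)), (nat_lit 16, .ofNat (nat_lit 2)), (nat_lit 17, .negSucc (nat_lit 1))],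
  [(nat_lit 10, .ofNat (nat_lit 2)), (nat_lit 15, .ofNat (nat_lit 2)), (nat_lit 16, .negSucc (nat_lit 1)), (nat_lit 17, .negSucc (nat_lit 1))],
  [(nat_lit 10, .negSucc (nat_lit 1)), (nat_lit 15, .negSucc (nat_lit 1)), (nat_lit 16, .negSucc (nat_lit 1)), (nat_lit 17, .negSucc (nat_lit 1))],
  [(nat_lit 11, .ofNat (nat_lit 2)), (nat_lit 14, .ofNat (nat_lit 2)), (nat_lit 18, .negSucc (nat_lit 1)), (nat_lit 21, .negSucc (nat_lit 1))],
  [(nat_lit 12, .ofNat (nat_lit 2)), (nat_lit 13, .ofNat (nat_lit 2)), (nat_lit 19, .negSucc (nat_lit 1)), (nat_lit 20, .negSucc (nat_lit 1))],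
  [(nat_lit 12, .negSucc (nat_lit 1)), (nat_lit 13, .negSucc (nat_lit 1)), (nat_lit 19, .negSucc (nat_lit 1)), (nat_lit 20, .negSucc (nat_lit 1))],
  [(nat_lit 11, .negSucc (nat_lit 1)), (nat_lit 14, .negSucc (nat_lit 1)), (nat_lit 18, .negSucc (nat_lit 1)), (nat_lit 21, .negSucc (nat_lit 1))],
  [(nat_lit 22, .negSucc (nat_lit 1)), (nat_lit 23, .ofNat (nat_lit 2)), (nat_lit 24, .ofNat (nat_lit 2)), (nat_lit 25, .negSucc (nat_lit 1))],
  [(nat_lit 22, .ofNat (nat_lit 2)), (nat_lit 23, .negSucc (nat_lit 1)), (nat_lit 24, .ofNat (nat_lit 2)), (nat_lit 25, .negSucc (nat_lit 1))],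
  [(nat_lit 22, .ofNat (nat_lit 2)), (nat_lit 23, .ofNat (nat_lit 2)), (nat_lit 24, .negSucc (nat_lit 1)), (nat_lit 25, .negSucc (nat_lit 1))],
  [(nat_lit 22, .negSucc (nat_lit 1)), (nat_lit 23, .negSucc (nat_lit 1)), (nat_lit 24, .negSucc (nat_lit 1)), (nat_lit 25, .negSucc (nat_lit 1))],
  [(nat_lit 26, .negSucc (nat_lit 1)), (nat_lit 31, .ofNat (nat_lit 2)), (nat_lit 34, .ofNat (nat_lit 2)), (nat_lit 37, .negSucc (nat_lit 1))],
  [(nat_lit 27, .negSucc (nat_lit 1)), (nat_lit 30, .ofNat (nat_lit 2)), (nat_lit 32, .ofNat (nat_lit 2)), (nat_lit 33, .negSucc (nat_lit 1))],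
  [(nat_lit 28, .negSucc (nat_lit 1)), (nat_lit 29, .ofNat (nat_lit 2)), (nat_lit 35, .ofNat (nat_lit 2)), (nat_lit 36, .negSucc (nat_lit 1))],
  [(nat_lit 28, .ofNat (nat_lit 2)), (nat_lit 29, .negSucc (nat_lit 1)), (nat_lit 35, .ofNat (nat_lit 2)), (nat_lit 36, .negSucc (nat_lit 1))],
  [(nat_lit 27, .ofNat (nat_lit 2)), (nat_lit 30, .negSucc (nat_lit 1)), (nat_lit 32, .ofNat (nat_lit 2)), (nat_lit 33, .negSucc (nat_lit 1))],
  [(nat_lit 26, .ofNat (nat_lit 2)), (nat_lit 31, .negSucc (nat_lit 1)), (nat_lit 34, .ofNat (nat_lit 2)), (nat_lit 37, .negSucc (nat_lit 1))],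
  [(nat_lit 27, .ofNat (nat_lit 2)), (nat_lit 30, .ofNat (nat_lit 2)), (nat_lit 32, .negSucc (nat_lit 1)), (nat_lit 33, .negSucc (nat_lit 1))],
  [(nat_lit 27, .negSucc (nat_lit 1)), (nat_lit 30, .negSucc (nat_lit 1)), (nat_lit 32, .negSucc (nat_lit 1)), (nat_lit 33, .negSucc (nat_lit 1))],
  [(nat_lit 26, .ofNat (nat_lit 2)), (nat_lit 31, .ofNat (nat_lit 2)), (nat_lit 34, .negSucc (nat_lit 1)), (nat_lit 37, .negSucc (nat_lit 1))],
  [(nat_lit 28, .ofNat (nat_lit 2)), (nat_lit 29, .ofNat (nat_lit 2)), (nat_lit 35, .negSucc (nat_lit 1)), (nat_lit 36, .negSucc (nat_lit 1))],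
  [(nat_lit 28, .negSucc (nat_lit 1)), (nat_lit 29, .negSucc (nat_lit 1)), (nat_lit 35, .negSucc (nat_lit 1)), (nat_lit 36, .negSucc (nat_lit 1))],
  [(nat_lit 26, .negSucc (nat_lit 1)), (nat_lit 31, .negSucc (nat_lit 1)), (nat_lit 34, .negSucc (nat_lit 1)), (nat_lit 37, .negSucc (nat_lit 1))],
  [(nat_lit 38, .negSucc (nat_lit 1)), (nat_lit 43, .ofNat (nat_lit 2)), (nat_lit 46, .ofNat (nat_lit 2)), (nat_lit 49, .negSucc (nat_lit 1))],
  [(nat_lit 39, .negSucc (nat_lit 1)), (nat_lit 42, .ofNat (nat_lit 2)), (nat_lit 47, .ofNat (nat_lit 2)), (nat_lit 48, .negSucc (nat_lit 1))],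
  [(nat_lit 40, .negSucc (nat_lit 1)), (nat_lit 41, .ofNat (nat_lit 2)), (nat_lit 44, .ofNat (nat_lit 2)), (nat_lit 45, .negSucc (nat_lit 1))],
  [(nat_lit 40, .ofNat (nat_lit 2)), (nat_lit 41, .negSucc (nat_lit 1)), (nat_lit 44, .ofNat (nat_lit 2)), (nat_lit 45, .negSucc (nat_lit 1))],
  [(nat_lit 39, .ofNat (nat_lit 2)), (nat_lit 42, .negSucc (nat_lit 1)), (nat_lit 47, .ofNat (nat_lit 2)), (nat_lit 48, .negSucc (nat_lit 1))],
  [(nat_lit 38, .ofNat (nat_lit 2)), (nat_lit 43, .negSucc (nat_lit 1)), (nat_lit 46, .ofNat (nat_lit 2)), (nat_lit 49, .negSucc (nat_lit 1))],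
  [(nat_lit 40, .ofNat (nat_lit 2)), (nat_lit 41, .ofNat (nat_lit 2)), (nat_lit 44, .negSucc (nat_lit 1)), (nat_lit 45, .negSucc (nat_lit 1))],
  [(nat_lit 40, .negSucc (nat_lit 1)), (nat_lit 41, .negSucc (nat_lit 1)), (nat_lit 44, .negSucc (nat_lit 1)), (nat_lit 45, .negSucc (nat_lit 1))],
  [(nat_lit 38, .ofNat (nat_lit 2)), (nat_lit 43, .ofNat (nat_lit 2)), (nat_lit 46, .negSucc (nat_lit 1)), (nat_lit 49, .negSucc (nat_lit 1))],
  [(nat_lit 39, .ofNat (nat_lit 2)), (nat_lit 42, .ofNat (nat_lit 2)), (nat_lit 47, .negSucc (nat_lit 1)), (nat_lit 48, .negSucc (nat_lit 1))],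
  [(nat_lit 39, .negSucc (nat_lit 1)), (nat_lit 42, .negSucc (nat_lit 1)), (nat_lit 47, .negSucc (nat_lit 1)), (nat_lit 48, .negSucc (nat_lit 1))],
  [(nat_lit 38, .negSucc (nat_lit 1)), (nat_lit 43, .negSucc (nat_lit 1)), (nat_lit 46, .negSucc (nat_lit 1)), (nat_lit 49, .negSucc (nat_lit 1))],
  [(nat_lit 50, .negSucc (nat_lit 0)), (nat_lit 51, .negSucc (nat_lit 0)), (nat_lit 52, .negSucc (nat_lit 0)), (nat_lit 55, .negSucc (nat_lit 0)), (nat_lit 56, .negSucc (nat_lit 0)), (nat_lit 57, .negSucc (nat_lit 0)), (nat_lit 59, .negSucc (nat_lit 0)), (nat_lit 62, .negSucc (nat_lit 0)), (nat_lit 64, .negSucc (nat_lit 0)), (nat_lit 65, .negSucc (nat_lit 0)), (nat_lit 68, .negSucc (nat_lit 0)), (nat_lit 70, .negSucc (nat_lit 0)), (nat_lit 71, .negSucc (nat_lit 0)), (nat_lit 74, .negSucc (nat_lit 0)), (nat_lit 75, .negSucc (nat_lit 0)), (nat_lit 76, .negSucc (nat_lit 0))],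
  [(nat_lit 50, .negSucc (nat_lit 0)), (nat_lit 51, .negSucc (nat_lit 0)), (nat_lit 52, .ofNat (nat_lit 1)), (nat_lit 55, .ofNat (nat_lit 1)), (nat_lit 56, .ofNat (nat_lit 1)), (nat_lit 57, .ofNat (nat_lit 1)), (nat_lit 59, .ofNat (nat_lit 1)), (nat_lit 62, .ofNat (nat_lit 1)), (nat_lit 64, .ofNat (nat_lit 1)), (nat_lit 65, .ofNat (nat_lit 1)), (nat_lit 68, .negSucc (nat_lit 0)), (nat_lit 70, .negSucc (nat_lit 0)), (nat_lit 71, .negSucc (nat_lit 0)), (nat_lit 74, .negSucc (nat_lit 0)), (nat_lit 75, .negSucc (nat_lit 0)), (nat_lit 76, .negSucc (nat_lit 0))],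
  [(nat_lit 50, .negSucc (nat_lit 0)), (nat_lit 51, .ofNat (nat_lit 1)), (nat_lit 52, .negSucc (nat_lit 0)), (nat_lit 55, .ofNat (nat_lit 1)), (nat_lit 56, .ofNat (nat_lit 1)), (nat_lit 57, .ofNat (nat_lit 1)), (nat_lit 59, .ofNat (nat_lit 1)), (nat_lit 62, .negSucc (nat_lit 0)), (nat_lit 64, .negSucc (nat_lit 0)), (nat_lit 65, .negSucc (nat_lit 0)), (nat_lit 68, .ofNat (nat_lit 1)), (nat_lit 70, .ofNat (nat_lit 1)), (nat_lit 71, .ofNat (nat_lit 1)), (nat_lit 74, .negSucc (nat_lit 0)), (nat_lit 75, .negSucc (nat_lit 0)), (nat_lit 76, .negSucc (nat_lit 0))],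
  [(nat_lit 53, .negSucc (nat_lit 1)), (nat_lit 61, .ofNat (nat_lit 2)), (nat_lit 66, .ofNat (nat_lit 2)), (nat_lit 73, .negSucc (nat_lit 1))],
  [(nat_lit 54, .negSucc (nat_lit 1)), (nat_lit 60, .ofNat (nat_lit 2)), (nat_lit 67, .ofNat (nat_lit 2)), (nat_lit 72, .negSucc (nat_lit 1))],
  [(nat_lit 50, .negSucc (nat_lit 0)), (nat_lit 51, .ofNat (nat_lit 1)), (nat_lit 52, .ofNat (nat_lit 1)), (nat_lit 55, .negSucc (nat_lit 0)), (nat_lit 56, .ofNat (nat_lit 1)), (nat_lit 57, .ofNat (nat_lit 1)), (nat_lit 59, .negSucc (nat_lit 0)), (nat_lit 62, .ofNat (nat_lit 1)), (nat_lit 64, .negSucc (nat_lit 0)), (nat_lit 65, .negSucc (nat_lit 0)), (nat_lit 68, .ofNat (nat_lit 1)), (nat_lit 70, .negSucc (nat_lit 0)), (nat_lit 71, .negSucc (nat_lit 0)), (nat_lit 74, .ofNat (nat_lit 1)), (nat_lit 75, .ofNat (nat_lit 1)), (nat_lit 76, .negSucc (nat_lit 0))],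
  [(nat_lit 50, .negSucc (nat_lit 0)), (nat_lit 51, .ofNat (nat_lit 1)), (nat_lit 52, .ofNat (nat_lit 1)), (nat_lit 55, .ofNat (nat_lit 1)), (nat_lit 56, .negSucc (nat_lit 0)), (nat_lit 57, .ofNat (nat_lit 1)), (nat_lit 59, .negSucc (nat_lit 0)), (nat_lit 62, .negSucc (nat_lit 0)), (nat_lit 64, .ofNat (nat_lit 1)), (nat_lit 65, .negSucc (nat_lit 0)), (nat_lit 68, .negSucc (nat_lit 0)), (nat_lit 70, .ofNat (nat_lit 1)), (nat_lit 71, .negSucc (nat_lit 0)), (nat_lit 74, .ofNat (nat_lit 1)), (nat_lit 75, .negSucc (nat_lit 0)), (nat_lit 76, .ofNat (nat_lit 1))],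
  [(nat_lit 50, .negSucc (nat_lit 0)), (nat_lit 51, .ofNat (nat_lit 1)), (nat_lit 52, .ofNat (nat_lit 1)), (nat_lit 55, .ofNat (nat_lit 1)), (nat_lit 56, .ofNat (nat_lit 1)), (nat_lit 57, .negSucc (nat_lit 0)), (nat_lit 59, .negSucc (nat_lit 0)), (nat_lit 62, .negSucc (nat_lit 0)), (nat_lit 64, .negSucc (nat_lit 0)), (nat_lit 65, .ofNat (nat_lit 1)), (nat_lit 68, .negSucc (nat_lit 0)), (nat_lit 70, .negSucc (nat_lit 0)), (nat_lit 71, .ofNat (nat_lit 1)), (nat_lit 74, .negSucc (nat_lit 0)), (nat_lit 75, .ofNat (nat_lit 1)), (nat_lit 76, .ofNat (nat_lit 1))],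
  [(nat_lit 58, .negSucc (nat_lit 1)), (nat_lit 63, .ofNat (nat_lit 2)), (nat_lit 69, .ofNat (nat_lit 2)), (nat_lit 77, .negSucc (nat_lit 1))],
  [(nat_lit 50, .negSucc (nat_lit 0)), (nat_lit 51, .ofNat (nat_lit 1)), (nat_lit 52, .ofNat (nat_lit 1)), (nat_lit 55, .negSucc (nat_lit 0)), (nat_lit 56, .negSucc (nat_lit 0)), (nat_lit 57, .negSucc (nat_lit 0)), (nat_lit 59, .negSucc (nat_lit 0)), (nat_lit 62, .ofNat (nat_lit 1)), (nat_lit 64, .ofNat (nat_lit 1)), (nat_lit 65, .ofNat (nat_lit 1)), (nat_lit 68, .ofNat (nat_lit 1)), (nat_lit 70, .ofNat (nat_lit 1)), (nat_lit 71, .ofNat (nat_lit 1)), (nat_lit 74, .negSucc (nat_lit 0)), (nat_lit 75, .negSucc (nat_lit 0)), (nat_lit 76, .negSucc (nat_lit 0))],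
  [(nat_lit 54, .ofNat (nat_lit 2)), (nat_lit 60, .negSucc (nat_lit 1)), (nat_lit 67, .ofNat (nat_lit 2)), (nat_lit 72, .negSucc (nat_lit 1))],
  [(nat_lit 53, .ofNat (nat_lit 2)), (nat_lit 61, .negSucc (nat_lit 1)), (nat_lit 66, .ofNat (nat_lit 2)), (nat_lit 73, .negSucc (nat_lit 1))],
  [(nat_lit 50, .negSucc (nat_lit 0)), (nat_lit 51, .ofNat (nat_lit 1)), (nat_lit 52, .negSucc (nat_lit 0)), (nat_lit 55, .ofNat (nat_lit 1)), (nat_lit 56, .negSucc (nat_lit 0)), (nat_lit 57, .negSucc (nat_lit 0)), (nat_lit 59, .ofNat (nat_lit 1)), (nat_lit 62, .negSucc (nat_lit 0)), (nat_lit 64, .ofNat (nat_lit 1)), (nat_lit 65, .ofNat (nat_lit 1)), (nat_lit 68, .ofNat (nat_lit 1)), (nat_lit 70, .negSucc (nat_lit 0)), (nat_lit 71, .negSucc (nat_lit 0)), (nat_lit 74, .ofNat (nat_lit 1)), (nat_lit 75, .ofNat (nat_lit 1)), (nat_lit 76, .negSucc (nat_lit 0))],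
  [(nat_lit 58, .ofNat (nat_lit 2)), (nat_lit 63, .negSucc (nat_lit 1)), (nat_lit 69, .ofNat (nat_lit 2)), (nat_lit 77, .negSucc (nat_lit 1))],
  [(nat_lit 50, .negSucc (nat_lit 0)), (nat_lit 51, .ofNat (nat_lit 1)), (nat_lit 52, .negSucc (nat_lit 0)), (nat_lit 55, .negSucc (nat_lit 0)), (nat_lit 56, .ofNat (nat_lit 1)), (nat_lit 57, .negSucc (nat_lit 0)), (nat_lit 59, .ofNat (nat_lit 1)), (nat_lit 62, .ofNat (nat_lit 1)), (nat_lit 64, .negSucc (nat_lit 0)), (nat_lit 65, .ofNat (nat_lit 1)), (nat_lit 68, .negSucc (nat_lit 0)), (nat_lit 70, .ofNat (nat_lit 1)), (nat_lit 71, .negSucc (nat_lit 0)), (nat_lit 74, .ofNat (nat_lit 1)), (nat_lit 75, .negSucc (nat_lit 0)), (nat_lit 76, .ofNat (nat_lit 1))],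
  [(nat_lit 50, .negSucc (nat_lit 0)), (nat_lit 51, .ofNat (nat_lit 1)), (nat_lit 52, .negSucc (nat_lit 0)), (nat_lit 55, .negSucc (nat_lit 0)), (nat_lit 56, .negSucc (nat_lit 0)), (nat_lit 57, .ofNat (nat_lit 1)), (nat_lit 59, .ofNat (nat_lit 1)), (nat_lit 62, .ofNat (nat_lit 1)), (nat_lit 64, .ofNat (nat_lit 1)), (nat_lit 65, .negSucc (nat_lit 0)), (nat_lit 68, .negSucc (nat_lit 0)), (nat_lit 70, .negSucc (nat_lit 0)), (nat_lit 71, .ofNat (nat_lit 1)), (nat_lit 74, .negSucc (nat_lit 0)), (nat_lit 75, .ofNat (nat_lit 1)), (nat_lit 76, .ofNat (nat_lit 1))],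
  [(nat_lit 53, .ofNat (nat_lit 2)), (nat_lit 61, .ofNat (nat_lit 2)), (nat_lit 66, .negSucc (nat_lit 1)), (nat_lit 73, .negSucc (nat_lit 1))],
  [(nat_lit 54, .ofNat (nat_lit 2)), (nat_lit 60, .ofNat (nat_lit 2)), (nat_lit 67, .negSucc (nat_lit 1)), (nat_lit 72, .negSucc (nat_lit 1))],
  [(nat_lit 50, .negSucc (nat_lit 0)), (nat_lit 51, .negSucc (nat_lit 0)), (nat_lit 52, .ofNat (nat_lit 1)), (nat_lit 55, .ofNat (nat_lit 1)), (nat_lit 56, .negSucc (nat_lit 0)), (nat_lit 57, .negSucc (nat_lit 0)), (nat_lit 59, .ofNat (nat_lit 1)), (nat_lit 62, .ofNat (nat_lit 1)), (nat_lit 64, .negSucc (nat_lit 0)), (nat_lit 65, .negSucc (nat_lit 0)), (nat_lit 68, .negSucc (nat_lit 0)), (nat_lit 70, .ofNat (nat_lit 1)), (nat_lit 71, .ofNat (nat_lit 1)), (nat_lit 74, .ofNat (nat_lit 1)), (nat_lit 75, .ofNat (nat_lit 1)), (nat_lit 76, .negSucc (nat_lit 0))],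
  [(nat_lit 58, .ofNat (nat_lit 2)), (nat_lit 63, .ofNat (nat_lit 2)), (nat_lit 69, .negSucc (nat_lit 1)), (nat_lit 77, .negSucc (nat_lit 1))],
  [(nat_lit 50, .negSucc (nat_lit 0)), (nat_lit 51, .negSucc (nat_lit 0)), (nat_lit 52, .ofNat (nat_lit 1)), (nat_lit 55, .negSucc (nat_lit 0)), (nat_lit 56, .ofNat (nat_lit 1)), (nat_lit 57, .negSucc (nat_lit 0)), (nat_lit 59, .ofNat (nat_lit 1)), (nat_lit 62, .negSucc (nat_lit 0)), (nat_lit 64, .ofNat (nat_lit 1)), (nat_lit 65, .negSucc (nat_lit 0)), (nat_lit 68, .ofNat (nat_lit 1)), (nat_lit 70, .negSucc (nat_lit 0)), (nat_lit 71, .ofNat (nat_lit 1)), (nat_lit 74, .ofNat (nat_lit 1)), (nat_lit 75, .negSucc (nat_lit 0)), (nat_lit 76, .ofNat (nat_lit 1))],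
  [(nat_lit 50, .negSucc (nat_lit 0)), (nat_lit 51, .negSucc (nat_lit 0)), (nat_lit 52, .ofNat (nat_lit 1)), (nat_lit 55, .negSucc (nat_lit 0)), (nat_lit 56, .negSucc (nat_lit 0)), (nat_lit 57, .ofNat (nat_lit 1)), (nat_lit 59, .ofNat (nat_lit 1)), (nat_lit 62, .negSucc (nat_lit 0)), (nat_lit 64, .negSucc (nat_lit 0)), (nat_lit 65, .ofNat (nat_lit 1)), (nat_lit 68, .ofNat (nat_lit 1)), (nat_lit 70, .ofNat (nat_lit 1)), (nat_lit 71, .negSucc (nat_lit 0)), (nat_lit 74, .negSucc (nat_lit 0)), (nat_lit 75, .ofNat (nat_lit 1)), (nat_lit 76, .ofNat (nat_lit 1))],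
  [(nat_lit 54, .negSucc (nat_lit 1)), (nat_lit 60, .negSucc (nat_lit 1)), (nat_lit 67, .negSucc (nat_lit 1)), (nat_lit 72, .negSucc (nat_lit 1))],
  [(nat_lit 53, .negSucc (nat_lit 1)), (nat_lit 61, .negSucc (nat_lit 1)), (nat_lit 66, .negSucc (nat_lit 1)), (nat_lit 73, .negSucc (nat_lit 1))],
  [(nat_lit 50, .negSucc (nat_lit 0)), (nat_lit 51, .negSucc (nat_lit 0)), (nat_lit 52, .negSucc (nat_lit 0)), (nat_lit 55, .ofNat (nat_lit 1)), (nat_lit 56, .ofNat (nat_lit 1)), (nat_lit 57, .negSucc (nat_lit 0)), (nat_lit 59, .negSucc (nat_lit 0)), (nat_lit 62, .ofNat (nat_lit 1)), (nat_lit 64, .ofNat (nat_lit 1)), (nat_lit 65, .negSucc (nat_lit 0)), (nat_lit 68, .ofNat (nat_lit 1)), (nat_lit 70, .ofNat (nat_lit 1)), (nat_lit 71, .negSucc (nat_lit 0)), (nat_lit 74, .negSucc (nat_lit 0)), (nat_lit 75, .ofNat (nat_lit 1)), (nat_lit 76, .ofNat (nat_lit 1))],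
  [(nat_lit 50, .negSucc (nat_lit 0)), (nat_lit 51, .negSucc (nat_lit 0)), (nat_lit 52, .negSucc (nat_lit 0)), (nat_lit 55, .ofNat (nat_lit 1)), (nat_lit 56, .negSucc (nat_lit 0)), (nat_lit 57, .ofNat (nat_lit 1)), (nat_lit 59, .negSucc (nat_lit 0)), (nat_lit 62, .ofNat (nat_lit 1)), (nat_lit 64, .negSucc (nat_lit 0)), (nat_lit 65, .ofNat (nat_lit 1)), (nat_lit 68, .ofNat (nat_lit 1)), (nat_lit 70, .negSucc (nat_lit 0)), (nat_lit 71, .ofNat (nat_lit 1)), (nat_lit 74, .ofNat (nat_lit 1)), (nat_lit 75, .negSucc (nat_lit 0)), (nat_lit 76, .ofNat (nat_lit 1))],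
  [(nat_lit 50, .negSucc (nat_lit 0)), (nat_lit 51, .negSucc (nat_lit 0)), (nat_lit 52, .negSucc (nat_lit 0)), (nat_lit 55, .negSucc (nat_lit 0)), (nat_lit 56, .ofNat (nat_lit 1)), (nat_lit 57, .ofNat (nat_lit 1)), (nat_lit 59, .negSucc (nat_lit 0)), (nat_lit 62, .negSucc (nat_lit 0)), (nat_lit 64, .ofNat (nat_lit 1)), (nat_lit 65, .ofNat (nat_lit 1)), (nat_lit 68, .negSucc (nat_lit 0)), (nat_lit 70, .ofNat (nat_lit 1)), (nat_lit 71, .ofNat (nat_lit 1)), (nat_lit 74, .ofNat (nat_lit 1)), (nat_lit 75, .ofNat (nat_lit 1)), (nat_lit 76, .negSucc (nat_lit 0))],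
  [(nat_lit 58, .negSucc (nat_lit 1)), (nat_lit 63, .negSucc (nat_lit 1)), (nat_lit 69, .negSucc (nat_lit 1)), (nat_lit 77, .negSucc (nat_lit 1))]]

def sp : Fi22.Gen → List (List (ℕ × ℤ))
  | .a => ma | .b => mb | .c => mc | .d => md | .e => me | .f => mf | .g => mg | .h => mh | .i => mi

def gens : List Fi22.Gen := [.a, .b, .c, .d, .e, .f, .g, .h, .i]
theorem mem_gens (x : Fi22.Gen) : x ∈ gens := by cases x <;> simp [gens]

def toMat (s : List (List (ℕ × ℤ))) : Matrix (Fin 78) (Fin 78) ℤ :=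
  fun i j => ((s.getD i []).map (fun p : ℕ × ℤ => if p.1 = (j : ℕ) then p.2 else 0)).sum

def rowOk (r : List (ℕ × ℤ)) : Bool := r.all (fun p => decide (p.1 < 78)) && decide ((r.map (fun p => |p.2|)).sum ≤ 16)

theorem sp_ok : gens.all (fun x => (sp x).all rowOk) = true := by decide +kernel

theorem row_ok (x : Fi22.Gen) (i : ℕ) : rowOk ((sp x).getD i []) = true := by
  have h := List.all_eq_true.1 (List.all_eq_true.1 sp_ok x (mem_gens x))
  rcases lt_or_ge i (sp x).length with hi | hi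
  · rw [List.getD_eq_getElem _ _ hi]; exact h _ (List.getElem_mem hi)
  · rw [List.getD_eq_default _ _ hi]; rfl

theorem row_sum (r : List (ℕ × ℤ)) (hr : ∀ p ∈ r, p.1 < 78) (v : ℕ → ℤ) :
    ∑ j : Fin 78, (r.map (fun p : ℕ × ℤ => if p.1 = (j : ℕ) then p.2 else 0)).sum * v j = (r.map (fun p => p.2 * v p.1)).sum := by
  induction r with
  | nil => simp
  | cons p r ih =>
    simp only [List.map_cons, List.sum_cons, add_mul, Finset.sum_add_distrib]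
    rw [ih (fun q hq => hr q (List.mem_cons_of_mem _ hq))]
    congr 1
    rw [Finset.sum_eq_single (⟨p.1, hr p List.mem_cons_self⟩ : Fin 78)]
    · simp
    · intro b _ hb
      rw [if_neg, zero_mul]
      intro h; exact hb (Fin.ext h.symm)
    · simp

theorem mulVec_eq (x : Fi22.Gen) (v : ℕ → ℤ) (i : Fin 78) :
    (toMat (sp x) *ᵥ (fun j : Fin 78 => v j)) i = (((sp x).getD i []).map (fun p => p.2 * v p.1)).sum := by
  have h := row_ok x i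
  simp only [rowOk, Bool.and_eq_true, List.all_eq_true, decide_eq_true_eq] at h
  exact row_sum _ h.1 v

theorem row_bd (r : List (ℕ × ℤ)) (v : ℕ → ℤ) (B : ℤ) (hv : ∀ j, |v j| ≤ B) :
    |(r.map (fun p => p.2 * v p.1)).sum| ≤ (r.map (fun p => |p.2|)).sum * B := by
  induction r with
  | nil => simp
  | cons p r ih =>
    simp only [List.map_cons, List.sum_cons, add_mul]
    refine (abs_add_le _ _).trans (add_le_add ?_ ih)
    rw [abs_mul]; exact mul_le_mul_of_nonneg_left (hv _) (abs_nonneg _)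

theorem mulVec_bd' (x : Fi22.Gen) (v : ℕ → ℤ) (B : ℤ) (hv : ∀ j, |v j| ≤ B) (i : Fin 78) :
    |(toMat (sp x) *ᵥ (fun j : Fin 78 => v j)) i| ≤ 16 * B := by
  have hB : 0 ≤ B := (abs_nonneg _).trans (hv 0)
  rw [mulVec_eq]
  have h := row_ok x i
  simp only [rowOk, Bool.and_eq_true, List.all_eq_true, decide_eq_true_eq] at h
  exact (row_bd _ v B hv).trans (mul_le_mul_of_nonneg_right h.2 hB)

theorem mulVec_bd (x : Fi22.Gen) (v : Fin 78 → ℤ) (B : ℤ) (hv : ∀ j, |v j| ≤ B) (i : Fin 78) :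
    |(toMat (sp x) *ᵥ v) i| ≤ 16 * B := by
  have hB : 0 ≤ B := (abs_nonneg _).trans (hv 0)
  obtain ⟨u, hu, e⟩ : ∃ u : ℕ → ℤ, (∀ j, |u j| ≤ B) ∧ v = fun j : Fin 78 => u j := by
    refine ⟨fun n : ℕ => if h : n < 78 then v ⟨n, h⟩ else 0, fun j => ?_, ?_⟩
    · by_cases hj : j < 78
      · simp only [hj, dif_pos]; exact hv _
      · simp only [hj, dif_neg, not_false_eq_true, abs_zero]; exact hB
    · funext j; simp [j.2]
  rw [e]
  exact mulVec_bd' x u B hu i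

def W (w : List Fi22.Gen) : Matrix (Fin 78) (Fin 78) ℤ := (w.map (fun x => toMat (sp x))).prod

theorem W_bd (w : List Fi22.Gen) (i j : Fin 78) : |W w i j| ≤ 16 ^ w.length := by
  induction w generalizing i with
  | nil =>
    simp only [W, List.map_nil, List.prod_nil, List.length_nil, pow_zero, Matrix.one_apply]
    split_ifs <;> simp
  | cons x w ih =>
    have : W (x :: w) i j = (toMat (sp x) *ᵥ (fun k => W w k j)) i := by
      simp only [W, List.map_cons, List.prod_cons]; rfl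
    rw [this, List.length_cons, pow_succ']
    exact mulVec_bd x _ _ ih i

def fN {α : Type} (n : ℕ) (k : ℕ → α) : α := Nat.casesOn n (k 0) (fun m => k (Nat.succ m))
theorem fN_eq {α : Type} (n : ℕ) (k : ℕ → α) : fN n k = k n := by cases n <;> rfl
def fZ {α : Type} (z : ℤ) (k : ℤ → α) : α :=
  Int.casesOn z (fun n => fN n (fun m => k (Int.ofNat m))) (fun n => fN n (fun m => k (Int.negSucc m)))
theorem fZ_eq {α : Type} (z : ℤ) (k : ℤ → α) : fZ z k = k z := by cases z <;> simp [fZ, fN_eq]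
noncomputable def fL {α : Type} (l : List ℤ) : (List ℤ → α) → α :=
  List.rec (fun k => k []) (fun z _ ih k => fZ z (fun y => ih (fun m => k (y :: m)))) l
theorem fL_eq {α : Type} (l : List ℤ) (k : List ℤ → α) : fL l k = k l := by
  induction l generalizing k with
  | nil => rfl
  | cons z l ih => exact (fZ_eq z (fun y => fL l (fun m => k (y :: m)))).trans (ih (fun m => k (z :: m)))

noncomputable def nth (l : List ℤ) : ℕ → ℤ :=
  List.rec (fun _ => 0) (fun a _ ih n => Nat.casesOn n a ih) l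
theorem nth_eq (l : List ℤ) (n : ℕ) : nth l n = l.getD n 0 := by
  induction l generalizing n with
  | nil => rfl
  | cons a l ih => cases n with
    | zero => rfl
    | succ n => exact ih n
noncomputable def dot (v : List ℤ) (r : List (ℕ × ℤ)) : ℤ :=
  List.rec (Int.ofNat 0) (fun p _ ih => Int.add (Int.mul p.2 (nth v p.1)) ih) r
theorem dot_eq (v : List ℤ) (r : List (ℕ × ℤ)) : dot v r = (r.map (fun p => p.2 * v.getD p.1 0)).sum := by
  induction r with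
  | nil => rfl
  | cons p r ih =>
    rw [List.map_cons, List.sum_cons, ← ih, ← nth_eq]; rfl
noncomputable def app (s : List (List (ℕ × ℤ))) (v : List ℤ) : List ℤ := s.map (dot v)

theorem app_getD (s : List (List (ℕ × ℤ))) (v : List ℤ) (i : ℕ) :
    (app s v).getD i 0 = ((s.getD i []).map (fun p => p.2 * v.getD p.1 0)).sum := by
  rcases lt_or_ge i s.length with hi | hi
  · rw [List.getD_eq_getElem _ _ hi, List.getD_eq_getElem _ _ (by simpa [app] using hi)]; simp [app, dot_eq]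
  · rw [List.getD_eq_default _ _ hi, List.getD_eq_default _ _ (by simpa [app] using hi)]; rfl

/-- apply the letters of `w` one after the other (so the matrix is that of the reversed word), dividing by 4 -/
noncomputable def apps (w : List Fi22.Gen) : List ℤ → List ℤ :=
  List.rec (fun v => v) (fun x _ ih v => fL (app (sp x) v) (fun u => fL (u.map (fun z => Int.ediv z (Int.ofNat 4)))
    (fun t => cond (t.map (fun z => Int.mul (Int.ofNat 4) z) == u) (ih t) []))) w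

theorem apps_cons (x : Fi22.Gen) (w : List Fi22.Gen) (v : List ℤ) (h : apps (x :: w) v ≠ []) :
    ∃ t : List ℤ, t.map (fun z => 4 * z) = app (sp x) v ∧ apps (x :: w) v = apps w t := by
  have e : apps (x :: w) v = fL (app (sp x) v) (fun u => fL (u.map (fun z => Int.ediv z (Int.ofNat 4)))
    (fun t => cond (t.map (fun z => Int.mul (Int.ofNat 4) z) == u) (apps w t) [])) := rfl
  rw [fL_eq, fL_eq] at e
  refine ⟨(app (sp x) v).map (fun z => Int.ediv z (Int.ofNat 4)), ?_⟩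
  rw [e] at h ⊢
  cases hc : (((app (sp x) v).map (fun z => Int.ediv z (Int.ofNat 4))).map (fun z => Int.mul (Int.ofNat 4) z) == app (sp x) v)
  · rw [hc] at h; exact absurd rfl h
  · exact ⟨beq_iff_eq.1 hc, rfl⟩

theorem getD_map4 (t : List ℤ) (i : ℕ) : (t.map (fun z => 4 * z)).getD i 0 = 4 * t.getD i 0 := by
  induction t generalizing i with
  | nil => simp
  | cons a t ih => cases i with
    | zero => rfl
    | succ i => exact ih i

theorem apps_eq (w : List Fi22.Gen) (v : List ℤ) (h : apps w v ≠ []) :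
    (4 : ℤ) ^ w.length • (fun j : Fin 78 => (apps w v).getD j 0) = W w.reverse *ᵥ (fun j : Fin 78 => v.getD j 0) := by
  induction w generalizing v with
  | nil => simp [apps, W]
  | cons x w ih =>
    obtain ⟨t, ht, e⟩ := apps_cons x w v h
    rw [e] at h ⊢
    have : W (x :: w).reverse = W w.reverse * toMat (sp x) := by simp [W]
    rw [this, ← Matrix.mulVec_mulVec, List.length_cons, pow_succ', mul_smul, ih t h, ← Matrix.mulVec_smul]
    congr 1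
    funext i
    rw [mulVec_eq x (fun n => v.getD n 0), ← app_getD, ← ht, getD_map4]; rfl

theorem digits_zero : ∀ (n : ℕ) (a : Fin n → ℤ) (X : ℤ), (∀ j, |a j| < X) → ∑ j, a j * X ^ (j : ℕ) = 0 → ∀ j, a j = 0
  | 0, _, _, _, _ => fun j => j.elim0
  | n + 1, a, X, ha, h => by
    have hX : 0 < X := (abs_nonneg _).trans_lt (ha 0)
    rw [Fin.sum_univ_succ] at h
    simp only [Fin.val_zero, pow_zero, mul_one, Fin.val_succ, pow_succ, ← mul_assoc, ← Finset.sum_mul] at h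
    have h0 : a 0 = 0 := Int.eq_zero_of_abs_lt_dvd ⟨-(∑ j : Fin n, a j.succ * X ^ (j : ℕ)), by linear_combination h⟩ (ha 0)
    rw [h0, zero_add] at h
    have h1 := digits_zero n (fun j => a j.succ) X (fun j => ha _) ((mul_eq_zero.1 h).resolve_right hX.ne')
    intro j
    refine Fin.cases h0 h1 j

def pws (X : ℕ) : List ℤ := (List.range 78).map (fun j => Int.ofNat (64 * X ^ j))
theorem pws_getD (X : ℕ) (j : Fin 78) : (pws X).getD j 0 = 64 * (X : ℤ) ^ (j : ℕ) := by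
  rw [List.getD_eq_getElem _ _ (by simp [pws])]; simp [pws]

noncomputable def chk (w : List Fi22.Gen) : Bool :=
  fN (2 * 16 ^ w.length + 11400714819323198485) (fun X => fL (pws X) (fun v => apps w.reverse v == v))

theorem W_eq {w : List Fi22.Gen} (h : chk w = true) : W w = (4 : ℤ) ^ w.length • (1 : Matrix (Fin 78) (Fin 78) ℤ) := by
  rw [chk, fN_eq, fL_eq, beq_iff_eq] at h
  have e := apps_eq w.reverse (pws (2 * 16 ^ w.length + 11400714819323198485)) (by rw [h]; simp [pws])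
  rw [h, List.reverse_reverse, List.length_reverse] at e
  ext i j
  rw [← sub_eq_zero]
  refine digits_zero 78 (fun j => W w i j - ((4 : ℤ) ^ w.length • (1 : Matrix (Fin 78) (Fin 78) ℤ)) i j)
    ((2 * 16 ^ w.length + 11400714819323198485 : ℕ) : ℤ) (fun j => ?_) ?_ j
  · have h1 := W_bd w i j
    have h2 : |((4 : ℤ) ^ w.length • (1 : Matrix (Fin 78) (Fin 78) ℤ)) i j| ≤ 16 ^ w.length := by
      have : (4 : ℤ) ^ w.length ≤ 16 ^ w.length := pow_le_pow_left₀ (by norm_num) (by norm_num) _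
      rw [Matrix.smul_apply, Matrix.one_apply]
      split_ifs
      · rw [smul_eq_mul, mul_one, abs_of_nonneg (by positivity)]; exact this
      · simp
    have h3 := abs_sub (W w i j) (((4 : ℤ) ^ w.length • (1 : Matrix (Fin 78) (Fin 78) ℤ)) i j)
    push_cast
    linarith
  · generalize (2 * 16 ^ w.length + 11400714819323198485 : ℕ) = X at e
    have e1 := congrFun e i
    simp only [pws_getD, Matrix.mulVec, dotProduct, Pi.smul_apply, smul_eq_mul] at e1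
    have e2 : ∑ j : Fin 78, W w i j * (64 * (X : ℤ) ^ (j : ℕ)) = 64 * ∑ j : Fin 78, W w i j * (X : ℤ) ^ (j : ℕ) := by
      rw [Finset.mul_sum]; exact Finset.sum_congr rfl (fun j _ => by ring)
    have e3 : ∑ j : Fin 78, ((4 : ℤ) ^ w.length • (1 : Matrix (Fin 78) (Fin 78) ℤ)) i j * (X : ℤ) ^ (j : ℕ) =
        4 ^ w.length * (X : ℤ) ^ (i : ℕ) := by
      rw [Finset.sum_eq_single i]
      · simp
      · intro b _ hb; simp [Matrix.one_apply_ne hb.symm]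
      · simp
    simp only [sub_mul, Finset.sum_sub_distrib]
    rw [e3]
    rw [e2] at e1
    linarith

noncomputable def Mz (x : Fi22.Gen) : Matrix (Fin 78) (Fin 78) (ZMod 13) :=
  (10 : ZMod 13) • (Int.castRingHom (ZMod 13)).mapMatrix (toMat (sp x))

theorem Mz_prod (w : List Fi22.Gen) :
    (w.map Mz).prod = (10 : ZMod 13) ^ w.length • (Int.castRingHom (ZMod 13)).mapMatrix (W w) := by
  induction w with
  | nil => simp [W]
  | cons x w ih =>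
    have : W (x :: w) = toMat (sp x) * W w := by simp [W]
    rw [List.map_cons, List.prod_cons, ih, this, map_mul, Mz, smul_mul_smul_comm, List.length_cons, pow_succ']

theorem Mz_one {w : List Fi22.Gen} (h : chk w = true) : (w.map Mz).prod = 1 := by
  rw [Mz_prod, W_eq h, map_zsmul, map_one, ← Int.cast_smul_eq_zsmul (ZMod 13), smul_smul]
  have : (10 : ZMod 13) ^ w.length * (((4 : ℤ) ^ w.length : ℤ) : ZMod 13) = 1 := by
    rw [Int.cast_pow, ← mul_pow]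
    have : (10 : ZMod 13) * ((4 : ℤ) : ZMod 13) = 1 := by decide
    rw [this, one_pow]
  rw [this, one_smul]

def rep : ℕ → List Fi22.Gen → List Fi22.Gen
  | 0, _ => []
  | n + 1, w => w ++ rep n w

theorem cox : gens.all (fun x => gens.all (fun y => chk (rep (coxLabel Fi22.edges x y) [x, y]))) = true := by decide +kernel
theorem r1 : chk (rep 10 [.d, .c, .b, .d, .e, .f, .d, .h, .i]) = true := by decide +kernel
theorem r2 : chk (rep 9 [.a, .b, .c, .d, .e, .f, .h]) = true := by decide +kernel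
theorem r3 : chk (rep 9 [.b, .c, .d, .e, .f, .g, .h]) = true := by decide +kernel

theorem cox' (x y : Fi22.Gen) : chk (rep (coxLabel Fi22.edges x y) [x, y]) = true :=
  List.all_eq_true.1 (List.all_eq_true.1 cox x (mem_gens x)) y (mem_gens y)

theorem Mz_sq (x : Fi22.Gen) : Mz x * Mz x = 1 := by
  have h := Mz_one (cox' x x)
  simpa [coxLabel, rep] using h

noncomputable def gl (x : Fi22.Gen) : GL (Fin 78) (ZMod 13) := ⟨Mz x, Mz x, Mz_sq x, Mz_sq x⟩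

theorem gl_pow {n : ℕ} {w : List Fi22.Gen} (h : chk (rep n w) = true) : (w.map gl).prod ^ n = 1 := by
  have e : ∀ m, (w.map gl).prod ^ m = ((rep m w).map gl).prod := by
    intro m
    induction m with
    | zero => simp [rep]
    | succ m ih => rw [pow_succ', ih, rep, List.map_append, List.prod_append]
  rw [e]
  apply Units.ext
  have : ∀ u : List Fi22.Gen, (((u.map gl).prod : GL (Fin 78) (ZMod 13)) : Matrix (Fin 78) (Fin 78) (ZMod 13)) = (u.map Mz).prod := by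
    intro u
    induction u with
    | nil => simp
    | cons x u ih => rw [List.map_cons, List.prod_cons, Units.val_mul, ih]; rfl
  rw [this, Mz_one h]; rfl

theorem rels : ∀ r ∈ coxRelators Fi22.edges ∪ {r | r ∈ Fi22.extra}, FreeGroup.lift gl r = 1 := by
  rintro r (⟨x, -, y, -, rfl⟩ | hr)
  · simpa using gl_pow (cox' x y)
  · simp only [Fi22.extra, Set.mem_ofPred_eq, List.mem_cons, List.not_mem_nil, or_false] at hr
    rcases hr with rfl | rfl | rfl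
    · simpa [mul_assoc] using gl_pow r1
    · simpa [mul_assoc] using gl_pow r2
    · simpa [mul_assoc] using gl_pow r3

noncomputable def ρ : Cfsg.Spor.Fi22 →* GL (Fin 78) (ZMod 13) := PresentedGroup.toGroup rels

theorem ρ_inj : Function.Injective ρ := by
  have := H15.Fi22.simple
  rw [← MonoidHom.ker_eq_bot_iff]
  rcases (inferInstance : ρ.ker.Normal).eq_bot_or_eq_top with h | h
  · exact h
  · exfalso
    have h1 : ρ (PresentedGroup.of Fi22.Gen.a) = 1 := by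
      rw [← MonoidHom.mem_ker, h]; trivial
    rw [ρ, PresentedGroup.toGroup.of] at h1
    have h2 : Mz .a 22 22 = (1 : Matrix (Fin 78) (Fin 78) (ZMod 13)) 22 22 := by
      rw [show Mz .a = 1 from congrArg Units.val h1]
    have h3 : toMat (sp .a) 22 22 = -4 := by decide +kernel
    simp only [Mz, Matrix.smul_apply, RingHom.mapMatrix_apply, Matrix.map_apply, h3, Matrix.one_apply_eq] at h2
    revert h2; decide

end Cfsg.Agent.L1F78
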