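import Cfsg.Agent.H25.M23
import Cfsg.Agent.H25.BT
set_option autoImplicit false
set_option maxRecDepth 100000
set_option exponentiation.threshold 400

/-! Extensions of eleven-dimensional modules by M₂₃: identities among the relators of a presentation. -/

namespace Cfsg.Agent.L1H2
open Cfsg.Agent.H14 (gC comp tabulate lin two isPerm allLt A24 S23 word bitN)
open Cfsg.Agent.H25 Cfsg.Agent.H25.M23 Finset

abbrev Wd := GolayPt → ZMod 2

theorem aa (w : Wd) : w + w = 0 := funext fun p => CharTwo.add_self_eq_zero (w p)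

def dot (n : ℕ) (W : ℕ → ZMod 2) (m : ℕ) : ZMod 2 := ∑ j ∈ range n, if m.testBit j then W j else 0

theorem dot_zero (n : ℕ) (W : ℕ → ZMod 2) : dot n W 0 = 0 := by simp [dot]

theorem dot_xor (n : ℕ) (W : ℕ → ZMod 2) (a b : ℕ) : dot n W (a ^^^ b) = dot n W a + dot n W b := by
  rw [dot, dot, dot, ← sum_add_distrib]
  refine sum_congr rfl fun j _ => ?_
  rw [Nat.testBit_xor]
  cases a.testBit j <;> cases b.testBit j <;> simp [CharTwo.add_self_eq_zero]

theorem dot_two {n k : ℕ} (W : ℕ → ZMod 2) (h : k < n) : dot n W (two k) = W k := by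
  simp [dot, H14.testBit_two, h]

theorem dot_congr {n : ℕ} {W W' : ℕ → ZMod 2} (h : ∀ j < n, W j = W' j) (m : ℕ) : dot n W m = dot n W' m :=
  sum_congr rfl fun j hj => by rw [h j (mem_range.1 hj)]

theorem dot_lin (n : ℕ) (W : ℕ → ZMod 2) (f : ℕ → ℕ) (k m : ℕ) :
    dot n W (lin f k m) = dot k (fun j => dot n W (f j)) m := by
  induction k with
  | zero => exact dot_zero _ _
  | succ k ih =>
    rw [H14.lin_succ, dot_xor, ih, dot, dot, dot, sum_range_succ]
    cases m.testBit k <;> simp [dot]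

theorem dot_bit (n : ℕ) (W : ℕ → ZMod 2) (m i e : ℕ) :
    dot n W (Nat.mul (bitN m i) e) = dot n W e * (if m.testBit i then 1 else 0) := by
  rw [H14.bitN_eq]
  cases m.testBit i
  · simpa using dot_zero n W
  · simp

/-- the scalar product with a mask -/
def ip (c : ℕ) (w : Wd) : ZMod 2 := dot 24 (fun i => w (gC.pt i)) c

theorem ip_add (c : ℕ) (w w' : Wd) : ip c (w + w') = ip c w + ip c w' := by
  rw [ip, ip, ip, dot, dot, dot, ← sum_add_distrib]
  refine sum_congr rfl fun j _ => ?_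
  cases c.testBit j <;> simp

theorem ip_smul (c : ℕ) (s : ZMod 2) (w : Wd) : ip c (s • w) = s * ip c w := by
  rw [ip, ip, dot, dot, mul_sum]
  refine sum_congr rfl fun j _ => ?_
  cases c.testBit j <;> simp

theorem ip_zero (c : ℕ) : ip c 0 = 0 := by simp [ip, dot]

def emb (BT : ℕ) (c : ℕ → ZMod 2) : Wd := fun p => dot 11 c (H14.get 11 BT (gC.idx p))

def act (x : G0) (w : Wd) : Wd := w ∘ ⇑((x : Equiv.Perm GolayPt)⁻¹)

/-! ### tables -/

def Ok (X : ℕ) : Prop := isPerm 24 5 X = true ∧ gC.perm 5 X ∈ Spor.M23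

open Classical in
noncomputable def el (X : ℕ) : G0 := if h : gC.perm 5 X ∈ Spor.M23 then (⟨_, h⟩ : G0)⁻¹ else 1

theorem el_inv {X : ℕ} (h : Ok X) : ((el X : G0) : Equiv.Perm GolayPt)⁻¹ = gC.perm 5 X := by
  rw [el, dif_pos h.2]; simp

noncomputable def okb (X : ℕ) : Bool := band (A24.okb X) (S23.test X)

theorem ok_of {X : ℕ} (h : okb X = true) : Ok X := by
  rw [okb, band_eq, Bool.and_eq_true] at h
  have b1 := H14.A24_ok h.1
  refine ⟨H14.A24_isPerm b1, ?_⟩
  rw [← K23, ← H14.A24_el_coe b1]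
  exact Subgroup.mem_map_of_mem _ ((S23.test_iff _ b1).1 h.2)

noncomputable def tb (a : ℕ) : ℕ := gd 0 Ts a

theorem ok_tb {a : ℕ} (ha : a < 7) : Ok (tb a) :=
  ok_of (H14.allLt_iff.1 (show allLt 7 (fun a => okb (tb a)) = true by decide +kernel) a ha)

theorem g_eq {a : ℕ} (ha : a < 7) : g a = el (tb a) := by
  rw [g, mg, el, dif_pos ⟨ha, (ok_tb ha).2⟩, dif_pos (ok_tb ha).2]; rfl

theorem step {X a : ℕ} (h : Ok X) (ha : a < 7) :
    Ok (comp 24 5 (tb a) X) ∧ el (comp 24 5 (tb a) X) = el X * g a := by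
  have e := gC.perm_comp (ok_tb ha).1 h.1
  have h1 : Ok (comp 24 5 (tb a) X) := ⟨gC.isPerm_comp (ok_tb ha).1 h.1, by
    rw [show gC.perm 5 (comp 24 5 (tb a) X) = _ from e]; exact mul_mem (ok_tb ha).2 h.2⟩
  refine ⟨h1, Subtype.ext (inv_injective ?_)⟩
  rw [el_inv h1, g_eq ha, Subgroup.coe_mul, mul_inv_rev, el_inv h, el_inv (ok_tb ha)]
  exact e

def ID : ℕ := 0xbdab49ca307b9ac5a928398a418820

theorem ok_ID : Ok ID := ok_of (by decide +kernel)

theorem el_ID : el ID = 1 := Subtype.ext (inv_injective (by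
  rw [el_inv ok_ID, (gC.perm_eq_one_iff ok_ID.1).2 (by decide +kernel)]; simp))

theorem act_pt {X i : ℕ} (h : Ok X) (hi : i < 24) (w : Wd) : act (el X) w (gC.pt i) = w (gC.pt (H14.get 5 X i)) := by
  rw [act, Function.comp_apply, el_inv h, gC.perm_pt h.1 hi]

/-! ### matrices -/

def mat (W : ℕ → ZMod 2) (A : ℕ) : Wd := fun p => dot 384 W (H14.get 384 A (gC.idx p))

theorem mat_xor (W : ℕ → ZMod 2) (A B : ℕ) : mat W (Nat.xor A B) = mat W A + mat W B :=
  funext fun p => by
    show dot 384 W (H14.get 384 (A ^^^ B) _) = _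
    rw [H14.get_xor, dot_xor]; rfl

theorem mat_zero (W : ℕ → ZMod 2) : mat W 0 = 0 := by
  have := mat_xor W 0 0
  rw [aa] at this; exact this

theorem mat_tab (W : ℕ → ZMod 2) {f : ℕ → ℕ} (hf : ∀ i < 24, f i < 2 ^ 384) (p : GolayPt) :
    mat W (tabulate 24 384 f) p = dot 384 W (f (gC.idx p)) := by
  rw [mat, H14.get_tabulate hf (gC.idx_lt p)]

noncomputable def prm (X A : ℕ) : ℕ := tabulate 24 384 (fun i => H14.get 384 A (H14.get 5 X i))

theorem mat_prm (W : ℕ → ZMod 2) {X : ℕ} (h : Ok X) (A : ℕ) : mat W (prm X A) = act (el X) (mat W A) :=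
  funext fun p => by
    rw [prm, mat_tab W fun _ _ => H14.get_lt _ _ _, ← gC.pt_idx p, act_pt h (gC.idx_lt p), mat,
      gC.idx_pt _ (H14.isPerm_lt h.1 (gC.idx_lt p)), gC.pt_idx]

noncomputable def mkM (BT F : ℕ) : ℕ := tabulate 24 384 (fun i => lin (H14.get 384 F) 11 (H14.get 11 BT i))

theorem mat_mk (W : ℕ → ZMod 2) (BT F : ℕ) : mat W (mkM BT F) = emb BT (fun j => dot 384 W (H14.get 384 F j)) :=
  funext fun p => by
    rw [mkM, mat_tab W fun _ _ => H14.lin_lt _ _ _ _ fun _ _ => H14.get_lt _ _ _, dot_lin]; rfl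

/-- redundant low bits -/
def rnd (n : ℕ) : ℕ := H14.get 64 (Nat.pow 0x9E3779B97F4A7C15 (Nat.succ n)) 0

theorem dot_rnd {W : ℕ → ZMod 2} (h : ∀ j < 64, W j = 0) (n : ℕ) : dot 384 W (rnd n) = 0 :=
  sum_eq_zero fun j _ => by
    by_cases hj : j < 64
    · simp [h j hj]
    · simp [rnd, H14.testBit_get, hj]

noncomputable def U (BT r : ℕ) : ℕ := mkM BT (tabulate 11 384 fun j =>
  Nat.xor (two (Nat.add 64 (Nat.add (Nat.mul 11 r) j))) (rnd (Nat.add (Nat.mul 11 r) j)))

theorem mat_U {W : ℕ → ZMod 2} (h : ∀ j < 64, W j = 0) (BT : ℕ) {r : ℕ} (hr : r < 29) :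
    mat W (U BT r) = emb BT (fun j => W (64 + (11 * r + j))) := by
  rw [U, mat_mk]
  funext p
  refine dot_congr (fun j hj => ?_) _
  rw [H14.get_tabulate (f := fun j => Nat.xor (two (Nat.add 64 (Nat.add (Nat.mul 11 r) j))) (rnd (Nat.add (Nat.mul 11 r) j)))
    (fun i hi => Nat.xor_lt_two_pow (by
    rw [H14.two_eq]; exact Nat.pow_lt_pow_right (by norm_num) (show 64 + (11 * r + i) < 384 by omega))
    ((H14.get_lt 64 _ _).trans (by norm_num))) hj]
  exact (dot_xor _ _ _ _).trans (by rw [dot_rnd h, add_zero]; exact dot_two W (show 64 + (11 * r + j) < 384 by omega))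

noncomputable def Us (BT : ℕ) : List ℕ := (List.range 29).map (U BT)

theorem Us_gd (BT : ℕ) {r : ℕ} (hr : r < 29) : gd 0 (Us BT) r = U BT r := by
  simp [gd_eq, Us, hr]

noncomputable def Cm (e m : ℕ) : ℕ := tabulate 24 384 (fun i => Nat.mul (bitN m i) (H14.get 384 e 0))

theorem mat_Cm (W : ℕ → ZMod 2) (e m : ℕ) : mat W (Cm e m) = dot 384 W (H14.get 384 e 0) • word m :=
  funext fun p => by
    rw [Cm, mat_tab W fun i _ => ?_, dot_bit]; · rfl
    rw [H14.bitN_eq]
    cases m.testBit i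
    · simp
    · simpa using H14.get_lt 384 e 0

noncomputable def row (c A : ℕ) : ℕ := lin (H14.get 384 A) 24 c

theorem ip_mat (W : ℕ → ZMod 2) (c A : ℕ) : ip c (mat W A) = dot 384 W (row c A) := by
  rw [row, dot_lin, ip]
  exact dot_congr (fun j hj => by rw [mat, gC.idx_pt j hj]) c

/-! ### elimination -/

noncomputable def red (B : List ℕ) (v : ℕ) : ℕ :=
  List.rec v (fun b _ ih => force ih fun u => Nat.xor u (Nat.mul (bitN u (Nat.log2 b)) b)) B

theorem dot_red {W : ℕ → ZMod 2} {B : List ℕ} (h : ∀ b ∈ B, dot 384 W b = 0) (v : ℕ) : dot 384 W (red B v) = dot 384 W v := by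
  induction B with
  | nil => rfl
  | cons b B ih =>
    show dot 384 W (force (red B v) fun u => Nat.xor u (Nat.mul (bitN u (Nat.log2 b)) b)) = _
    rw [force_eq]
    show dot 384 W (_ ^^^ _) = _
    rw [dot_xor, dot_bit, h b (by simp), ih fun c hc => h c (by simp [hc])]; simp

/-- add the rows `row c A`, `c ∈ ts`, to the list `B` and continue -/
noncomputable def ins (ts : List ℕ) (A : ℕ) (k : List ℕ → Bool) : List ℕ → Bool :=
  List.rec k (fun c _ ih B => force (red B (row c A)) fun u => Bool.rec (ih (u :: B)) (ih B) (Nat.beq u 0)) ts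

theorem ins_spec {W : ℕ → ZMod 2} {ts : List ℕ} {A : ℕ} {k : List ℕ → Bool} (hA : ∀ c ∈ ts, ip c (mat W A) = 0)
    {B : List ℕ} (hB : ∀ b ∈ B, dot 384 W b = 0) (h : ins ts A k B = true) : ∃ B', (∀ b ∈ B', dot 384 W b = 0) ∧ k B' = true := by
  induction ts generalizing B with
  | nil => exact ⟨B, hB, h⟩
  | cons c ts ih =>
    have h' : (force (red B (row c A)) fun u => Bool.rec (ins ts A k (u :: B)) (ins ts A k B) (Nat.beq u 0)) = true := h
    rw [force_eq] at h'
    cases e : Nat.beq (red B (row c A)) 0 <;> rw [e] at h'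
    · refine ih (fun d hd => hA d (by simp [hd])) (fun b hb => ?_) h'
      rcases List.mem_cons.1 hb with rfl | hb
      · rw [dot_red hB, ← ip_mat, hA c (by simp)]
      · exact hB b hb
    · exact ih (fun d hd => hA d (by simp [hd])) hB h'

noncomputable def insL (ts : List ℕ) (As : List ℕ) (k : List ℕ → Bool) : List ℕ → Bool :=
  List.rec k (fun A _ ih B => force A fun A' => ins ts A' ih B) As

theorem insL_spec {W : ℕ → ZMod 2} {ts As : List ℕ} {k : List ℕ → Bool} (hA : ∀ A ∈ As, ∀ c ∈ ts, ip c (mat W A) = 0)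
    {B : List ℕ} (hB : ∀ b ∈ B, dot 384 W b = 0) (h : insL ts As k B = true) : ∃ B', (∀ b ∈ B', dot 384 W b = 0) ∧ k B' = true := by
  induction As generalizing B with
  | nil => exact ⟨B, hB, h⟩
  | cons A As ih =>
    have h' : (force A fun A' => ins ts A' (insL ts As k) B) = true := h
    rw [force_eq] at h'
    obtain ⟨B', h1, h2⟩ := ins_spec (hA A (by simp)) hB h'
    exact ih (fun A' h => hA A' (by simp [h])) h1 h2

/-! ### two-cycles of the Cayley complex -/

noncomputable def togA (k : ℕ) (L : List ℕ) : List ℕ → Bool → List ℕ :=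
  List.rec (fun acc f => Bool.rec (k :: acc) acc f)
    (fun a _ ih acc f => Bool.rec (ih (a :: acc) f) (ih acc (not f)) (Nat.beq k a)) L

theorem sum_togA (τ : ℕ → Wd) (k : ℕ) (L acc : List ℕ) (f : Bool) :
    ((togA k L acc f).map τ).sum = (L.map τ).sum + (acc.map τ).sum + (if f then 0 else τ k) := by
  induction L generalizing acc f with
  | nil => cases f <;> simp [togA, add_comm]
  | cons a L ih =>
    show ((Bool.rec (togA k L (a :: acc) f) (togA k L acc (not f)) (Nat.beq k a) : List ℕ).map τ).sum = _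
    cases e : Nat.beq k a
    · rw [ih]; simp only [List.map_cons, List.sum_cons]; abel
    · obtain rfl := Nat.eq_of_beq_eq_true e
      rw [ih]; simp only [List.map_cons, List.sum_cons]
      cases f
      · simp only [Bool.not_false, if_true, Bool.false_eq_true, if_false]
        linear_combination (exp := 1) -aa (τ k)
      · simp only [Bool.not_true, if_true, Bool.false_eq_true, if_false]; abel

noncomputable def fl {α : Type} (L : List ℕ) (k : List ℕ → α) : α := List.rec (k []) (fun a t _ => k (a :: t)) L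

theorem fl_eq {α : Type} (L : List ℕ) (k : List ℕ → α) : fl L k = k L := by cases L <;> rfl

noncomputable def walk (r : List ℕ) : ℕ → List ℕ → List ℕ :=
  List.rec (fun _ L => L) (fun a _ ih X L => force (Nat.add (Nat.mul X 8) a) fun k => fl (togA k L [] false) fun L' =>
    force (comp 24 5 (tb a) X) fun X' => ih X' L') r

noncomputable def geo (cy : List ℕ) : List ℕ → Bool :=
  List.rec (fun L => List.rec true (fun _ _ _ => false) L) (fun f _ ih L => force (Nat.shiftRight f 5) fun X =>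
    band (okb X) (band (Nat.blt (Nat.land f 31) 29) (fl (walk (gd [] P (Nat.land f 31)) X L) ih))) cy

noncomputable def cmat (us : List ℕ) (cy : List ℕ) : ℕ :=
  List.rec 0 (fun f _ ih => Nat.xor (prm (Nat.shiftRight f 5) (gd 0 us (Nat.land f 31))) ih) cy

noncomputable def nv (xs : List ℕ) (r : List ℕ) : ℕ → ℕ :=
  List.rec (fun _ => 0) (fun a _ ih X => Nat.xor (prm X (gd 0 xs a)) (force (comp 24 5 (tb a) X) ih)) r

theorem P_spec {r : ℕ} (hr : r < 29) : gd [] P r ∈ P ∧ ∀ a ∈ gd [] P r, a < 7 := by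
  have h : gd [] P r ∈ P := by
    rw [gd_eq, List.getD_eq_getElem _ _ (show r < P.length from hr)]; exact List.getElem_mem _
  exact ⟨h, fun a ha => Nat.blt_eq ▸ H14.allL_iff.1 (H14.allL_iff.1
    (show H14.allL P (fun w => H14.allL w fun a => Nat.blt a 7) = true by decide +kernel) _ h) a ha⟩

theorem P_idx {w : List ℕ} (h : w ∈ P) : ∃ r < 29, gd [] P r = w := by
  obtain ⟨r, hr, rfl⟩ := List.getElem_of_mem h
  exact ⟨r, hr, by rw [gd_eq, List.getD_eq_getElem _ _ hr]⟩

structure Rp {E : Type*} [Group E] (π : E →* G0) (R : E → Wd → Prop) (BT : ℕ) (ts : List ℕ) : Prop where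
  surj : Function.Surjective π
  ex : ∀ x, π x = 1 → ∃ c, R x (emb BT c)
  sur : ∀ c, ∃ x, R x (emb BT c)
  ker : ∀ {x w}, R x w → π x = 1
  mul : ∀ {x y w w'}, R x w → R y w' → R (x * y) (w + w')
  conj : ∀ {x w} (y), R x w → R (y * x * y⁻¹) (act (π y) w)
  test : ∀ {w}, R 1 w → ∀ c ∈ ts, ip c w = 0
  one : ∀ {x w}, R x w → (∀ c ∈ ts, ip c w = 0) → x = 1
  zero : R 1 0

namespace Rp
variable {E : Type*} [Group E] {π : E →* G0} {R : E → Wd → Prop} {BT : ℕ} {ts : List ℕ} (H : Rp π R BT ts)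
  {e : ℕ → E} (he : ∀ a, π (e a) = g a)
include H he

theorem walk_spec {s : G0 → E} {τ : ℕ → Wd}
    (hτ : ∀ k, R (s (el (k / 8)) * e (k % 8) * (s (el (k / 8) * g (k % 8)))⁻¹) (τ k))
    {r : List ℕ} (hr : ∀ a ∈ r, a < 7) {X : ℕ} (hX : Ok X) (L : List ℕ) :
    R (s (el X) * ev e r * (s (el X * ev g r))⁻¹) (((walk r X L).map τ).sum + (L.map τ).sum) := by
  induction r generalizing X L with
  | nil =>
    show R _ ((L.map τ).sum + _)
    rw [aa]; simpa using H.zero
  | cons a r ih =>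
    have ha := hr a (by simp)
    have e1 : walk (a :: r) X L = walk r (comp 24 5 (tb a) X) (togA (X * 8 + a) L [] false) := by
      show (force (Nat.add (Nat.mul X 8) a) fun k => fl (togA k L [] false) fun L' =>
        force (comp 24 5 (tb a) X) fun X' => walk r X' L') = _
      rw [force_eq, fl_eq, force_eq]; rfl
    have h1 := ih (fun b hb => hr b (by simp [hb])) (step hX ha).1 (togA (X * 8 + a) L [] false)
    have h2 := hτ (X * 8 + a)
    rw [show (X * 8 + a) / 8 = X by omega, show (X * 8 + a) % 8 = a by omega] at h2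
    rw [(step hX ha).2, sum_togA] at h1
    have h3 := H.mul h2 h1
    rw [e1]
    convert h3 using 1
    · simp [mul_assoc]
    · simp only [List.map_nil, List.sum_nil, Bool.false_eq_true, if_false]
      linear_combination (exp := 1) -aa (τ (X * 8 + a))

theorem cyc_spec {W : ℕ → ZMod 2} (hW : ∀ r < 29, R (ev e (gd [] P r)) (mat W (U BT r))) {cy : List ℕ}
    (h : geo cy [] = true) : ∀ c ∈ ts, ip c (mat W (cmat (Us BT) cy)) = 0 := by
  choose s hs using H.surj
  have : ∀ k, ∃ w, R (s (el (k / 8)) * e (k % 8) * (s (el (k / 8) * g (k % 8)))⁻¹) w := fun k =>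
    let ⟨_, h⟩ := H.ex _ (by simp [hs, he]); ⟨_, h⟩
  choose τ hτ using this
  have key : ∀ (cy L : List ℕ), geo cy L = true → ∃ z, R z (mat W (cmat (Us BT) cy)) ∧ R z (L.map τ).sum := by
    intro cy
    induction cy with
    | nil =>
      intro L hL
      cases L
      · exact ⟨1, by rw [show cmat (Us BT) [] = 0 from rfl, mat_zero]; exact H.zero, H.zero⟩
      · exact absurd hL (by simp [geo])
    | cons f cy ih =>
      intro L hL
      have h' : (force (Nat.shiftRight f 5) fun X => band (okb X) (band (Nat.blt (Nat.land f 31) 29)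
        (fl (walk (gd [] P (Nat.land f 31)) X L) (geo cy)))) = true := hL
      simp only [force_eq, band_eq, fl_eq, Bool.and_eq_true, Nat.blt_eq] at h'
      obtain ⟨h1, h2, h3⟩ := h'
      obtain ⟨z, a1, a2⟩ := ih _ h3
      have b1 := H.walk_spec he hτ (P_spec h2).2 (ok_of h1) L
      rw [hP _ (P_spec h2).1, mul_one] at b1
      have b2 := H.conj (s (el (Nat.shiftRight f 5))) (hW _ h2)
      rw [hs, ← mat_prm W (ok_of h1), ← Us_gd BT h2] at b2
      refine ⟨_, (mat_xor W _ _).symm ▸ H.mul b2 a1, ?_⟩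
      convert H.mul b1 a2 using 1
      linear_combination (exp := 1) -aa ((walk (gd [] P (Nat.land f 31)) (Nat.shiftRight f 5) L).map τ).sum
  obtain ⟨z, a1, a2⟩ := key cy [] h
  obtain rfl := H.one a2 fun c _ => ip_zero c
  exact H.test a1

theorem nv_spec {W : ℕ → ZMod 2} {xs : List ℕ} {n : ℕ → E} (hn : ∀ a < 7, R (n a) (mat W (gd 0 xs a)))
    {r : List ℕ} (hr : ∀ a ∈ r, a < 7) {X : ℕ} (hX : Ok X) {y : E} (hy : π y = el X) :
    R (y * (ev (fun a => n a * e a) r * (ev e r)⁻¹) * y⁻¹) (mat W (nv xs r X)) := by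
  induction r generalizing X y with
  | nil =>
    rw [show nv xs [] X = 0 from rfl, mat_zero]; simpa using H.zero
  | cons a r ih =>
    have ha := hr a (by simp)
    have e1 : nv xs (a :: r) X = Nat.xor (prm X (gd 0 xs a)) (nv xs r (comp 24 5 (tb a) X)) := by
      show Nat.xor _ (force _ _) = _
      rw [force_eq]; rfl
    have h1 := ih (fun b hb => hr b (by simp [hb])) (step hX ha).1 (y := y * e a) (by rw [map_mul, hy, he, (step hX ha).2])
    have h2 := H.conj y (hn a ha)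
    rw [hy, ← mat_prm W hX] at h2
    rw [e1, mat_xor]
    convert H.mul h2 h1 using 1
    simp [mul_assoc]

theorem nv_one {W : ℕ → ZMod 2} {xs : List ℕ} {n : ℕ → E} (hn : ∀ a < 7, R (n a) (mat W (gd 0 xs a)))
    {r : ℕ} (hr : r < 29) {w : Wd} (hw : R (ev e (gd [] P r)) w) :
    R (ev (fun a => n a * e a) (gd [] P r)) (mat W (nv xs (gd [] P r) ID) + w) := by
  simpa using H.mul (H.nv_spec he hn (P_spec hr).2 ok_ID (y := 1) (by rw [map_one, el_ID])) hw

end Rp

noncomputable def cert (BT : ℕ) (ts : List ℕ) (cys : List (List ℕ)) (Fs : List ℕ) (e : ℕ) (w0 : List ℕ) : Bool :=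
  forceL (Us BT) fun us => forceL (Fs.map (mkM BT)) fun xs => insL ts (cys.map (cmat us)) (fun B =>
    allLt 29 fun r => force (Nat.xor (Nat.xor (nv xs (gd [] P r) ID) (gd 0 us r)) (Cm e (gd 0 w0 r))) fun A =>
      H14.allL ts fun c => Nat.beq (red B (row c A)) 0) []

theorem exists_W {Q : ℕ → (ℕ → ZMod 2) → Prop} (h : ∀ r, ∃ c, Q r c) : ∃ W : ℕ → ZMod 2, W 383 = 1 ∧ (∀ j < 64, W j = 0) ∧
    ∀ r < 29, ∃ c, Q r c ∧ ∀ j < 11, c j = W (64 + (11 * r + j)) := by
  choose c hc using h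
  refine ⟨fun n => if n = 383 then 1 else if n < 64 then 0 else c ((n - 64) / 11) ((n - 64) % 11), if_pos rfl,
    fun j hj => (if_neg (by omega)).trans (if_pos hj), fun r hr => ⟨c r, hc r, fun j hj => ?_⟩⟩
  beta_reduce
  rw [if_neg (by omega), if_neg (by omega), show (64 + (11 * r + j) - 64) / 11 = r by omega,
    show (64 + (11 * r + j) - 64) % 11 = j by omega]

theorem emb_congr (BT : ℕ) {c c' : ℕ → ZMod 2} (h : ∀ j < 11, c j = c' j) : emb BT c = emb BT c' :=
  funext fun _ => dot_congr h _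

theorem Rp.main {E : Type*} [Group E] {π : E →* G0} {R : E → Wd → Prop} {BT : ℕ} {ts : List ℕ} (H : Rp π R BT ts)
    {cys : List (List ℕ)} (hc : H14.allL cys (fun cy => geo cy []) = true) {Fs : List ℕ} (hF : Fs.length = 7) {ε : ℕ} {w0 : List ℕ}
    (h : cert BT ts cys Fs ε w0 = true) : ∃ (e : ℕ → E) (s : ZMod 2), (∀ a, π (e a) = g a) ∧
      ∀ r < 29, ∃ w, R (ev e (gd [] P r)) w ∧ ∀ c ∈ ts, ip c (w + s • word (gd 0 w0 r)) = 0 := by
  choose e he using fun a => H.surj (g a)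
  obtain ⟨W, -, hW0, hW⟩ := exists_W (Q := fun r c => r < 29 → R (ev e (gd [] P r)) (emb BT c)) fun r => by
    by_cases hr : r < 29
    · obtain ⟨c, hc⟩ := H.ex (ev e (gd [] P r)) (by rw [map_ev]; simp only [he]; exact hP _ (P_spec hr).1)
      exact ⟨c, fun _ => hc⟩
    · exact ⟨0, fun h => absurd h hr⟩
  have hW' : ∀ r < 29, R (ev e (gd [] P r)) (mat W (U BT r)) := fun r hr => by
    obtain ⟨c, h1, h2⟩ := hW r hr
    rw [mat_U hW0 BT hr, ← emb_congr BT h2]; exact h1 hr
  simp only [cert, forceL_eq] at h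
  obtain ⟨B, hB, h⟩ := insL_spec (W := W) (fun A hA => by
    obtain ⟨cy, h1, rfl⟩ := List.mem_map.1 hA
    exact H.cyc_spec he hW' (H14.allL_iff.1 hc cy h1)) (by simp) h
  choose n hn using fun a => H.sur fun j => dot 384 W (H14.get 384 (gd 0 Fs a) j)
  have hn' : ∀ a < 7, R (n a) (mat W (gd 0 (Fs.map (mkM BT)) a)) := fun a ha => by
    have : gd 0 (Fs.map (mkM BT)) a = mkM BT (gd 0 Fs a) := by simp [gd_eq, hF, ha]
    rw [this, mat_mk]; exact hn a
  refine ⟨fun a => n a * e a, dot 384 W (H14.get 384 ε 0), fun a => by rw [map_mul, H.ker (hn a), he, one_mul],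
    fun r hr => ⟨_, H.nv_one he hn' hr (hW' r hr), fun c hc => ?_⟩⟩
  have := H14.allLt_iff.1 h r hr
  rw [force_eq] at this
  have := H14.nbeq_iff.1 (H14.allL_iff.1 this c hc)
  rw [← mat_Cm, ← Us_gd BT hr, ← mat_xor, ← mat_xor, ip_mat, ← dot_red hB, this, dot_zero]

noncomputable def certN (BT : ℕ) (ts : List ℕ) (w0 : List ℕ) : Bool :=
  forceL (Us BT) fun us => insL ts ((List.range 29).map fun r =>
    Nat.xor (nv us (gd [] P r) ID) (Cm (two 383) (gd 0 w0 r))) (fun B => Nat.beq (red B (two 383)) 0) []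

theorem Rp.nonsplit {E : Type*} [Group E] {π : E →* G0} {R : E → Wd → Prop} {BT : ℕ} {ts : List ℕ} (H : Rp π R BT ts)
    {w0 : List ℕ} (h : certN BT ts w0 = true) {e : ℕ → E} (he : ∀ a, π (e a) = g a)
    (h0 : ∀ r < 29, R (ev e (gd [] P r)) (word (gd 0 w0 r))) (K : Subgroup E) (h1 : K ⊓ π.ker = ⊥) : K ⊔ π.ker ≠ ⊤ := by
  intro h2
  have : ∀ a, ∃ c, ∃ n, n * e a ∈ K ∧ R n (emb BT c) := fun a => by
    have : e a ∈ ((π.ker ⊔ K : Subgroup E) : Set E) := by rw [sup_comm, h2]; trivial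
    rw [Subgroup.normal_mul] at this
    obtain ⟨n, hn, k, hk, e1⟩ := this
    obtain ⟨c, hc⟩ := H.ex n⁻¹ (inv_mem hn)
    exact ⟨c, _, by rw [← e1]; simpa using hk, hc⟩
  obtain ⟨W, hW1, hW0, hW⟩ := exists_W this
  choose! c hc hc' using hW
  choose! n hn hn' using hc
  simp only [certN, forceL_eq] at h
  obtain ⟨B, hB, h⟩ := insL_spec (W := W) (fun A hA => by
    obtain ⟨r, hr, rfl⟩ := List.mem_map.1 hA
    have hr := List.mem_range.1 hr
    have b := H.nv_one he (W := W) (xs := Us BT) (n := n) (fun a ha => by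
      rw [Us_gd BT (by omega), mat_U hW0 BT (by omega), ← emb_congr BT (hc' a (by omega))]; exact hn' a (by omega)) hr (h0 r hr)
    have : ev (fun a => n a * e a) (gd [] P r) ∈ K ⊓ π.ker := ⟨by
      rw [ev]; refine list_prod_mem fun x hx => ?_
      obtain ⟨a, ha, rfl⟩ := List.mem_map.1 hx
      exact hn a (((P_spec hr).2 a ha).trans (by norm_num)), H.ker b⟩
    rw [h1, Subgroup.mem_bot] at this
    rw [this] at b
    rw [mat_xor, mat_Cm, show H14.get 384 (two 383) 0 = two 383 by decide +kernel, dot_two W (by norm_num), hW1, one_smul]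
    exact H.test b) (by simp) h
  have := dot_red hB (two 383)
  rw [H14.nbeq_iff.1 h, dot_zero, dot_two W (by norm_num), hW1] at this
  exact zero_ne_one this

theorem rel0 {Γ : Type*} [Group Γ] [Finite Γ] (σ : Γ →* G0) (x : ℕ → Γ) (hx : ∀ a, σ (x a) = g a)
    (hr : ∀ w ∈ P, ev x w = 1) : Lc 127 x ⊓ σ.ker = ⊥ := by
  let f : Shrink.{0} Γ ≃* Γ := Shrink.mulEquiv
  have : Finite (Shrink.{0} Γ) := Finite.of_equiv _ f.symm.toEquiv
  have h := relP (Shrink.{0} Γ) (σ.comp f.toMonoidHom) (fun a => f.symm (x a)) ⊥ (fun a => by simp [hx]) bot_le bot_le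
    (fun w hw => by
      have := map_ev f.symm.toMonoidHom x w
      rw [hr w hw, map_one] at this
      exact this.symm)
    (inf_le_left.trans (Lc_le.2 fun a ha => by simp at ha))
  rw [eq_bot_iff]
  rintro y ⟨h1, h2⟩
  rw [← Lc_map f.toMonoidHom 127 (fun a => f.symm (x a)) (g := x) (fun a => by simp)] at h1
  obtain ⟨z, hz, rfl⟩ := h1
  have : z = 1 := h ⟨hz, h2⟩
  simp [this]

theorem relN {Γ : Type*} [Group Γ] [Finite Γ] (σ : Γ →* G0) (M : Subgroup Γ) [M.Normal] (hM : M ≤ σ.ker) (x : ℕ → Γ)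
    (hx : ∀ a, σ (x a) = g a) (hr : ∀ w ∈ P, ev x w ∈ M) : (Lc 127 x ⊔ M) ⊓ σ.ker ≤ M := by
  have h := rel0 (QuotientGroup.lift M σ hM) (fun a => QuotientGroup.mk' M (x a)) hx
    (fun w hw => by rw [← map_ev]; exact (QuotientGroup.eq_one_iff _).2 (hr w hw))
  rintro y ⟨h1, h2⟩
  have : QuotientGroup.mk' M y ∈ Lc 127 (fun a => QuotientGroup.mk' M (x a)) ⊓ (QuotientGroup.lift M σ hM).ker := by
    refine ⟨?_, h2⟩
    rw [← Lc_map (QuotientGroup.mk' M) 127 x fun _ => rfl]
    refine (show Lc 127 x ⊔ M ≤ ((Lc 127 x).map (QuotientGroup.mk' M)).comap (QuotientGroup.mk' M) from ?_) h1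
    rw [Subgroup.comap_map_eq, QuotientGroup.ker_mk']
  rw [h] at this
  exact (QuotientGroup.eq_one_iff _).1 this

theorem Lc_sup {Γ : Type*} [Group Γ] (σ : Γ →* G0) (x : ℕ → Γ) (hx : ∀ a, σ (x a) = g a) : Lc 127 x ⊔ σ.ker = ⊤ := by
  rw [← Subgroup.comap_map_eq, Lc_map σ 127 x hx, htb.1, Subgroup.comap_top]

end Cfsg.Agent.L1H2
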