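import Cfsg.Agent.L1.H2b
set_option autoImplicit false
set_option maxRecDepth 100000

namespace Cfsg.Agent.L1H2
open Cfsg.Agent.H14 (gC comp tabulate lin two isPerm allLt allLt2 word bitN bw cw syn IsCW img finCoord)
open Cfsg.Agent.H25 Cfsg.Agent.H25.M23 Finset

theorem exists_word (w : Wd) : ∃ m < 2 ^ 24, word m = w := ⟨_, gC.mask_lt _, H14.word_mask w⟩

theorem word_lin (f : ℕ → ℕ) (n m : ℕ) (p : GolayPt) : word (lin f n m) p = dot n (fun j => word (f j) p) m := by
  induction n with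
  | zero => exact congrFun H14.word_zero p
  | succ n ih =>
    rw [H14.lin_succ, H14.word_xor, Pi.add_apply, ih, dot, dot, sum_range_succ]
    cases m.testBit n <;> simp [H14.word_zero]

theorem emb_sum {BT : ℕ} {f : ℕ → ℕ} (h : allLt 24 (fun i => allLt 11 fun j =>
    Nat.beq (bitN (H14.get 11 BT i) j) (bitN (f j) i)) = true) (c : ℕ → ZMod 2) :
    emb BT c = ∑ j ∈ range 11, c j • word (f j) := by
  funext p
  rw [emb, dot, Finset.sum_apply]
  refine sum_congr rfl fun j hj => ?_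
  have := H14.nbeq_iff.1 (H14.allLt_iff.1 (H14.allLt_iff.1 h _ (gC.idx_lt p)) j (mem_range.1 hj))
  rw [H14.bitN_eq, H14.bitN_eq] at this
  rw [Pi.smul_apply, word, smul_eq_mul]
  revert this
  cases (H14.get 11 BT (gC.idx p)).testBit j <;> cases (f j).testBit (gC.idx p) <;> simp

theorem word_emb {BT : ℕ} {f : ℕ → ℕ} (h : allLt 24 (fun i => allLt 11 fun j =>
    Nat.beq (bitN (H14.get 11 BT i) j) (bitN (f j) i)) = true) (m : ℕ) :
    word (lin f 11 m) = emb BT fun j => if m.testBit j then 1 else 0 := by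
  funext p
  rw [emb_sum h, word_lin, dot, Finset.sum_apply]
  refine sum_congr rfl fun j _ => ?_
  cases m.testBit j <;> simp

noncomputable def par (c m : ℕ) : ℕ := lin (bitN m) 24 c

theorem ip_word (c m : ℕ) : ip c (word m) = if (par c m).testBit 0 then 1 else 0 := by
  have : (if (par c m).testBit 0 then 1 else 0 : ZMod 2) = dot 1 (fun _ => 1) (par c m) := by
    rw [dot, sum_range_one]
  rw [this, par, dot_lin, ip]
  refine dot_congr (fun j hj => ?_) c
  rw [word, gC.idx_pt j hj, H14.bitN_eq, dot, sum_range_one]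
  cases m.testBit j <;> simp

theorem ip_lin (c : ℕ) (f : ℕ → ℕ) (n m : ℕ) (h : ∀ j < n, ip c (word (f j)) = 0) : ip c (word (lin f n m)) = 0 := by
  induction n with
  | zero => rw [H14.lin_zero, H14.word_zero, ip_zero]
  | succ n ih =>
    rw [H14.lin_succ, H14.word_xor, ip_add, ih fun j hj => h j (by omega)]
    cases m.testBit n <;> simp [H14.word_zero, ip_zero, h n]

theorem word23 : word (two 23) = Pi.single none 1 := by
  funext p; revert p; decide +kernel

/-- `c` is orthogonal to the code and to the extra point -/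
noncomputable def orth (c : ℕ) : Bool := band (Nat.beq (par c (two 23)) 0) (allLt 12 fun j => Nat.beq (par c (bw j)) 0)

def InK (w : Wd) : Prop := w ∈ golayCode ∨ w + Pi.single none 1 ∈ golayCode

theorem orth_spec {c : ℕ} (h : orth c = true) {w : Wd} (hw : InK w) : ip c w = 0 := by
  rw [orth, band_eq, Bool.and_eq_true] at h
  have h1 : ∀ w ∈ golayCode, ip c w = 0 := fun w hw => by
    obtain ⟨m, hm, rfl⟩ := H14.exists_isCW_of_mem hw
    rw [← hm.cw_eq, H14.cw_eq]
    exact ip_lin _ _ _ _ fun j hj => by rw [ip_word, H14.nbeq_iff.1 (H14.allLt_iff.1 h.2 j hj)]; simp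
  rcases hw with hw | hw
  · exact h1 w hw
  · have := h1 _ hw
    rwa [ip_add, ← word23, ip_word, H14.nbeq_iff.1 h.1, if_neg (by simp), add_zero] at this

theorem orth_ts : ∀ c ∈ tsB, orth c = true := H14.allL_iff.1 (by decide +kernel)

theorem split_word (w : Wd) : ∃ s < 4096, w + word (s <<< 12) ∈ golayCode := by
  obtain ⟨m, hm, rfl⟩ := exists_word w
  refine ⟨syn m, H14.syn_lt m, ?_⟩
  rw [H14.eq_cw_xor_syn hm, H14.word_xor, ← H14.eq_cw_xor_syn hm, add_assoc, aa, add_zero]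
  exact (H14.isCW_cw m).word_mem

theorem inK_of {w : Wd} (h : ∀ c ∈ tsB, ip c w = 0) : InK w := by
  obtain ⟨s, hs, h1⟩ := split_word w
  have h2 := H14.allLt2_iff.1 (show allLt2 64 64 (fun s => H14.anyL tsB (fun c => Nat.beq (par c (Nat.shiftLeft s 12)) 1) ||
    (Nat.beq s 0 || Nat.beq s 2048)) = true by decide +kernel) s hs
  simp only [Bool.or_eq_true, H14.nbeq_iff, H14.anyL_iff] at h2
  rcases h2 with ⟨c, hc, e⟩ | rfl | rfl
  · have := orth_spec (orth_ts c hc) (Or.inl h1)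
    rw [ip_add, h c hc, ip_word, show par c (s <<< 12) = 1 from e] at this
    simp at this
  · left; simpa [H14.word_zero] using h1
  · right; rwa [← word23]

theorem embB (w : Wd) : ∃ c, InK (w + emb BTB c) := by
  obtain ⟨s, hs, h1⟩ := split_word w
  have h2 := H14.nbeq_iff.1 (H14.allLt2_iff.1 (show allLt2 64 64 (fun s => Nat.beq (Nat.shiftLeft s 12)
    (Nat.xor (lin (fun j => two (Nat.add 12 j)) 11 s) (Nat.mul (bitN s 11) (two 23)))) = true by decide +kernel) s hs)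
  rw [show s <<< 12 = _ from h2, show ∀ a b, Nat.xor a b = a ^^^ b from fun _ _ => rfl, H14.word_xor,
    word_emb (BT := BTB) (by decide +kernel), H14.bitN_eq, ← add_assoc] at h1
  refine ⟨fun j => if s.testBit j then 1 else 0, ?_⟩
  revert h1
  cases s.testBit 11
  · intro h; left; simpa [H14.word_zero] using h
  · intro h; right; rw [← word23]; simpa using h

section
variable {E : Type*} [Group E] (N : Subgroup E) [hN : N.Normal] (φ : E ⧸ N ≃* G0)

def pr : E →* G0 := φ.toMonoidHom.comp (QuotientGroup.mk' N)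

theorem pr_ker : (pr N φ).ker = N := by
  ext x; simp [pr, MonoidHom.mem_ker]

theorem pr_one {x : E} : pr N φ x = 1 ↔ x ∈ N := by rw [← MonoidHom.mem_ker, pr_ker]

theorem pr_surj : Function.Surjective (pr N φ) := φ.surjective.comp (QuotientGroup.mk'_surjective N)

theorem rpB (θ : Wd →+ Additive N) (hsurj : Function.Surjective θ) (hker : ∀ w, θ w = 0 ↔ InK w)
    (hθ : ∀ (x : E) (w : Wd), ((θ (act (pr N φ x) w)).toMul : E) = x * ((θ w).toMul : E) * x⁻¹) :
    Rp (pr N φ) (fun x w => ((θ w).toMul : E) = x) BTB tsB where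
  surj := pr_surj N φ
  ex x hx := by
    obtain ⟨w, hw⟩ := hsurj (Additive.ofMul ⟨x, (pr_one N φ).1 hx⟩)
    obtain ⟨c, hc⟩ := embB w
    have h := (hker _).2 hc
    have h2 : θ (emb BTB c) = θ w := by
      rw [show emb BTB c = w + emb BTB c + w by linear_combination (exp := 1) -aa w, map_add, h, zero_add]
    exact ⟨c, by rw [h2, hw]; rfl⟩
  sur c := ⟨_, rfl⟩
  ker h := h ▸ (pr_one N φ).2 (Subtype.prop _)
  mul h h' := by rw [map_add, toMul_add, Subgroup.coe_mul, h, h']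
  conj y h := by rw [hθ, h]
  test h c hc := orth_spec (orth_ts c hc) ((hker _).1 (Subtype.ext h))
  one h hc := by rw [← h, (hker _).2 (inK_of hc)]; rfl
  zero := by simp

theorem c0_word {w : Wd} (h : w ∈ golayCode) (h0 : w none = 0) : ∃ m, w = word m ∧ m = lin (H14.get 24 bsA) 11 m := by
  obtain ⟨m, hm, rfl⟩ := H14.exists_isCW_of_mem h
  have := H14.forall_cw (p := fun m => Nat.beq (bitN m 23) 1 || Nat.beq m (lin (H14.get 24 bsA) 11 m)) (by decide +kernel) hm
  simp only [Bool.or_eq_true, H14.nbeq_iff, H14.bitN_eq] at this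
  refine ⟨m, rfl, this.resolve_left fun e => ?_⟩
  have : m.testBit 23 = true := by revert e; cases m.testBit 23 <;> simp
  simp [word, show gC.idx none = 23 from rfl, this] at h0

theorem rpA (ψ : Additive N →+ Wd) (hinj : Function.Injective ψ)
    (hrange : ∀ w, w ∈ Set.range ψ ↔ (w ∈ golayCode ∧ w none = 0))
    (hψ : ∀ (x : E) (n : N), ψ (Additive.ofMul ⟨x * n * x⁻¹, hN.conj_mem n n.2 x⟩) = act (pr N φ x) (ψ (Additive.ofMul n))) :
    Rp (pr N φ) (fun x w => ∃ n : N, (n : E) = x ∧ ψ (Additive.ofMul n) = w) BTA tsA where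
  surj := pr_surj N φ
  ex x hx := by
    obtain ⟨h1, h2⟩ := (hrange _).1 ⟨Additive.ofMul ⟨x, (pr_one N φ).1 hx⟩, rfl⟩
    obtain ⟨m, e1, e2⟩ := c0_word h1 h2
    exact ⟨_, _, rfl, by rw [e1, e2, word_emb (BT := BTA) (by decide +kernel)]⟩
  sur c := by
    have hb : ∀ j < 11, word (H14.get 24 bsA j) ∈ golayCode ∧ word (H14.get 24 bsA j) none = 0 := fun j hj => by
      have := H14.allLt_iff.1 (show allLt 11 (fun j => H14.isCW (H14.get 24 bsA j) &&
        !(H14.get 24 bsA j).testBit 23) = true by decide +kernel) j hj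
      rw [Bool.and_eq_true] at this
      exact ⟨(H14.isCW_iff.1 this.1).word_mem, if_neg (by simpa [show gC.idx none = 23 from rfl] using this.2)⟩
    obtain ⟨n, hn⟩ := (hrange (emb BTA c)).2 (by
      rw [emb_sum (f := H14.get 24 bsA) (by decide +kernel)]
      refine ⟨Submodule.sum_mem _ fun j hj => Submodule.smul_mem _ _ (hb j (mem_range.1 hj)).1, ?_⟩
      rw [Finset.sum_apply]
      exact sum_eq_zero fun j hj => by rw [Pi.smul_apply, (hb j (mem_range.1 hj)).2, smul_zero])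
    exact ⟨_, n.toMul, rfl, hn⟩
  ker := fun ⟨n, h, _⟩ => h ▸ (pr_one N φ).2 n.2
  mul := fun ⟨n, h, e⟩ ⟨n', h', e'⟩ => ⟨n * n', by rw [Subgroup.coe_mul, h, h'], by rw [ofMul_mul, map_add, e, e']⟩
  conj := fun y ⟨n, h, e⟩ => ⟨_, by rw [← h], e ▸ hψ y n⟩
  test := fun ⟨n, h, e⟩ c _ => by
    rw [← e, show n = 1 from Subtype.ext h, ofMul_one, map_zero, ip_zero]
  one := fun {x w} ⟨n, h, e⟩ hc => by
    obtain ⟨h1, h2⟩ := (hrange w).1 ⟨_, e⟩
    obtain ⟨m, e1, e2⟩ := c0_word h1 h2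
    have : m = 0 := by
      rw [e2, H14.lin_congr _ 11 (m' := 0) fun i hi => ?_]
      · decide +kernel
      · have := hc (two i) (by revert i; decide)
        rw [ip, dot_two _ (by omega), e1, word, gC.idx_pt i (show i < 24 by omega)] at this
        simpa using this
    rw [this, H14.word_zero, ← e, ← map_zero ψ] at e1
    rw [← h, show n = 1 from hinj e1]; rfl
  zero := ⟨1, rfl, by simp⟩

end

theorem Rp.split {E : Type*} [Group E] [Finite E] {π : E →* G0} {R : E → Wd → Prop} {BT : ℕ} {ts : List ℕ} (H : Rp π R BT ts)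
    {e : ℕ → E} (he : ∀ a, π (e a) = g a) (h : ∀ r < 29, ∃ w, R (ev e (gd [] P r)) w ∧ ∀ c ∈ ts, ip c w = 0) :
    Lc 127 e ⊓ π.ker = ⊥ ∧ Lc 127 e ⊔ π.ker = ⊤ :=
  ⟨rel0 π e he fun w hw => by
    obtain ⟨r, hr, rfl⟩ := P_idx hw
    obtain ⟨w, h1, h2⟩ := h r hr
    exact H.one h1 h2, Lc_sup π e he⟩

theorem lifts {E : Type*} [Group E] [Finite E] (N : Subgroup E) [N.Normal] (φ : E ⧸ N ≃* G0)
    (θ : Wd →+ Additive N) (hsurj : Function.Surjective θ) (hker : ∀ w, θ w = 0 ↔ InK w)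
    (hθ : ∀ (x : E) (w : Wd), ((θ (act (pr N φ x) w)).toMul : E) = x * ((θ w).toMul : E) * x⁻¹)
    (hns : ∀ H : Subgroup E, H ⊓ N = ⊥ → H ⊔ N ≠ ⊤) : ∃ e : ℕ → E, (∀ a, pr N φ (e a) = g a) ∧
      ∀ r < 29, ev e (gd [] P r) = (θ (word (gd 0 w0 r))).toMul := by
  have H := rpB N φ θ hsurj hker hθ
  obtain ⟨e, s, he, h⟩ := H.main cys_ok rfl certB
  rcases (show ∀ s : ZMod 2, s = 0 ∨ s = 1 by decide) s with rfl | rfl
  · have := H.split he fun r hr => by simpa using h r hr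
    rw [pr_ker] at this
    exact absurd this.2 (hns _ this.1)
  · refine ⟨e, he, fun r hr => ?_⟩
    obtain ⟨w, h1, h2⟩ := h r hr
    rw [one_smul] at h2
    rw [← h1, show w = w + word (gd 0 w0 r) + word (gd 0 w0 r) by rw [add_assoc, aa, add_zero], map_add,
      (hker _).2 (inK_of h2), zero_add]

theorem inj_hom {E : Type*} [Group E] [Finite E] (N : Subgroup E) [N.Normal] (φ : E ⧸ N ≃* G0)
    (θ : Wd →+ Additive N) (hsurj : Function.Surjective θ) (hker : ∀ w, θ w = 0 ↔ InK w)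
    (hθ : ∀ (x : E) (w : Wd), ((θ (act (pr N φ x) w)).toMul : E) = x * ((θ w).toMul : E) * x⁻¹)
    (hns : ∀ H : Subgroup E, H ⊓ N = ⊥ → H ⊔ N ≠ ⊤)
    {E' : Type*} [Group E'] [Finite E'] (N' : Subgroup E') [N'.Normal] (φ' : E' ⧸ N' ≃* G0)
    (θ' : Wd →+ Additive N') (hsurj' : Function.Surjective θ') (hker' : ∀ w, θ' w = 0 ↔ InK w)
    (hθ' : ∀ (x : E') (w : Wd), ((θ' (act (pr N' φ' x) w)).toMul : E') = x * ((θ' w).toMul : E') * x⁻¹)
    (hns' : ∀ H : Subgroup E', H ⊓ N' = ⊥ → H ⊔ N' ≠ ⊤) : ∃ f : E →* E', Function.Injective f := by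
  obtain ⟨e, he, hr⟩ := lifts N φ θ hsurj hker hθ hns
  obtain ⟨e', he', hr'⟩ := lifts N' φ' θ' hsurj' hker' hθ' hns'
  let Q : Subgroup (E × E') := ((pr N φ).comp (MonoidHom.fst E E')).eqLocus ((pr N' φ').comp (MonoidHom.snd E E'))
  let σ : Q →* G0 := ((pr N φ).comp (MonoidHom.fst E E')).comp Q.subtype
  let M : Subgroup Q :=
    { carrier := {q | ∃ w, ((θ w).toMul : E) = q.1.1 ∧ ((θ' w).toMul : E') = q.1.2}
      one_mem' := ⟨0, by simp, by simp⟩
      mul_mem' := fun ⟨w, a, b⟩ ⟨w', a', b'⟩ => ⟨w + w', by simp [a, a'], by simp [b, b']⟩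
      inv_mem' := fun ⟨w, a, b⟩ => ⟨-w, by simp [a], by simp [b]⟩ }
  have hM : M.Normal := ⟨fun q ⟨w, a, b⟩ y => ⟨act (pr N φ y.1.1) w, by rw [hθ, a]; rfl, by
    rw [show pr N φ y.1.1 = pr N' φ' y.1.2 from y.2, hθ', b]; rfl⟩⟩
  have hMk : M ≤ σ.ker := fun q ⟨w, a, _⟩ => (pr_one N φ).2 (by
    show q.1.1 ∈ N; rw [← a]; exact Subtype.prop _)
  let x : ℕ → Q := fun a => ⟨(e a, e' a), (he a).trans (he' a).symm⟩
  have h := relN σ M hMk x he fun w hw => by
    obtain ⟨r, hr0, rfl⟩ := P_idx hw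
    exact ⟨_, (hr r hr0).symm.trans (map_ev ((MonoidHom.fst E E').comp Q.subtype) x _).symm,
      (hr' r hr0).symm.trans (map_ev ((MonoidHom.snd E E').comp Q.subtype) x _).symm⟩
  let p1 : (Lc 127 x ⊔ M : Subgroup Q) →* E := ((MonoidHom.fst E E').comp Q.subtype).comp (Subgroup.subtype _)
  let p2 : (Lc 127 x ⊔ M : Subgroup Q) →* E' := ((MonoidHom.snd E E').comp Q.subtype).comp (Subgroup.subtype _)
  have key : ∀ q : (Lc 127 x ⊔ M : Subgroup Q), p1 q = 1 ∨ p2 q = 1 → q = 1 := fun q hq => by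
    obtain ⟨w, a, b⟩ := h ⟨q.2, show pr N φ (p1 q) = 1 by
      rcases hq with e1 | e1
      · rw [e1, map_one]
      · exact q.1.2.trans (show pr N' φ' (p2 q) = 1 by rw [e1, map_one])⟩
    have hw : InK w := by
      rcases hq with e1 | e1
      · exact (hker w).1 (Subtype.ext (a.trans e1))
      · exact (hker' w).1 (Subtype.ext (b.trans e1))
    rw [(hker w).2 hw] at a
    rw [(hker' w).2 hw] at b
    exact Subtype.ext (Subtype.ext (Prod.ext a.symm b.symm))
  have s1 : Function.Surjective p1 := fun z => by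
    have : z ∈ ((N ⊔ Lc 127 e : Subgroup E) : Set E) := by
      rw [sup_comm, ← pr_ker N φ, Lc_sup _ e he]; trivial
    rw [Subgroup.normal_mul] at this
    obtain ⟨n, hn, k, hk, rfl⟩ := this
    rw [← Lc_map ((MonoidHom.fst E E').comp Q.subtype) 127 x (g := e) fun _ => rfl] at hk
    obtain ⟨q, hq, rfl⟩ := hk
    obtain ⟨w, hw⟩ := hsurj (Additive.ofMul ⟨n, hn⟩)
    let m : Q := ⟨((θ w).toMul, (θ' w).toMul), ((pr_one N φ).2 (Subtype.prop _)).trans ((pr_one N' φ').2 (Subtype.prop _)).symm⟩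
    exact ⟨⟨m * q, mul_mem (Subgroup.mem_sup_right ⟨w, rfl, rfl⟩) (Subgroup.mem_sup_left hq)⟩, by
      show ((θ w).toMul : E) * _ = _
      rw [hw]; rfl⟩
  let f := MulEquiv.ofBijective p1 ⟨(injective_iff_map_eq_one _).2 fun q hq => key q (Or.inl hq), s1⟩
  exact ⟨p2.comp f.symm.toMonoidHom, ((injective_iff_map_eq_one _).2 fun q hq => key q (Or.inr hq)).comp f.symm.injective⟩

end Cfsg.Agent.L1H2
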