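import Cfsg.Agent.L1.H2c
set_option autoImplicit false
set_option maxRecDepth 100000

namespace Cfsg.Agent.L1H2
open Cfsg.Agent.H14 (gC comp tabulate lin two isPerm allLt allLt2 word bitN img finCoord)
open Cfsg.Agent.H25 Cfsg.Agent.H25.M23 Finset

abbrev Om := Fin 253 × ZMod 2

def sh (σ : Equiv.Perm (Fin 253)) (f : Fin 253 → ZMod 2) : Equiv.Perm Om := Equiv.prodShear σ fun i => Equiv.addRight (f i)

theorem sh_apply (σ : Equiv.Perm (Fin 253)) (f : Fin 253 → ZMod 2) (i : Fin 253) (s : ZMod 2) :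
    sh σ f (i, s) = (σ i, s + f i) := rfl

def th (w : Wd) : Equiv.Perm Om := sh 1 fun i => ip (H14.get 24 CT i) w

theorem th_apply (w : Wd) (i : Fin 253) (s : ZMod 2) : th w (i, s) = (i, s + ip (H14.get 24 CT i) w) := rfl

attribute [irreducible] th

theorem th_add (w w' : Wd) : th (w + w') = th w * th w' := by
  ext1 ⟨i, s⟩
  rw [Equiv.Perm.mul_apply, th_apply, th_apply, th_apply, ip_add, add_assoc, add_comm (ip _ w)]

theorem th_one {w : Wd} : th w = 1 ↔ InK w := by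
  constructor
  · intro h
    refine inK_of fun c hc => ?_
    obtain ⟨i, rfl⟩ : ∃ i : Fin 253, H14.get 24 CT i = c := by
      obtain ⟨i, hi, e⟩ := H14.anyLt_iff.1 (H14.allL_iff.1 (show H14.allL tsB (fun c => H14.anyLt 11 fun i =>
        Nat.beq (H14.get 24 CT i) c) = true by decide +kernel) c hc)
      exact ⟨⟨i, by omega⟩, H14.nbeq_iff.1 e⟩
    have := th_apply w i 0
    rw [h, zero_add] at this
    exact (congrArg Prod.snd this).symm
  · intro h
    ext1 ⟨i, s⟩
    rw [th_apply, orth_spec (H14.allLt_iff.1 (show allLt 253 (fun i => orth (H14.get 24 CT i)) = true by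
      decide +kernel) i i.2) h, add_zero]; rfl

noncomputable def pt (a : ℕ) : ℕ := gd 0 PTs a
noncomputable def eh (a : ℕ) : Equiv.Perm Om :=
  if a < 7 then sh ((finCoord 252).perm 8 (pt a)) fun i => if (gd 0 FTs a).testBit i then 1 else 0 else 1

theorem pt_ok {a : ℕ} (ha : a < 7) : isPerm 253 8 (pt a) = true :=
  H14.allLt_iff.1 (show allLt 7 (fun a => isPerm 253 8 (pt a)) = true by decide +kernel) a ha

theorem pt_val {a : ℕ} (ha : a < 7) (i : Fin 253) : ((finCoord 252).perm 8 (pt a) i : ℕ) = H14.get 8 (pt a) i :=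
  (finCoord 252).idx_perm (pt_ok ha) i

theorem ip_act {X : ℕ} (h : Ok X) (c : ℕ) (w : Wd) : ip c (act (el X) w) = ip (img 24 5 X c) w := by
  rw [ip, ip, img, dot_lin]
  exact dot_congr (fun j hj => by rw [act_pt h hj, dot_two _ (H14.isPerm_lt h.1 hj)]) c

theorem eh_th (a : ℕ) (w : Wd) : th (act (g a) w) = eh a * th w * (eh a)⁻¹ := by
  rw [eq_mul_inv_iff_mul_eq]
  by_cases ha : a < 7
  · ext1 ⟨i, s⟩
    have := H14.nbeq_iff.1 (H14.allLt_iff.1 (H14.allLt_iff.1 (show allLt 7 (fun a => allLt 253 fun i =>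
      Nat.beq (img 24 5 (tb a) (H14.get 24 CT (H14.get 8 (pt a) i))) (H14.get 24 CT i)) = true by decide +kernel) a ha) i i.2)
    rw [eh, if_pos ha, Equiv.Perm.mul_apply, Equiv.Perm.mul_apply, sh_apply, th_apply, th_apply, sh_apply, g_eq ha,
      ip_act (ok_tb ha), pt_val ha, this, add_right_comm]
  · rw [eh, if_neg ha, g, mg_one _ _ _ (show Ts.length ≤ a from not_lt.1 ha)]
    simp [act]

noncomputable def t1 (r : List ℕ) (i : ℕ) : ℕ := List.rec i (fun a _ ih => H14.get 8 (pt a) ih) r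
noncomputable def t2 (r : List ℕ) (i : ℕ) : ℕ := List.rec 0 (fun a t ih => Nat.xor (bitN (gd 0 FTs a) (t1 t i)) ih) r

theorem ev_eh {r : List ℕ} (hr : ∀ a ∈ r, a < 7) (i : Fin 253) (s : ZMod 2) :
    ((ev eh r (i, s)).1 : ℕ) = t1 r i ∧ (ev eh r (i, s)).2 = s + if (t2 r i).testBit 0 then 1 else 0 := by
  induction r with
  | nil => exact ⟨rfl, by simp [t2]⟩
  | cons a r ih =>
    have ha := hr a (by simp)
    obtain ⟨h1, h2⟩ := ih fun b hb => hr b (by simp [hb])
    rw [ev_cons, Equiv.Perm.mul_apply, eh, if_pos ha, ← Prod.mk.eta (p := ev eh r (i, s)), sh_apply, pt_val ha, h1, h2]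
    refine ⟨rfl, ?_⟩
    rw [show t2 (a :: r) i = bitN (gd 0 FTs a) (t1 r i) ^^^ t2 r i from rfl, Nat.testBit_xor, H14.bitN_eq]
    cases (gd 0 FTs a).testBit (t1 r i) <;> cases (t2 r i).testBit 0 <;> simp [add_assoc, CharTwo.add_self_eq_zero]

theorem rel_eh {r : ℕ} (hr : r < 29) : ev eh (gd [] P r) = th (word (gd 0 w0 r)) := by
  ext1 ⟨i, s⟩
  have := H14.allLt_iff.1 (H14.allLt_iff.1 (show allLt 29 (fun r => allLt 253 fun i => band (Nat.beq (t1 (gd [] P r) i) i)
    (Nat.beq (t2 (gd [] P r) i) (par (H14.get 24 CT i) (gd 0 w0 r)))) = true by decide +kernel) r hr) i i.2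
  rw [band_eq, Bool.and_eq_true, H14.nbeq_iff, H14.nbeq_iff] at this
  obtain ⟨h1, h2⟩ := ev_eh (P_spec hr).2 i s
  rw [th_apply, ip_word, ← this.2, ← h2]
  exact Prod.ext (Fin.ext (h1.trans this.1)) rfl

theorem act_mul (x y : G0) (w : Wd) : act (x * y) w = act x (act y w) := by
  funext p; simp [act]

def BB : Subgroup (Equiv.Perm Om × G0) where
  carrier := {q | ∀ w, th (act q.2 w) = q.1 * th w * q.1⁻¹}
  one_mem' w := by simp [act]
  mul_mem' {a b} ha hb w := by
    show th (act (a.2 * b.2) w) = a.1 * b.1 * th w * (a.1 * b.1)⁻¹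
    rw [act_mul, ha, hb]; group
  inv_mem' {a} ha w := by
    show th (act a.2⁻¹ w) = a.1⁻¹ * th w * a.1⁻¹⁻¹
    have := ha (act a.2⁻¹ w)
    rw [← act_mul, mul_inv_cancel, show act 1 w = w from rfl] at this
    rw [this]; group

def tB (w : Wd) : BB := ⟨(th w, 1), fun v => by
  show th v = th w * th v * (th w)⁻¹
  rw [← th_add, add_comm, th_add, mul_inv_cancel_right]⟩

theorem tB_add (w w' : Wd) : tB (w + w') = tB w * tB w' := Subtype.ext (Prod.ext (th_add w w') (mul_one _).symm)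

theorem tB_zero : tB 0 = 1 := by
  have := tB_add 0 0
  rw [add_zero] at this
  exact left_eq_mul.1 this

theorem tB_conj (y : BB) (w : Wd) : tB (act y.1.2 w) = y * tB w * y⁻¹ :=
  Subtype.ext (Prod.ext (y.2 w) (by simp [tB]))

def MM : Subgroup BB where
  carrier := Set.range tB
  one_mem' := ⟨0, tB_zero⟩
  mul_mem' := by rintro _ _ ⟨w, rfl⟩ ⟨w', rfl⟩; exact ⟨_, tB_add w w'⟩
  inv_mem' := by
    rintro _ ⟨w, rfl⟩
    exact ⟨w, eq_inv_of_mul_eq_one_left (by rw [← tB_add, aa, tB_zero])⟩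

instance MM_normal : MM.Normal := ⟨by rintro _ ⟨w, rfl⟩ y; exact ⟨_, tB_conj y w⟩⟩

def σB : BB →* G0 := (MonoidHom.snd _ _).comp BB.subtype
noncomputable def xB (a : ℕ) : BB := ⟨(eh a, g a), eh_th a⟩

theorem rel_xB {r : ℕ} (hr : r < 29) : ev xB (gd [] P r) = tB (word (gd 0 w0 r)) :=
  Subtype.ext (Prod.ext ((map_ev ((MonoidHom.fst _ _).comp BB.subtype) xB _).trans (rel_eh hr))
    ((map_ev σB xB _).trans (hP _ (P_spec hr).1)))

abbrev EE := ↥(Lc 127 xB ⊔ MM : Subgroup BB)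
noncomputable abbrev NN : Subgroup EE := MM.subgroupOf _
noncomputable def πE : EE →* G0 := σB.comp (Subgroup.subtype _)
open Classical in
noncomputable def eE (a : ℕ) : EE := if h : a < 7 then ⟨xB a, Subgroup.mem_sup_left (mem_Lc xB (by revert a; decide))⟩ else 1

theorem eE_val (a : ℕ) : (eE a : BB) = xB a := by
  by_cases h : a < 7
  · rw [eE, dif_pos h]
  · rw [eE, dif_neg h]
    exact Subtype.ext (Prod.ext (if_neg h).symm (mg_one _ _ _ (show Ts.length ≤ a from not_lt.1 h)).symm)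

theorem πE_e (a : ℕ) : πE (eE a) = g a := congrArg σB (eE_val a)

theorem πE_ker : πE.ker = NN := by
  have hM : MM ≤ σB.ker := by rintro _ ⟨w, rfl⟩; rfl
  ext y
  refine ⟨fun h => relN σB MM hM xB (fun _ => rfl) (fun w hw => ?_) ⟨y.2, h⟩, fun h => hM h⟩
  obtain ⟨r, hr, rfl⟩ := P_idx hw
  exact ⟨_, (rel_xB hr).symm⟩

theorem πE_surj : Function.Surjective πE := by
  rw [← MonoidHom.range_eq_top, eq_top_iff, ← htb.1, ← Lc_map πE 127 eE πE_e]
  exact Subgroup.map_le_range _ _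

noncomputable def φE : EE ⧸ NN ≃* G0 :=
  (QuotientGroup.quotientMulEquivOfEq πE_ker.symm).trans (QuotientGroup.quotientKerEquivOfSurjective πE πE_surj)

theorem pr_φE (y : EE) : pr NN φE y = πE y := rfl

noncomputable def θE : Wd →+ Additive NN := AddMonoidHom.mk'
  (fun w => Additive.ofMul ⟨⟨tB w, Subgroup.mem_sup_right ⟨w, rfl⟩⟩, ⟨w, rfl⟩⟩)
  fun w w' => Subtype.ext (Subtype.ext (tB_add w w'))

theorem θE_surj : Function.Surjective θE := fun ⟨⟨_, _⟩, w, h⟩ => ⟨w, Subtype.ext (Subtype.ext h)⟩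

theorem θE_ker (w : Wd) : θE w = 0 ↔ InK w := by
  rw [← th_one]
  exact ⟨fun h => congrArg (fun y : Additive NN => (y.toMul : EE).1.1.1) h,
    fun h => Subtype.ext (Subtype.ext (Subtype.ext (Prod.ext h rfl)))⟩

theorem θE_conj (y : EE) (w : Wd) : ((θE (act (pr NN φE y) w)).toMul : EE) = y * ((θE w).toMul : EE) * y⁻¹ :=
  Subtype.ext (tB_conj y.1 w)

theorem nonsplitE (H : Subgroup EE) (h : H ⊓ NN = ⊥) : H ⊔ NN ≠ ⊤ := by
  have := (rpB NN φE θE θE_surj θE_ker θE_conj).nonsplit certNB (e := eE) πE_e (fun r hr => Subtype.ext (by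
    rw [show ((ev eE (gd [] P r) : EE) : BB) = ev xB (gd [] P r) from
      (map_ev (Subgroup.subtype _) eE _).trans (congrArg (ev · _) (funext eE_val)), rel_xB hr]; rfl)) H
  rw [pr_ker] at this
  exact this h

end Cfsg.Agent.L1H2
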