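import Mathlib

/-! Data for the `3`-local characterization of `S₈`. -/

set_option autoImplicit false
set_option linter.unusedVariables false

namespace Cfsg.Agent.L1Se

open Subgroup Equiv

universe u

abbrev W := Perm (Fin 3) × Perm (Fin 5)

def zE : W := (swap 0 1 * swap 1 2, 1)
def zF : W := (1, swap 0 1 * swap 1 2)
def tE : W := (1, swap 3 4)
def eE : W := (swap 0 1, 1)
def eA : W := (1, swap 0 1)
def eB : W := (1, swap 0 1 * swap 3 4)
def uE : W := (1, swap 0 3 * swap 1 4)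
def v1 : W := (1, swap 0 1 * swap 2 3)
def v2 : W := (1, swap 0 2 * swap 1 3)

/-- S3333 -/
def T33 : Prop := ∀ (X : Type u) [Group X] [Finite X] (P : Sylow 3 X) (S : Subgroup X), S = P → Nat.card S = 9 →
  centralizer (S : Set X) = S →
  (normalizer (S : Set X) ⧸ S.subgroupOf (normalizer (S : Set X)) ≃* DihedralGroup 4) →
  (∀ x ∈ S, x ≠ 1 → centralizer ({x} : Set X) ≤ normalizer (S : Set X)) → S.Normal ∨ Nonempty (X ≃* Perm (Fin 6))

/-- S3331 -/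
def T31 : Prop := ∀ (Y : Type u) [Group Y] [Finite Y] (X : Subgroup Y), Nat.card X = 3 → centralizer (X : Set Y) = X →
  (∃ (N : Subgroup Y) (hN : N.Normal), Group.IsNilpotent N ∧ (Nat.card N).Coprime 3 ∧
      (Nat.card (Y ⧸ N) = 3 ∨ Nonempty (Y ⧸ N ≃* Perm (Fin 3)))) ∨
    (∃ (N : Subgroup Y) (hN : N.Normal), IsMulCommutative N ∧ (∀ n ∈ N, n ^ 2 = 1) ∧
      Nonempty (Y ⧸ N ≃* alternatingGroup (Fin 5))) ∨
    Nonempty (Y ≃* Matrix.ProjectiveSpecialLinearGroup (Fin 2) (ZMod 7))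

/-- S3805, in working form -/
def T05 : Prop := ∀ (X : Type u) [Group X] [Finite X] (T : Sylow 3 X), Nat.card (T : Subgroup X) = 9 →
  (∀ a ∈ (T : Subgroup X), a ^ 3 = 1) → centralizer ((T : Subgroup X) : Set X) = T →
  Nat.card (normalizer ((T : Subgroup X) : Set X)) = 36 →
  (∀ g ∈ normalizer ((T : Subgroup X) : Set X), g ^ 2 ∈ (T : Subgroup X)) →
  (∀ x ∈ (T : Subgroup X), x ≠ 1 → centralizer ({x} : Set X) ≤ normalizer ((T : Subgroup X) : Set X)) →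
  (T : Subgroup X).Normal

/-- Glauberman's `Z*`-theorem -/
def ZS : Prop := ∀ (X : Type u) [Group X] [Finite X] (t : X), orderOf t = 2 →
  (∀ g : X, Commute (g * t * g⁻¹) t → g * t * g⁻¹ = t) →
  ∃ O : Subgroup X, O.Normal ∧ Odd (Nat.card O) ∧ ∀ g : X, g * t * g⁻¹ * t⁻¹ ∈ O

variable {G : Type*} [Group G]

/-- the normalizer of `⟨z⟩` with an involution swapping `z` and `z'`; `x` is `eA` or `eB` -/
structure SA (ε : W →* G) (σ : G) (x : W) : Prop where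
  inj : Function.Injective ε
  rng : ∀ g, g ∈ ε.range ↔ g ∈ normalizer (zpowers (ε zE) : Set G)
  ss : σ * σ = 1
  sz : σ * ε zE * σ⁻¹ = ε zF
  st : σ * ε tE * σ⁻¹ = ε tE
  se : σ * ε eE * σ⁻¹ = ε x
  cy : Nat.card (centralizer ({ε zE * ε zF} : Set G)) = 36
  cz : Nat.card (centralizer ({ε zE} : Set G)) = 360
  syl : ∃ P : Sylow 3 G, Nat.card P = 9

/-- `C(τ) = N(D)` -/
def ND (ε : W →* G) (σ : G) : Prop := ∀ g, Commute g (ε tE) → g ∈ ε.range ∨ σ * g ∈ ε.range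

/-- a conjugate of `τ` commuting with `z z'` commutes with `z` -/
def NY (ε : W →* G) : Prop :=
  ∀ g, Commute (g * ε tE * g⁻¹) (ε zE * ε zF) → Commute (g * ε tE * g⁻¹) (ε zE)

/-- `C(τ) = ⟨τ⟩ × S₆` -/
structure S6 (ε : W →* G) (x : W) (φ : Perm (Fin 6) →* G) : Prop where
  inj : Function.Injective φ
  nt : ε tE ∉ φ.range
  cen : ∀ g, Commute g (ε tE) ↔ g ∈ φ.range ∨ ε tE * g ∈ φ.range
  a1 : φ (swap 0 1) = ε eE
  a2 : φ (swap 0 1 * swap 1 2) = ε zE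
  a3 : φ (swap 3 4) = ε x
  a4 : φ (swap 3 4 * swap 4 5) = ε zF

/-- a copy of `S₈` -/
structure SH (f : Perm (Fin 8) →* G) : Prop where
  inj : Function.Injective f
  cT : ∀ g, Commute g (f (swap 6 7)) → g ∈ f.range
  cz : ∀ g, Commute g (f (swap 0 1 * swap 1 2)) → g ∈ f.range
  cy : ∀ g, Commute g (f (swap 0 1 * swap 1 2 * (swap 3 4 * swap 4 5))) → g ∈ f.range
  syl : ∃ P : Sylow 3 G, Nat.card P = 9

def FU (f : Perm (Fin 8) →* G) : Prop := ∀ g h, g * f (swap 6 7) * g⁻¹ = f h → h.IsSwap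
def CD (f : Perm (Fin 8) →* G) : Prop := ∀ g, Commute g (f (swap 0 1 * swap 2 3)) → g ∈ f.range
def CN (f : Perm (Fin 8) →* G) : Prop := ∀ g, Commute g (f (swap 0 1 * swap 2 3 * swap 4 5)) → g ∈ f.range

def CU (ε : W →* G) : Prop := ∀ g, Commute g (ε v1) → Commute g (ε v2) → g ∈ ε.range

/-- the element `(a, b)` of `K₁ K₂` -/
def kk (ε : W →* G) (σ : G) (a b : Perm (Fin 5)) : G := ε (1, a) * (σ * ε (1, b) * σ⁻¹)

structure KK (ε : W →* G) (σ : G) : Prop where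
  cm : ∀ a b : Perm (Fin 5), Perm.sign a = 1 → Perm.sign b = 1 → Commute (ε (1, a)) (σ * ε (1, b) * σ⁻¹)
  cU : ∀ g, Commute g (ε v1) → Commute g (ε v2) →
    ∃ a ∈ closure {v1.2, v2.2}, ∃ b, Perm.sign b = 1 ∧ g = kk ε σ a b

/-- `E = U₁ × U₂` -/
def EE (ε : W →* G) (σ : G) : Subgroup G := closure {ε eB, ε uE, ε eE, σ * ε uE * σ⁻¹}

/-- `N(E) ≤ K₁ K₂ ⟨τ, σ⟩` -/
def NE (ε : W →* G) (σ : G) : Prop := ∀ g ∈ normalizer (EE ε σ : Set G), ∃ a b, Perm.sign a = 1 ∧ Perm.sign b = 1 ∧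
  (g = kk ε σ a b ∨ g = kk ε σ a b * ε tE ∨ g = kk ε σ a b * σ ∨ g = kk ε σ a b * ε tE * σ)

structure MM (M : Subgroup G) : Prop where
  nm : M.Normal
  ix : M.index = 4
  sq : ∀ g : G, g ^ 2 ∈ M
  n32 : ¬ 32 ∣ Nat.card M

/-- the elements used against the `M₁₂`-like configuration; `b = ε (tE * uE)` -/
structure AF (ε : W →* G) (a f : G) : Prop where
  ab : Commute a (ε (tE * uE))
  aa : a * a = ε eE
  ta : ε tE * a * (ε tE)⁻¹ = a⁻¹
  fb : Commute f (ε (tE * uE))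
  ff : f * f ∈ zpowers (ε (tE * uE))
  fe : f * ε eE * f⁻¹ = ε eE * ε eB
  tf : ε tE * f * (ε tE)⁻¹ * (a * f * a⁻¹)⁻¹ ∈ zpowers (ε (tE * uE))

def L27 : Prop := ∀ (X : Type u) [Group X] (e : X ≃* Matrix.ProjectiveSpecialLinearGroup (Fin 2) (ZMod 7))
  (θ : X →* X) (z a f : X), Function.Injective θ → orderOf z = 3 → orderOf a = 4 → a ^ 2 * z * (a ^ 2)⁻¹ = z⁻¹ →
  f * f = 1 → Commute f (a ^ 2) → f ∉ zpowers a → θ z = z → θ a = a⁻¹ → θ f = a * f * a⁻¹ → False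

end Cfsg.Agent.L1Se
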