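import Cfsg.Agent.L1.Mono
import Cfsg.Agent.L1.Des
import Cfsg.Agent.H14.Steiner

/-!
# The ternary code of length 12: parametrisation
-/

set_option autoImplicit false

namespace Cfsg.Agent.H14

/-- the numbering of the array. -/
def tC : Coord ArrayPt where
  n := 12
  idx p := 3 * p.1.val + p.2.val
  pt i := (Fin.ofNat 4 (i / 3), (i : ZMod 3))
  idx_lt := by decide
  pt_idx := by decide
  idx_pt := by decide

/-- the conditions in decidable form. -/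
def TW (x : ArrayPt → ZMod 3) : Prop :=
  (∀ i : Fin 4, ∑ r : ZMod 3, x (i, r) = ∑ r : ZMod 3, x (0, r)) ∧
    ∀ a b : ZMod 3, x (0, b) + x (1, a) + x (2, a + b) + x (3, a + 2 * b) = -∑ r : ZMod 3, x (0, r)

instance TW.dec (x : ArrayPt → ZMod 3) : Decidable (TW x) := by unfold TW; infer_instance

theorem mem_tern {x : ArrayPt → ZMod 3} : x ∈ ternaryGolayCode ↔ TW x := by
  have e : ∀ a b : ZMod 3, ∑ i : Fin 4, x (i, (a • ![0, 1, 1, 1] + b • ![1, 0, 1, 2] :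
      Fin 4 → ZMod 3) i) = x (0, b) + x (1, a) + x (2, a + b) + x (3, a + 2 * b) := fun a b => by
    simp [Fin.sum_univ_four, mul_comm]
  constructor
  · rintro ⟨s, h1, h2⟩
    refine ⟨fun i => by rw [h1, h1], fun a b => ?_⟩
    rw [h1, neg_neg, ← e]
    exact h2 _ (Submodule.mem_span_pair.mpr ⟨a, b, rfl⟩)
  · rintro ⟨h1, h2⟩
    refine ⟨_, fun i => by rw [h1, neg_neg], fun t ht => ?_⟩
    obtain ⟨a, b, rfl⟩ := Submodule.mem_span_pair.mp ht
    rw [e, h2]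

/-- a basis of the code. -/
def tB (j : Fin 6) (p : ArrayPt) : ZMod 3 :=
  (get 2 0xa950009249001988405844108a8404950401 (12 * j.val + tC.idx p) : ℕ)

/-- the information set. -/
def tI : Fin 6 → ArrayPt := ![(0, 0), (0, 1), (0, 2), (1, 0), (1, 1), (2, 0)]

/-- the other positions. -/
def tR : Fin 6 → ArrayPt := ![(1, 2), (2, 1), (2, 2), (3, 0), (3, 1), (3, 2)]

/-- the word with given coefficients. -/
def tw (a : Fin 6 → ZMod 3) (p : ArrayPt) : ZMod 3 := ∑ j, a j * tB j p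

theorem tB_mem (j : Fin 6) : tB j ∈ ternaryGolayCode := mem_tern.mpr (by revert j; decide +kernel)

theorem tw_eq (a : Fin 6 → ZMod 3) : tw a = ∑ j, a j • tB j := by
  ext p; simp [tw]

theorem tw_mem (a : Fin 6 → ZMod 3) : tw a ∈ ternaryGolayCode := by
  rw [tw_eq]; exact Submodule.sum_mem _ fun j _ => Submodule.smul_mem _ _ (tB_mem j)

theorem tw_I (a : Fin 6 → ZMod 3) (k : Fin 6) : tw a (tI k) = a k := by
  have : ∀ j k, tB j (tI k) = if j = k then 1 else 0 := by decide +kernel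
  simp [tw, this]

theorem tw_inj : Function.Injective tw := fun a b e => funext fun k => by
  rw [← tw_I a, ← tw_I b, e]

/-- a word supported outside the information set. -/
def tz (a : Fin 6 → ZMod 3) (p : ArrayPt) : ZMod 3 := ∑ j, if tR j = p then a j else 0

theorem tz_zero : ∀ a : Fin 6 → ZMod 3, TW (tz a) → a = 0 := by decide +kernel

theorem exists_tw {x : ArrayPt → ZMod 3} (hx : x ∈ ternaryGolayCode) : ∃ a, tw a = x := by
  refine ⟨x ∘ tI, ?_⟩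
  have h0 : ∀ k, (tw (x ∘ tI) - x) (tI k) = 0 := fun k => by simp [tw_I]
  have hm := Submodule.sub_mem _ (tw_mem (x ∘ tI)) hx
  generalize hy : tw (x ∘ tI) - x = y at h0 hm
  have hz : tz (y ∘ tR) = y := by
    ext p
    have hc : ∀ p, ∃ k, p = tI k ∨ p = tR k := by decide
    have h1 : ∀ j k, tR j ≠ tI k := by decide
    have h2 : ∀ j k, tR j = tR k ↔ j = k := by decide
    obtain ⟨k, rfl | rfl⟩ := hc p
    · simp [tz, h1, h0]
    · simp [tz, h2]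
  have := tz_zero _ (hz.symm ▸ mem_tern.mp hm)
  rw [this] at hz
  rw [← sub_eq_zero, hy, ← hz]
  ext p; simp [tz]

theorem tern_le_span : ternaryGolayCode ≤ Submodule.span (ZMod 3) (Set.range tB) := fun x hx => by
  obtain ⟨a, rfl⟩ := exists_tw hx
  rw [tw_eq]
  exact Submodule.sum_mem _ fun j _ => Submodule.smul_mem _ _ (Submodule.subset_span ⟨j, rfl⟩)

theorem ncard_tern (P : (ArrayPt → ZMod 3) → Prop) [DecidablePred P] :
    {x | x ∈ ternaryGolayCode ∧ P x}.ncard = (Finset.univ.filter fun a => P (tw a)).card := by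
  rw [← Set.ncard_coe_finset, ← Set.ncard_image_of_injective _ tw_inj]
  congr 1
  ext x
  simp only [Set.mem_ofPred_eq, Set.mem_image, Finset.coe_filter, Finset.mem_univ, true_and]
  exact ⟨fun ⟨h, hp⟩ => by obtain ⟨a, rfl⟩ := exists_tw h; exact ⟨a, hp, rfl⟩,
    by rintro ⟨a, hp, rfl⟩; exact ⟨tw_mem a, hp⟩⟩

/-- the number of a coefficient vector. -/
def tE (a : Fin 6 → ZMod 3) : ℕ :=
  (a 0).val + 3 * (a 1).val + 9 * (a 2).val + 27 * (a 3).val + 81 * (a 4).val + 243 * (a 5).val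

/-- the mask of the support. -/
def tM (a : Fin 6 → ZMod 3) : ℕ :=
  get 12 0x1fffffedea7fd5f77ebdd6fddfcfff5dfafe6dffff9fed7de7d35cf5bb7b47acfb3fbfda7f98d9ff875fc7fb7effffff0decfd7ddbfcfff2ffdde57fb5fe7eedd9fd7fc9fbedb7fabdb5fbefa279f79d586f7bd7df6dd7af77f6f75175e54857777f763f7cf7fd6bf5fd54f4ef3df33d2f736539725d1ff1af0cdffff3fefff4ffbde77df5d87c67f97ff5efffadf5feddd3fdefcafb7dbdfa15be7bf7abf9df96d8fff9df6fee5f37fd7e5fdafdfdc3dffffcfe8fffff7deb7d45df7cd7b77ba5a6fbddbbfafd9ef91f8b77e775569f77d7ef62d5df5ff45f7ed7bf6f57d77276ef57f59d4fd30f3ff27f3bf3cd2c71b51770d6f24ff6e7cf9efeeeeedbed5ccbcfcef7eeb6f76fc4e0edfcdfec7ebeeb9cadebfcb2eae49569b68aef5effce3efecfdee94df6d66ce6ff4f16edcf6efbee7eddedacc4cbbebfeaf6b86b74afe93c9ce8fc77e78e6467f67b46fe5cc53e4de7be76c6ee71c7fe6745a65d64363d43e62ac3fe35e29e16e1fc0fff8ff7defff3dfcfe45db7df7c37fe5fd7e9dffff6feafd5fdfdcddb6fbbfa77bd7ba5aef9fd91f8adffff5fe97f67ff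5e3fddddefc4fffffbdefffcdf3fef5d77d87ce7b15bf7a7dbafbdfadf9bf96d8d77f57276ed75f7bf67f5ef59d47d79f7ef6e77b77556df52d5ff4bf37f3cd20f3fd3ff2b51c71770b5f57fe7e2fffffdde9fdedd7fcffffff0dec7f75fb7e7ddcfdbfc5fbbdbefaedb9fb7faf79279d58fff6df9fe5dffffafee7dd7d35cd5fa7f77efff1ffede6fdbdddfc3fbcfbfdab7bf5b47a8d97f9ff8cf73f7fd6777857f76fd5bf54f4af7dd77f6bd76f7df6175f75e54653f73972df3ef33d2ff15d1af06efdcfbeef4fe6f16eded7edaccecf3efdee5efaeffcef6d94d66c86bf6b74abeb4cbfea3c9fe9ce876fb6fc4ecefbcf7eefcd0edfec9ef7cfeee24fd6ff6ebedeed5ccfcbdeb2eaeeb7eb9ca569e49b681c7ee7fe6be7de76c6a65745d64f67467b467e7fc78e6cc5fe53e4fe3ac35e2d43363e626e19e1fc0e3f73f91e5bfe9fbbef9ddbd2bccbfb9f7bef1f03ff3e7bdbbdc9c29bdbbfbabbbebb59a939719e38d9f3bfebe6bf9bff9ef3da1d53cb3fd3f61eabf79fdbe19debdfbc7bbf9b8bac1bf3b33afb94b9b98bb7497fb6317f37c368b5fb5794f97eb71b6db77b7a96635d15b34533a33f12fb39936b2e913b1db079fabfdbed3fb3f61eebd19dfbc9bf6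bff9e3bfd9febea1df3d53cf3bc1b33af9b7bb8ba4b9fb9b9803ff1ff3eb9fcbf7bebbd7bdc9ce9f5bfbbe73fe3f91edbdf9d2bcebbbbb59adbb29bfba719939e387b7db7a96eb7f971b6d15635b34f37317c36497bb7fb6fb58b5794993fb36b2a33533f123b1e91db0baff8f4ae88f7affae32dc2df0c50ff2fa2eeafdaf38efad68d9acfab1abe8a62bb0bd2ad89aa97a8dafeaf38ef2f50fa2e68dfad9ac7af88ffaef8fbaf4aec2d32df0cb0b62bd2a1abfabe8aaa9d897a8e07927726fa72a7d865a5b85ea42a7fa7d86927e07726b855a5ea4ca3783ba2783ca3ba2f21f21000 (tE a)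

theorem tM_lt (a : Fin 6 → ZMod 3) : tM a < 2 ^ tC.n := get_lt _ _ _

theorem supp_tw (a : Fin 6 → ZMod 3) : ternarySupport (tw a) = tC.set (tM a) := by
  have : ∀ a p, tw a p ≠ 0 ↔ tb (tM a) (tC.idx p) = true := by decide +kernel
  ext p
  rw [Coord.mem_set, ← tb_eq, ← this]
  simp [ternarySupport]

theorem card_supp_tw (a : Fin 6 → ZMod 3) : (ternarySupport (tw a)).card = pop24 (tM a) := by
  rw [supp_tw, tC.card_set24 (by decide) (tM_lt a)]

/-- the masks of the hexads. -/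
def tL : List ℕ :=
  [63, 222, 237, 243, 347, 366, 373, 413, 427, 438, 455, 504, 591, 630, 633, 667, 679, 700, 725,
   746, 791, 813, 826, 860, 867, 910, 945, 969, 978, 996, 1117, 1127, 1146, 1175, 1198, 1209,
   1227, 1268, 1295, 1331, 1340, 1366, 1385, 1434, 1445, 1484, 1489, 1506, 1566, 1579, 1589,
   1619, 1644, 1677, 1714, 1734, 1752, 1761, 1817, 1830, 1861, 1866, 1904, 1923, 1940, 1960,
   2135, 2155, 2172, 2191, 2229, 2234, 2265, 2278, 2334, 2343, 2361, 2381, 2418, 2451, 2476,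
   2506, 2516, 2529, 2589, 2606, 2611, 2650, 2661, 2710, 2729, 2755, 2764, 2800, 2827, 2868,
   2886, 2897, 2920, 2949, 2968, 2978, 3099, 3117, 3126, 3150, 3185, 3228, 3235, 3269, 3282,
   3304, 3349, 3370, 3395, 3416, 3428, 3462, 3465, 3504, 3591, 3640, 3657, 3668, 3682, 3722,
   3729, 3748, 3852, 3858, 3873, 4032]

/-- the hexads of the code. -/
abbrev tH : Set (Finset ArrayPt) := {h | ∃ x ∈ ternaryGolayCode, ternarySupport x = h ∧ h.card = 6}

theorem tL_lt : ∀ m ∈ tL, m < 2 ^ tC.n := by decide +kernel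

theorem tH_eq : tH = tC.fam tL := by
  have h1 : ∀ a, pop24 (tM a) = 6 → memN (tM a) tL = true := by decide +kernel
  have h2 : ∀ m ∈ tL, pop24 m = 6 ∧ ∃ a, tM a = m := by decide +kernel
  ext h
  constructor
  · rintro ⟨x, hx, rfl, h6⟩
    obtain ⟨a, rfl⟩ := exists_tw hx
    rw [card_supp_tw] at h6
    exact ⟨_, memN_iff.mp (h1 a h6), (supp_tw a).symm⟩
  · rintro ⟨m, hm, rfl⟩
    obtain ⟨h6, a, rfl⟩ := h2 m hm
    exact ⟨_, tw_mem a, supp_tw a, by rw [← supp_tw, card_supp_tw, h6]⟩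

theorem ncard_tH : tH.ncard = 132 := by
  rw [tH_eq, tC.ncard_fam (nodupN_sound (by decide +kernel)) tL_lt]; rfl

theorem steiner_tH : IsSteinerSystem 5 6 tH := by
  refine steiner_of_count (fun b hb => hb.choose_spec.2.2) ?_ (by rw [ncard_tH]; decide +kernel)
  have h : allL tL (fun a => allL tL fun b => bor (Nat.beq a b) (Nat.ble (pop24 (Nat.land a b)) 4)) =
      true := by decide +kernel
  rw [tH_eq]
  rintro _ ⟨a, ha, rfl⟩ _ ⟨b, hb, rfl⟩ h5
  rcases bor_iff.mp (allL_iff.mp (allL_iff.mp h a ha) b hb) with e | e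
  · rw [nbeq_iff.mp e]
  · have e' : pop24 (a &&& b) ≤ 4 := nble_iff.mp e
    rw [← Coord.set_and, tC.card_set24 (by decide) (Nat.and_lt_two_pow _ (tL_lt b hb))] at h5
    omega

end Cfsg.Agent.H14
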