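import Cfsg.Agent.H15.TC3
set_option autoImplicit false
set_option maxRecDepth 100000

namespace Cfsg.Agent.H15.Y5b
open Cfsg.Agent.H15 Cfsg.Agent.H14

noncomputable def t0_0 (i : ℕ) : ℕ := (Bool.rec (nat_lit 0xf34fc0004d2cfcb3f2cfd24930fc04c00d00073ccbf0000c804b04cc64a3cd8a4830f8c3e001cf31fc0003134f424a0cccf35291cc3d30f40053cc7f000128b3c00c43323cd0a4630f0049001cf2ffc0002f34ec248111cb3b1ccc4450cc00053cbff000120b3a00bc4462ce87321110c3a0018f2efc0004700b804604bcb391cc444330e40063cb7f00011402d01102432ce0b3804bcc380010f2dfc00e37010cc3700b4b372cdc12e010800738aff0000ac04104b064040f8b362cd8b36001ce2afc0002a30d42400cb103d2cd4b352cd400538abf000100a3400a832b40f0b342cd003f001ce28fc0002830cc23e10f4d2c20ecb330ca400538a3f0000f8a3200a043c34ac83a2cc8b320018e27fc0003d009c03c04a0d2a20e4b312cc4007389bf000098c3030c0c3028c052930c043b0018e25fc0003b009403a08e4a2f14a023804980043897f0034b80392cb802528b852708dcb2e0004e25fc00d2d00e0b2d00dca2d28b4025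2cb4007348ff00008cb2c08d843538cca2c28b03240014d23fc0003624ac02310d0e3228aca2b28ac006348bf0000d402200d012338c4a2a28a8a2a001cd20fc000202ca4b292ca4b2418c052110cc006347ff0000cc01f00c82312c8c62f28a01200010d1ffc00c2700c4a27007cb2218b8a27289c006347bf0000c001e2c98b2624983202c9822f0000d1efc00c2500bca2500b89250c7c02d00780073073f000070a242890a2430a4924147442c0018c1bfc0002c006c02b08a8c28248c9230470004306ff002c8802a248801b309c9222488922001cc1afc0001a2884a21288491d2c8462928840063067f0000a40192880a2024704260c682280000c19fc00b1f00a091f009c91b109491f00640053063f002c780260060a1e20781192878025001cb16fc00016247491d2474a21245c62424740062c57f000090015247091c288081c0c582230000b15fc00a1b008c81b0088a1f206c81b00540062c53f000084014246891a1c58a1a108091a0014b13fc00a19008001324647150878114007c0022c4ff002860a1800789181c600132460918001ca12fc00012205c817205ca172874817205c0062847f0000740112058816206871210708160014a10fc00915007001020548191c54111006c005283f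f00245001a003c814144491408648140004a0ffc00913244c019204c510006000f204c006243bf00005c00e1c4871224488161c48712001490dfc00811005800d1c4461414382151c440012437f0020408100054710184c6100034710000090cfc0080f203c0141c3c30d203c0130030005202ff001c38012002c60e2038611183860e000080afc0070d1c34011183440f0c2c01000280042027f001c3070c1c30009042870c1c3000f0000708fc0060b182c00e142c70b103450b00200041c1ff00182860a18280070830108182800d000c707fc0060918246090030007182460918240041817f0014205081420005182020a041800b0008605fc00507141c50700280090014507141c0041413f0010184061018004141850608204060004504fc0040510144050020505001c0041014000100ff000c103040c10006101040400140030014302fc00203080c0020c0c3030c0c30300100060807f000408001000c20208082020808202001c100fc0000000081010404101040410104040000003f000004000000000000000000000000) (nat_lit 0x1db7efc0007e55fd57f55fdf7f55fd57f55fc00669f7f0001fc07d51f947e79f947e51f947e001597cfc0147d01f807c4df5d7d4df537d4df400061ef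f004df137c01f527c71f127c49f007b0011779fc0127b49ed27b01e5b7b45ec17a01f000459dbf0045e917a45e807669e897709ed17a0005676fc0117945e517901eda7941e407645e400459d7f0045e117845e007575dd57845e11780011574fc0107741dd07701d1e7829e907741dc00055cff0041d907641d807a65d877401e40730001572fc0107541d507501e1b7451d507501c800051bff003dd0f743dd007771d48763dd006f001546efc00f733dcc06e41cd87315bd07301d800551b3f003dc8f7201b107265bd37215b4075001546bfc00f713dc406b41c507145b527141c400551abf003dc0f7001a927041c107041c10700015367fc00e6f39bc0673dbda7219cc56801d00064d9bf0039b806601ccf6e5db83673db8f6e0015365fc00e6d39b40653db576849c46723db40064d93f0039b006401c8f6c5d9d26c0d94f6c0019362fc00e6b01880713dacf6b3d9516b0d8c0064d83f0039a806001c116a3da8f6a3da8361001935ffc00e69017d0691d84f693da496341a40054977f0035a0d680174e6861b4f6819bce68001925cfc00d67017006f399d86c11b835d399c007496ff00016c06e3998e66599815c3998e660019259fc00d65016406d399555d41ac46c0d680074963f00016006c3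990e6455711640564e640019256fc00d630158f631d5ce633568a6911ac0074957f00015406b3988e623988d5941881560019254fc00d610150f6121a4e61398475711a8007494ff00014c06a39810603980e603980154001d251fc0005101a41521550e5f397c7563d7c0074943f00014105e4178e5e3978e5e3978352001914dfc00c5d0134068357566539744670d380074533f0001300673570d5c59902660534d5c000914cfc00066356cd5b356d55b0130d5b356c006452bf00316804a396874b4d38e633968465001d149fc000490194d59356534d398826405280014527f000190d583560d584d310580124d580019148fc00c570120e57218cd572d2c861395c007451bf000118063051c5483558b4a217c2620001146fc000623554d553554d552d24f5501180074513f000110061051465f3550d5415202600001144fc00060354cd533d4cd53354cd530110007450ff00010cf52097c3453548d52151c45e0015143fc0005f35440430d10d5135445463944006450bf0001780423d40d503540d5035401430015142fc0104f413c042353cd4f353cd4f353c0064103f002d3804035387415168d4e353845d001d03ffc0003f0174c4d3135459353425c050000140fff000170c4c3130c4c51600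5b00fcc4c001903efc00b4b00f8d4b2169141315cd4b352c00740f3f0000f005a04f453e4500c563528259000103cfc000593124c49312513f315405800f000740ebf0000e805704ec656312093e1950d48001d039fc00039391c2560cecc4724f4652351c00540e7f000158c4600e433a311893c1944055001d038fc0003839142541148c45311433b351400540e3f000150c4400e04513110c440ce80530019037fc0005200dc05104e0c43310c339094000040dff003d08050013cc423108c4231080370018f36fc00a4100d8c41213924b3104c4131040073cd3f0000d004e04d45364928c40310024d) (Nat.ble (nat_lit 1) i))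
noncomputable def blk (i : ℕ) : ℕ := (t0_0 i)
noncomputable def row (x : ℕ) : ℕ := frcN (Nat.shiftRight x (nat_lit 6)) fun b =>
  Nat.land (Nat.shiftRight (blk b) (Nat.mul (Nat.land x (nat_lit 63)) (nat_lit 154))) (nat_lit 0x3ffffffffffffffffffffffffffffffffffffff)
noncomputable def lk (x l : ℕ) : ℕ :=
  Nat.land (Nat.shiftRight (row x) (Nat.mul l (nat_lit 14))) (nat_lit 16383)
noncomputable def ap (x l : ℕ) : ℕ :=
  Nat.land (Nat.shiftRight (row x) (Nat.mul l (nat_lit 14))) (nat_lit 255)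
noncomputable def wt : Wt := (.node (nat_lit 31) (.node (nat_lit 15) (.node (nat_lit 7) (.node (nat_lit 3) (.node (nat_lit 1) (.leaf [nat_lit 0, nat_lit 7, nat_lit 0, nat_lit 7]) (.node (nat_lit 2) (.leaf [nat_lit 1, nat_lit 7, nat_lit 1, nat_lit 7]) (.leaf [nat_lit 2, nat_lit 7, nat_lit 2, nat_lit 7]))) (.node (nat_lit 5) (.node (nat_lit 4) (.leaf [nat_lit 3, nat_lit 7, nat_lit 3, nat_lit 7]) (.leaf [nat_lit 4, nat_lit 7, nat_lit 4, nat_lit 7])) (.node (nat_lit 6) (.leaf [nat_lit 5, nat_lit 7, nat_lit 5, nat_lit 7]) (.leaf [nat_lit 0, nat_lit 6, nat_lit 0, nat_lit 6])))) (.node (nat_lit 11) (.node (nat_lit 9) (.node (nat_lit 8) (.leaf [nat_lit 1, nat_lit 6, nat_lit 1, nat_lit 6]) (.leaf [nat_lit 2, nat_lit 6, nat_lit 2, nat_lit 6])) (.node (nat_lit 10) (.leaf [nat_lit 3, nat_lit 6, nat_lit 3, nat_lit 6]) (.leaf [nat_lit 4, nat_lit 6, nat_lit 4, nat_lit 6]))) (.node (nat_lit 13) (.node (nat_lit 12) (.leaf [nat_lit 7, nat_lit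 6, nat_lit 7, nat_lit 6, nat_lit 7, nat_lit 6]) (.leaf [nat_lit 1, nat_lit 5, nat_lit 1, nat_lit 5])) (.node (nat_lit 14) (.leaf [nat_lit 2, nat_lit 5, nat_lit 2, nat_lit 5]) (.leaf [nat_lit 3, nat_lit 5, nat_lit 3, nat_lit 5]))))) (.node (nat_lit 23) (.node (nat_lit 19) (.node (nat_lit 17) (.node (nat_lit 16) (.leaf [nat_lit 4, nat_lit 5, nat_lit 4, nat_lit 5]) (.leaf [nat_lit 7, nat_lit 5, nat_lit 7, nat_lit 5])) (.node (nat_lit 18) (.leaf [nat_lit 6, nat_lit 5, nat_lit 6, nat_lit 5, nat_lit 6, nat_lit 5]) (.leaf [nat_lit 2, nat_lit 0, nat_lit 2, nat_lit 0]))) (.node (nat_lit 21) (.node (nat_lit 20) (.leaf [nat_lit 3, nat_lit 0, nat_lit 3, nat_lit 0]) (.leaf [nat_lit 6, nat_lit 0, nat_lit 6, nat_lit 0])) (.node (nat_lit 22) (.leaf [nat_lit 7, nat_lit 0, nat_lit 7, nat_lit 0]) (.leaf [nat_lit 5, nat_lit 0, nat_lit 5, nat_lit 0, nat_lit 5, nat_lit 0])))) (.node (nat_lit 27) (.node (nat_lit 25) (.node (nat_lit 24) (.leaf [nat_lit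 3, nat_lit 1, nat_lit 3, nat_lit 1]) (.leaf [nat_lit 5, nat_lit 1, nat_lit 5, nat_lit 1])) (.node (nat_lit 26) (.leaf [nat_lit 6, nat_lit 1, nat_lit 6, nat_lit 1]) (.leaf [nat_lit 7, nat_lit 1, nat_lit 7, nat_lit 1]))) (.node (nat_lit 29) (.node (nat_lit 28) (.leaf [nat_lit 0, nat_lit 1, nat_lit 0, nat_lit 1, nat_lit 0, nat_lit 1]) (.leaf [nat_lit 2, nat_lit 4, nat_lit 2, nat_lit 4])) (.node (nat_lit 30) (.leaf [nat_lit 3, nat_lit 4, nat_lit 3, nat_lit 4]) (.leaf [nat_lit 5, nat_lit 4, nat_lit 5, nat_lit 4])))))) (.node (nat_lit 46) (.node (nat_lit 38) (.node (nat_lit 34) (.node (nat_lit 32) (.leaf [nat_lit 6, nat_lit 4, nat_lit 6, nat_lit 4]) (.node (nat_lit 33) (.leaf [nat_lit 7, nat_lit 4, nat_lit 7, nat_lit 4]) (.leaf [nat_lit 0, nat_lit 4, nat_lit 0, nat_lit 4, nat_lit 0, nat_lit 4]))) (.node (nat_lit 36) (.node (nat_lit 35) (.leaf [nat_lit 0, nat_lit 2, nat_lit 0, nat_lit 2]) (.leaf [nat_lit 5, nat_lit 2, nat_lit 5,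 nat_lit 2])) (.node (nat_lit 37) (.leaf [nat_lit 6, nat_lit 2, nat_lit 6, nat_lit 2]) (.leaf [nat_lit 7, nat_lit 2, nat_lit 7, nat_lit 2])))) (.node (nat_lit 42) (.node (nat_lit 40) (.node (nat_lit 39) (.leaf [nat_lit 1, nat_lit 2, nat_lit 1, nat_lit 2, nat_lit 1, nat_lit 2]) (.leaf [nat_lit 1, nat_lit 4, nat_lit 1, nat_lit 4])) (.node (nat_lit 41) (.leaf [nat_lit 1, nat_lit 1]) (.leaf [nat_lit 0, nat_lit 3, nat_lit 0, nat_lit 3]))) (.node (nat_lit 44) (.node (nat_lit 43) (.leaf [nat_lit 1, nat_lit 3, nat_lit 1, nat_lit 3]) (.leaf [nat_lit 5, nat_lit 3, nat_lit 5, nat_lit 3])) (.node (nat_lit 45) (.leaf [nat_lit 6, nat_lit 3, nat_lit 6, nat_lit 3]) (.leaf [nat_lit 7, nat_lit 3, nat_lit 7, nat_lit 3]))))) (.node (nat_lit 54) (.node (nat_lit 50) (.node (nat_lit 48) (.node (nat_lit 47) (.leaf [nat_lit 2, nat_lit 3, nat_lit 2, nat_lit 3, nat_lit 2, nat_lit 3]) (.leaf [nat_lit 2, nat_lit 2])) (.node (nat_lit 49) (.leaf [nat_lit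 1, nat_lit 0, nat_lit 1, nat_lit 0, nat_lit 1, nat_lit 0]) (.leaf [nat_lit 4, nat_lit 0, nat_lit 4, nat_lit 0, nat_lit 4, nat_lit 0]))) (.node (nat_lit 52) (.node (nat_lit 51) (.leaf [nat_lit 3, nat_lit 3]) (.leaf [nat_lit 0, nat_lit 5, nat_lit 0, nat_lit 5, nat_lit 0, nat_lit 5])) (.node (nat_lit 53) (.leaf [nat_lit 4, nat_lit 1, nat_lit 4, nat_lit 1]) (.leaf [nat_lit 2, nat_lit 1, nat_lit 2, nat_lit 1, nat_lit 2, nat_lit 1])))) (.node (nat_lit 58) (.node (nat_lit 56) (.node (nat_lit 55) (.leaf [nat_lit 5, nat_lit 6, nat_lit 5, nat_lit 6, nat_lit 5, nat_lit 6]) (.leaf [nat_lit 6, nat_lit 7, nat_lit 6, nat_lit 7, nat_lit 6, nat_lit 7])) (.node (nat_lit 57) (.leaf [nat_lit 4, nat_lit 2, nat_lit 4, nat_lit 2]) (.leaf [nat_lit 3, nat_lit 2, nat_lit 3, nat_lit 2, nat_lit 3, nat_lit 2]))) (.node (nat_lit 60) (.node (nat_lit 59) (.leaf [nat_lit 0, nat_lit 0]) (.leaf [nat_lit 4, nat_lit 4])) (.node (nat_lit 61) (.leaf [nat_lit 5,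 nat_lit 5]) (.leaf [nat_lit 0, nat_lit 1, nat_lit 5, nat_lit 4, nat_lit 2, nat_lit 6, nat_lit 3, nat_lit 0, nat_lit 1, nat_lit 5, nat_lit 4, nat_lit 2, nat_lit 6, nat_lit 3, nat_lit 0, nat_lit 1, nat_lit 5, nat_lit 4, nat_lit 2, nat_lit 6, nat_lit 3, nat_lit 0, nat_lit 1, nat_lit 5, nat_lit 4, nat_lit 2, nat_lit 6, nat_lit 3, nat_lit 7, nat_lit 3, nat_lit 6, nat_lit 2, nat_lit 4, nat_lit 5, nat_lit 1, nat_lit 0, nat_lit 3, nat_lit 6, nat_lit 2, nat_lit 4, nat_lit 5, nat_lit 1, nat_lit 0, nat_lit 3, nat_lit 6, nat_lit 2, nat_lit 4, nat_lit 5, nat_lit 1, nat_lit 0, nat_lit 3, nat_lit 6, nat_lit 2, nat_lit 4, nat_lit 5, nat_lit 1, nat_lit 0, nat_lit 3, nat_lit 6, nat_lit 2, nat_lit 4, nat_lit 5, nat_lit 1, nat_lit 0, nat_lit 3, nat_lit 6, nat_lit 2, nat_lit 4, nat_lit 5, nat_lit 1, nat_lit 0, nat_lit 3, nat_lit 6, nat_lit 2, nat_lit 4, nat_lit 5, nat_lit 1, nat_lit 0, nat_lit 3, nat_lit 6, nat_lit 2, nat_lit 4, nat_lit 5, nat_lit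 1, nat_lit 0, nat_lit 3, nat_lit 6, nat_lit 2, nat_lit 4, nat_lit 5, nat_lit 1, nat_lit 0, nat_lit 7, nat_lit 0, nat_lit 1, nat_lit 5, nat_lit 4, nat_lit 2, nat_lit 6, nat_lit 3, nat_lit 0, nat_lit 1, nat_lit 5, nat_lit 4, nat_lit 2, nat_lit 6, nat_lit 3, nat_lit 0, nat_lit 1, nat_lit 5, nat_lit 4, nat_lit 2, nat_lit 6, nat_lit 3, nat_lit 0, nat_lit 1, nat_lit 5, nat_lit 4, nat_lit 2, nat_lit 6, nat_lit 3, nat_lit 0, nat_lit 1, nat_lit 5, nat_lit 4, nat_lit 2, nat_lit 6, nat_lit 3])))))))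
noncomputable def P : TCP where
  lk := lk
  inv := (fun l => l)
  wt := wt.get
  gens := [nat_lit 0, nat_lit 1, nat_lit 2, nat_lit 3, nat_lit 4, nat_lit 5, nat_lit 6, nat_lit 7]
  N := nat_lit 128
  n := nat_lit 128
  eps := nat_lit 8
  VM := nat_lit 255
  Wv := nat_lit 8
  MAXB := nat_lit 16128
  JM := nat_lit 255
  Wj := nat_lit 8
  Hm := nat_lit 127
def ls : List Nat := [nat_lit 0, nat_lit 1, nat_lit 2, nat_lit 3, nat_lit 4, nat_lit 5, nat_lit 6, nat_lit 7, nat_lit 8]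
def cl1 : Cl := (.gen (nat_lit 0) (.gen (nat_lit 1) (.gen (nat_lit 2) (.gen (nat_lit 3) (.gen (nat_lit 4) (.gen (nat_lit 5) (.gen (nat_lit 6) (.gen (nat_lit 7) (.opt (nat_lit 8) .nil)))))))))
def cl2 : Cl := (.opt (nat_lit 0) (.opt (nat_lit 1) (.opt (nat_lit 2) (.opt (nat_lit 3) (.opt (nat_lit 4) (.opt (nat_lit 5) (.opt (nat_lit 6) (.opt (nat_lit 7) (.opt (nat_lit 8) .nil)))))))))
noncomputable def chk : ℕ → List ℕ → ℕ → Bool :=
  rows2 (nat_lit 128) (parOk P) (cols2 lk (nat_lit 16128) (nat_lit 128) (nat_lit 128) (ent1 (nat_lit 255) (nat_lit 255) (nat_lit 8) (decJ wt.get)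
    (ent2 lk (nat_lit 255) (special P) (slowE lk (fun l => l) (nat_lit 128) (nat_lit 8) (nat_lit 255) (nat_lit 10))))) cl1 cl2
theorem rg {x y : ℕ} (Js : List ℕ) (h : chk y Js x = true) : RowsGood P ls x y :=
  rowsGood_of2 (c1 := cl1) (c2 := cl2) (by decide +kernel) h
def bases : List (List Nat × Nat) := [([0, 0], 1), ([0, 1], 3), ([0, 2], 2), ([0, 3], 2), ([0, 4], 3), ([0, 5], 3), ([0, 6], 2), ([0, 7], 2), ([1, 1], 1), ([1, 2], 3), ([1, 3], 2), ([1, 4], 2), ([1, 5], 2), ([1, 6], 2), ([1, 7], 2), ([2, 2], 1), ([2, 3], 3), ([2, 4], 2), ([2, 5], 2), ([2, 6], 2), ([2, 7], 2), ([3, 3], 1), ([3, 4], 2), ([3, 5], 2), ([3, 6], 2), ([3, 7], 2), ([4, 4], 1), ([4, 5], 2), ([4, 6], 2), ([4, 7], 2), ([5, 5], 1), ([5, 6], 3), ([5, 7], 2), ([6, 6], 1), ([6, 7], 3), ([7, 7], 1), ([0, 1, 5, 4, 2, 6, 3, 0, 1, 5, 4, 2, 6, 3, 0, 1, 5, 4, 2, 6, 3, 0, 1, 5, 4, 2, 6, 3, 0, 1, 5, 4, 2, 6, 3, 0, 1, 5, 4, 2, 6, 3, 0, 1, 5, 4, 2, 6, 3, 0, 1, 5, 4,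 2, 6, 3, 0, 1, 5, 4, 2, 6, 3, 7, 3, 6, 2, 4, 5, 1, 0, 3, 6, 2, 4, 5, 1, 0, 3, 6, 2, 4, 5, 1, 0, 3, 6, 2, 4, 5, 1, 0, 3, 6, 2, 4, 5, 1, 0, 3, 6, 2, 4, 5, 1, 0, 3, 6, 2, 4, 5, 1, 0, 3, 6, 2, 4, 5, 1, 0, 3, 6, 2, 4, 5, 1, 0, 7], 1)]
noncomputable def j0 : List ℕ := nat_lit 0x102020202020202 :: nat_lit 0x10e0c0a080604 :: nat_lit 0x1a00011816141210 :: nat_lit 0x24260022201e1c01 :: nat_lit 0x2e2c30012a280100 :: nat_lit 0x383634013201003a :: nat_lit 0x444240003e3c5446 :: nat_lit 0x4e4c4a0101005048 :: nat_lit 0x444240003e625201 :: nat_lit 0x5e5c5a0100605856 :: nat_lit 0x44424000683c5201 :: nat_lit 0x2e2c01662a626400 :: nat_lit 0x444240003e3c5201 :: nat_lit 0x2e2c016668280100 :: nat_lit 0x2401002220621c6a :: nat_lit 0x2e2c01662a280100 :: nat_lit 0x3836016c686e003a :: nat_lit 0x24010022681e546a :: nat_lit 0x100701816621210 :: nat_lit 0x3836016c3201003a :: nat_lit 0x24010022201e546a :: nat_lit 0x24010022681e1c01 :: nat_lit 0x100701868145410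 :: nat_lit 0x720e0c0a620604 :: nat_lit 0x4e4c017476005048 :: nat_lit 0x2401002220621c01 :: nat_lit 0x100701816145410 :: nat_lit 0x2e01300168286400 :: nat_lit 0x100701868141278 :: nat_lit 0x720e0c68085404 :: nat_lit 0x24010022201e1c01 :: nat_lit 0x2e0130012a626400 :: nat_lit 0x100701816621278 :: nat_lit 0x720e0c0a085404 :: nat_lit 0x44014000683c5246 :: nat_lit 0x100017a68141210 :: nat_lit 0x720e0c68080678 :: nat_lit 0x2e0130012a280100 :: nat_lit 0x100701816141278 :: nat_lit 0x440140003e625246 :: nat_lit 0x100017a16621210 :: nat_lit 0x720e0c0a620678 :: nat_lit 0x100011868141210 :: nat_lit 0x126007a681e1c6a :: nat_lit 0x727c7a68080604 :: nat_lit 0x38013401326e003a :: nat_lit 0x440140003e3c5446 :: nat_lit 0x100017a16145410 :: nat_lit 0x720e0c0a080678 :: nat_lit 0x100011816621210 :: nat_lit 0x126007a20621c6a :: nat_lit 0x727c7a0a620604 :: nat_lit 0x1260022681e1c01 :: nat_lit 0x727c0c68080604 :: nat_lit 0x10e7a68080604 :: nat_lit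 0x440140003e3c5201 :: nat_lit 0x100017a16141210 :: nat_lit 0x100011816145410 :: nat_lit 0x126007a201e546a :: nat_lit 0x727c7a0a085404 :: nat_lit 0x126002220621c01 :: nat_lit 0x727c0c0a620604 :: nat_lit 0x10e7a0a620604 :: nat_lit 0x12c306668280100 :: nat_lit 0x10e0c68080678 :: nat_lit 0x1a00707a68141210 :: nat_lit 0x2e0101662a286400 :: nat_lit 0x100011816141278 :: nat_lit 0x126007a201e1c01 :: nat_lit 0x727c7a0a080604 :: nat_lit 0x1260022201e5401 :: nat_lit 0x727c0c0a085404 :: nat_lit 0x10e7a0a085404 :: nat_lit 0x12c30662a620100 :: nat_lit 0x10e0c0a620678 :: nat_lit 0x1a00707a16621210 :: nat_lit 0x136346c6801003a :: nat_lit 0x10e0c68085404 :: nat_lit 0x1a00701868141278 :: nat_lit 0x24260022201e1c6a :: nat_lit 0x100301816141210 :: nat_lit 0x1260022201e1c7e :: nat_lit 0x727c0c0a080678 :: nat_lit 0x12c30662a286400 :: nat_lit 0x10e7a0a080678 :: nat_lit 0x12c30662a286400 :: nat_lit 0x10e0c0a085478 :: nat_lit 0x1a00707a16145410 ::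 nat_lit 0x136346c326e003a :: nat_lit 0x10e0c0a625404 :: nat_lit 0x1a00701816621278 :: nat_lit 0x14c4a7476005048 :: nat_lit 0x10e0c68620604 :: nat_lit 0x1a00011868145410 :: nat_lit 0x720e0c0a080604 :: nat_lit 0x10e0c0a080604 :: nat_lit 0x10e0c0a080604 :: nat_lit 0x1a00707a16141278 :: nat_lit 0x10e0c0a080604 :: nat_lit 0x1a00701816145478 :: nat_lit 0x10e0c0a080604 :: nat_lit 0x1a00011816625410 :: nat_lit 0x10e0c0a080604 :: nat_lit 0x1a00011868621210 :: nat_lit 0x24260022681e546a :: nat_lit 0x1a00701816141210 :: nat_lit 0x1a00011816141210 :: nat_lit 0x1a00011816141210 :: nat_lit 0x1a00011816141210 :: nat_lit 0x242600222062546a :: nat_lit 0x1a00011816141210 :: nat_lit 0x2426002268621c01 :: nat_lit 0x24260022201e1c6a :: nat_lit 0x24260022201e1c6a :: nat_lit 0x24260022201e1c01 :: nat_lit 0x24260022201e1c01 :: nat_lit 0x2e2c300168626400 :: nat_lit 0x2e2c30012a286400 :: nat_lit 0x2e2c30012a280100 :: nat_lit 0x4442400068625246 ::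 nat_lit 0x444240003e3c5246 :: nat_lit 0x38363401326e003a :: nat_lit 0x444240003e3c5446 :: nat_lit 0x444240003e3c5201 :: nat_lit 0x2e2c01662a286400 :: nat_lit 0x24010022201e1c6a :: nat_lit 0x100701816141210 :: nat_lit 0x720e0c0a080604 :: []
theorem c0 : RowsGood P ls 0 128 := rg j0 (by decide +kernel)
theorem f0 : RowsGood P ls 0 128 :=
  c0
theorem good : RowsGood P (List.range (P.eps + 1)) 0 P.N :=
  (f0 : RowsGood P ls 0 128)
theorem idx {G : Type*} [Group G] {E : ℕ → G} {inv : ℕ → ℕ} (hi : ∀ l, E (inv l) = (E l)⁻¹)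
    {B : List (List ℕ × ℕ)} (hB : ∀ p ∈ B, lprod E p.1 ^ p.2 = 1) (σ : List (List ℕ))
    {hs ks : List (List ℕ)} (hc : certOk P wt bases inv B σ hs ks = true) :
    (gp E hs).relIndex (gp E ks) ≠ 0 ∧ (gp E hs).relIndex (gp E ks) ≤ 128 :=
  tc_gp hi hB rfl (fun _ h => rfl) good σ hc

end Cfsg.Agent.H15.Y5b
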