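import Cfsg.Agent.H15.TC3
set_option autoImplicit false
set_option maxRecDepth 100000

namespace Cfsg.Agent.H15.Y5e7
open Cfsg.Agent.H15 Cfsg.Agent.H14

noncomputable def t0_0 (_i : ℕ) : ℕ := (nat_lit 0x7bdbe0577aef5dc1b577aef5dc016b5f814da9b53606e0d69b5360039d3e04f59eb3d69a8360693d400633f812d25a4b49e93d01a83300b7c7e04730623ca59cb39660d002db0f810c8181338e51ca3947200d6bfe002f0661c238c718e31c40356df800b4190b18610c21806e0095b7e003185e0b617c2f85f0bc0352bf800ae1742e7dcfb8760b00014afe00307da0bdf6bed7da0ac034e9f800a5f63ec7587a8973ec00b3a3e002e050fadd5bab0d20b4034a6f80099d53aa7ce8b1d53aa00b297e002c04aea5b4966156ea400ca5f80fa015ba86d0da012ba800d193e00246ced9e153676ced9c02c63f800a811b666c86a5b336600118be03a5052d95928e305008802c21f8009c10b2474cc9192324001083e036304cc8d709256460800241ff80d89b101f5c4181b1025000f7be0321048b8591ae15c2078023dcf80c819001c4bc2882e823004f73e031f63e0894f81c63ec7c0239af80b796f01a54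0a782d821008e67e02dd5ba064edb1d140b7400b99f80b716e0203b407c0cadc008d5fe029b53605d0e9d813ca6c00b57f80a694d01e4389680ba9a000d5be0299532074abad903805802315f809612c0155b086d2c258000c53e02574ae06ccc95503405002b13f8095809a961a8a594b019000b4be021542a0614a99742a04802ad1f8085008a5422c3492a01700cb43e001002c94c28a534a694c02a8ef80748072124a44506781500ca37e000d0288444984e42284401a8df8004d0821001a8410821000a933e018f01873d07a0f22473c0324bf8002c091ce41c244261ce00492fe001139a7340800b39a73403209f800240798c3987304704a002827e000e31662ce580d01262c031c7f8001cc50c8314628c508c00071fe000c292524c498901601c03186f80018a410a290520a414800a617e000a00a118a394728e02402944f800200208720c41883106008513e014500e0108290520a41400103f80410030051883106200300230be00c318630c4188300401001081f802084108208400401882006103e00410821040000208210400000f800000000000200000000)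
noncomputable def blk (i : ℕ) : ℕ := (t0_0 i)
noncomputable def row (x : ℕ) : ℕ := frcN (Nat.shiftRight x (nat_lit 6)) fun b =>
  Nat.land (Nat.shiftRight (blk b) (Nat.mul (Nat.land x (nat_lit 63)) (nat_lit 110))) (nat_lit 0x3fffffffffffffffffffffffffff)
noncomputable def lk (x l : ℕ) : ℕ :=
  Nat.land (Nat.shiftRight (row x) (Nat.mul l (nat_lit 11))) (nat_lit 2047)
noncomputable def ap (x l : ℕ) : ℕ :=
  Nat.land (Nat.shiftRight (row x) (Nat.mul l (nat_lit 11))) (nat_lit 63)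
noncomputable def wt : Wt := (.node (nat_lit 23) (.node (nat_lit 11) (.node (nat_lit 5) (.node (nat_lit 2) (.node (nat_lit 1) (.leaf [nat_lit 0, nat_lit 3, nat_lit 0, nat_lit 3]) (.leaf [nat_lit 1, nat_lit 3, nat_lit 1, nat_lit 3])) (.node (nat_lit 3) (.leaf [nat_lit 4, nat_lit 3, nat_lit 4, nat_lit 3]) (.node (nat_lit 4) (.leaf [nat_lit 5, nat_lit 3, nat_lit 5, nat_lit 3]) (.leaf [nat_lit 6, nat_lit 3, nat_lit 6, nat_lit 3])))) (.node (nat_lit 8) (.node (nat_lit 6) (.leaf [nat_lit 0, nat_lit 2, nat_lit 0, nat_lit 2]) (.node (nat_lit 7) (.leaf [nat_lit 4, nat_lit 2, nat_lit 4, nat_lit 2]) (.leaf [nat_lit 5, nat_lit 2, nat_lit 5, nat_lit 2]))) (.node (nat_lit 9) (.leaf [nat_lit 6, nat_lit 2, nat_lit 6, nat_lit 2]) (.node (nat_lit 10) (.leaf [nat_lit 3, nat_lit 2, nat_lit 3, nat_lit 2, nat_lit 3, nat_lit 2]) (.leaf [nat_lit 3, nat_lit 1, nat_lit 3, nat_lit 1]))))) (.node (nat_lit 17) (.node (nat_lit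 14) (.node (nat_lit 12) (.leaf [nat_lit 4, nat_lit 1, nat_lit 4, nat_lit 1]) (.node (nat_lit 13) (.leaf [nat_lit 5, nat_lit 1, nat_lit 5, nat_lit 1]) (.leaf [nat_lit 6, nat_lit 1, nat_lit 6, nat_lit 1]))) (.node (nat_lit 15) (.leaf [nat_lit 2, nat_lit 1, nat_lit 2, nat_lit 1, nat_lit 2, nat_lit 1]) (.node (nat_lit 16) (.leaf [nat_lit 2, nat_lit 0, nat_lit 2, nat_lit 0]) (.leaf [nat_lit 3, nat_lit 0, nat_lit 3, nat_lit 0])))) (.node (nat_lit 20) (.node (nat_lit 18) (.leaf [nat_lit 6, nat_lit 0, nat_lit 6, nat_lit 0]) (.node (nat_lit 19) (.leaf [nat_lit 1, nat_lit 0, nat_lit 1, nat_lit 0, nat_lit 1, nat_lit 0]) (.leaf [nat_lit 1, nat_lit 4, nat_lit 1, nat_lit 4]))) (.node (nat_lit 21) (.leaf [nat_lit 2, nat_lit 4, nat_lit 2, nat_lit 4]) (.node (nat_lit 22) (.leaf [nat_lit 3, nat_lit 4, nat_lit 3, nat_lit 4]) (.leaf [nat_lit 6, nat_lit 4, nat_lit 6, nat_lit 4])))))) (.node (nat_lit 35) (.node (nat_lit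 29) (.node (nat_lit 26) (.node (nat_lit 24) (.leaf [nat_lit 0, nat_lit 4, nat_lit 0, nat_lit 4, nat_lit 0, nat_lit 4]) (.node (nat_lit 25) (.leaf [nat_lit 1, nat_lit 5, nat_lit 1, nat_lit 5]) (.leaf [nat_lit 2, nat_lit 5, nat_lit 2, nat_lit 5]))) (.node (nat_lit 27) (.leaf [nat_lit 3, nat_lit 5, nat_lit 3, nat_lit 5]) (.node (nat_lit 28) (.leaf [nat_lit 0, nat_lit 5, nat_lit 0, nat_lit 5, nat_lit 0, nat_lit 5]) (.leaf [nat_lit 4, nat_lit 5, nat_lit 4, nat_lit 5])))) (.node (nat_lit 32) (.node (nat_lit 30) (.leaf [nat_lit 4, nat_lit 4]) (.node (nat_lit 31) (.leaf [nat_lit 0, nat_lit 6, nat_lit 0, nat_lit 6]) (.leaf [nat_lit 1, nat_lit 6, nat_lit 1, nat_lit 6]))) (.node (nat_lit 33) (.leaf [nat_lit 2, nat_lit 6, nat_lit 2, nat_lit 6]) (.node (nat_lit 34) (.leaf [nat_lit 3, nat_lit 6, nat_lit 3, nat_lit 6]) (.leaf [nat_lit 5, nat_lit 6, nat_lit 5, nat_lit 6, nat_lit 5, nat_lit 6]))))) (.node (nat_lit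 41) (.node (nat_lit 38) (.node (nat_lit 36) (.leaf [nat_lit 4, nat_lit 0, nat_lit 4, nat_lit 0, nat_lit 4, nat_lit 0]) (.node (nat_lit 37) (.leaf [nat_lit 5, nat_lit 0, nat_lit 5, nat_lit 0, nat_lit 5, nat_lit 0]) (.leaf [nat_lit 4, nat_lit 6, nat_lit 4, nat_lit 6]))) (.node (nat_lit 39) (.leaf [nat_lit 0, nat_lit 1, nat_lit 0, nat_lit 1, nat_lit 0, nat_lit 1]) (.node (nat_lit 40) (.leaf [nat_lit 0, nat_lit 0]) (.leaf [nat_lit 1, nat_lit 2, nat_lit 1, nat_lit 2, nat_lit 1, nat_lit 2])))) (.node (nat_lit 44) (.node (nat_lit 42) (.leaf [nat_lit 1, nat_lit 1]) (.node (nat_lit 43) (.leaf [nat_lit 6, nat_lit 5, nat_lit 6, nat_lit 5, nat_lit 6, nat_lit 5]) (.leaf [nat_lit 2, nat_lit 3, nat_lit 2, nat_lit 3, nat_lit 2, nat_lit 3]))) (.node (nat_lit 45) (.leaf [nat_lit 2, nat_lit 2]) (.node (nat_lit 46) (.leaf [nat_lit 3, nat_lit 3]) (.leaf [nat_lit 5, nat_lit 4, nat_lit 5, nat_lit 4])))))))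
noncomputable def P : TCP where
  lk := lk
  inv := (fun l => l)
  wt := wt.get
  gens := [nat_lit 0, nat_lit 1, nat_lit 2, nat_lit 3, nat_lit 4, nat_lit 5, nat_lit 6]
  N := nat_lit 56
  n := nat_lit 56
  eps := nat_lit 7
  VM := nat_lit 63
  Wv := nat_lit 6
  MAXB := nat_lit 1984
  JM := nat_lit 127
  Wj := nat_lit 7
  Hm := nat_lit 119
def ls : List Nat := [nat_lit 0, nat_lit 1, nat_lit 2, nat_lit 3, nat_lit 4, nat_lit 5, nat_lit 6, nat_lit 7]
def cl1 : Cl := (.gen (nat_lit 0) (.gen (nat_lit 1) (.gen (nat_lit 2) (.gen (nat_lit 3) (.gen (nat_lit 4) (.gen (nat_lit 5) (.gen (nat_lit 6) (.opt (nat_lit 7) .nil))))))))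
def cl2 : Cl := (.opt (nat_lit 0) (.opt (nat_lit 1) (.opt (nat_lit 2) (.opt (nat_lit 3) (.opt (nat_lit 4) (.opt (nat_lit 5) (.opt (nat_lit 6) (.opt (nat_lit 7) .nil))))))))
noncomputable def chk : ℕ → List ℕ → ℕ → Bool :=
  rows2 (nat_lit 56) (parOk P) (cols2 lk (nat_lit 1984) (nat_lit 56) (nat_lit 56) (ent1 (nat_lit 63) (nat_lit 127) (nat_lit 7) (decJ wt.get)
    (ent2 lk (nat_lit 63) (special P) (slowE lk (fun l => l) (nat_lit 56) (nat_lit 7) (nat_lit 63) (nat_lit 8))))) cl1 cl2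
theorem rg {x y : ℕ} (Js : List ℕ) (h : chk y Js x = true) : RowsGood P ls x y :=
  rowsGood_of2 (c1 := cl1) (c2 := cl2) (by decide +kernel) h
def bases : List (List Nat × Nat) := [([0, 0], 1), ([0, 1], 3), ([0, 2], 2), ([0, 3], 2), ([0, 4], 3), ([0, 5], 3), ([0, 6], 2), ([1, 1], 1), ([1, 2], 3), ([1, 3], 2), ([1, 4], 2), ([1, 5], 2), ([1, 6], 2), ([2, 2], 1), ([2, 3], 3), ([2, 4], 2), ([2, 5], 2), ([2, 6], 2), ([3, 3], 1), ([3, 4], 2), ([3, 5], 2), ([3, 6], 2), ([4, 4], 1), ([4, 5], 2), ([4, 6], 2), ([5, 5], 1), ([5, 6], 3), ([6, 6], 1)]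
noncomputable def j0 : List ℕ := nat_lit 0x81020208102 :: nat_lit 0x305080004304 :: nat_lit 0x509102c0008e :: nat_lit 0x78e1a3080001 :: nat_lit 0x980814889400 :: nat_lit 0xc00805cb1532 :: nat_lit 0x403e70d9a3a :: nat_lit 0x403c70d9a01 :: nat_lit 0x243e8d12140 :: nat_lit 0x664a4888080 :: nat_lit 0x244e8d12152 :: nat_lit 0x4e1a3004050 :: nat_lit 0xce8d12b40 :: nat_lit 0x49100202a0e :: nat_lit 0xce8d72140 :: nat_lit 0x16003c70dab3a :: nat_lit 0x45080168304 :: nat_lit 0xcebd12140 :: nat_lit 0x16003c7171a01 :: nat_lit 0xce8d12140 :: nat_lit 0x16003cbcd9a01 :: nat_lit 0x9a6014971400 :: nat_lit 0x16003c70d9a01 :: nat_lit 0x9a601bc88080 :: nat_lit 0xc30005d71532 :: nat_lit 0x9a6014888080 :: nat_lit 0x78e01bc80050 :: nat_lit 0xc3000bcb2b32 :: nat_lit 0x78e013004050 :: nat_lit 0xc30005cb2b32 :: nat_lit 0xc3000bcb1501 :: nat_lit 0x509012c02a0e :: nat_lit 0xc30005d71501 :: nat_lit 0x980cabc89400 :: nat_lit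 0xc30005cb1501 :: nat_lit 0x980ca4971400 :: nat_lit 0x403cbcd9a3a :: nat_lit 0x980ca4888080 :: nat_lit 0x403c7171a3a :: nat_lit 0x244ebd12140 :: nat_lit 0x7809a3080050 :: nat_lit 0x403c70dab3a :: nat_lit 0x244e8d72140 :: nat_lit 0x403c70d9a01 :: nat_lit 0x244e8d12b40 :: nat_lit 0x66014889400 :: nat_lit 0x244e8d12152 :: nat_lit 0x70005cb1532 :: nat_lit 0xbe8d12140 :: nat_lit 0xce8d12140 :: nat_lit 0x16003e70d9a3a :: nat_lit 0x16003c70d9a01 :: nat_lit 0x9a64a4888080 :: nat_lit 0x78e1a3004050 :: nat_lit 0x509100202a0e :: nat_lit 0x305080168304 :: []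
theorem c0 : RowsGood P ls 0 56 := rg j0 (by decide +kernel)
theorem f0 : RowsGood P ls 0 56 :=
  c0
theorem good : RowsGood P (List.range (P.eps + 1)) 0 P.N :=
  (f0 : RowsGood P ls 0 56)
theorem idx {G : Type*} [Group G] {E : ℕ → G} {inv : ℕ → ℕ} (hi : ∀ l, E (inv l) = (E l)⁻¹)
    {B : List (List ℕ × ℕ)} (hB : ∀ p ∈ B, lprod E p.1 ^ p.2 = 1) (σ : List (List ℕ))
    {hs ks : List (List ℕ)} (hc : certOk P wt bases inv B σ hs ks = true) :
    (gp E hs).relIndex (gp E ks) ≠ 0 ∧ (gp E hs).relIndex (gp E ks) ≤ 56 :=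
  tc_gp hi hB rfl (fun _ h => rfl) good σ hc

end Cfsg.Agent.H15.Y5e7
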